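import Mathlib

/-!
# The configuration of case I (`O₂(A) ≠ 1`, `K_A ≠ 1`) for primitive groups with a suborbit of length 4
-/

set_option autoImplicit false

open Pointwise

namespace Cfsg.Agent.H399

universe u

/-- `A` is a maximal subgroup of `G`, `A = N(V) = N(R)` with `V` a fours group and `R` of order 3. -/
structure CaseI {G : Type u} [Group G] (A V R : Subgroup G) (g : G) : Prop where
  sol : ¬ Group.IsSolvable G
  max : IsCoatom A
  core : A.normalCore = ⊥
  cardV : Nat.card V = 4
  expV : ∀ x ∈ V, x * x = 1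
  cardR : Nat.card R = 3
  normV : Subgroup.normalizer (V : Set G) = A
  normR : Subgroup.normalizer (R : Set G) = A
  centVR : ∀ x ∈ V, ∀ y ∈ R, x * y = y * x
  idx : (MulAut.conj g • A).relIndex A = 4
  RA : MulAut.conj g • R ≤ A
  RR : ∀ x ∈ R, ∀ y ∈ MulAut.conj g • R, x * y = y * x
  RV : ∀ y ∈ MulAut.conj g • R, (∀ x ∈ V, x * y = y * x) → y = 1

end Cfsg.Agent.H399
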