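import Mathlib
import Cfsg.Agent.Lib.Cores
import Cfsg.Agent.Lib.ProductSet

/-!
# Conjugates, normalisers, relative cores (for S3567, S3574)
-/

set_option autoImplicit false

open Pointwise

namespace Cfsg.Agent.H399

variable {G : Type*} [Group G]

/-- The normaliser. -/
abbrev Nm (X : Subgroup G) : Subgroup G := Subgroup.normalizer (X : Set G)

/-- The conjugate `x X x⁻¹`. -/
abbrev cj (x : G) (X : Subgroup G) : Subgroup G := MulAut.conj x • X

theorem mem_cj {x y : G} {X : Subgroup G} : y ∈ cj x X ↔ x⁻¹ * y * x ∈ X := by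
  rw [Subgroup.mem_pointwise_smul_iff_inv_smul_mem, ← map_inv, MulAut.smul_def, MulAut.conj_apply, inv_inv]

theorem conj_mem_cj {x y : G} {X : Subgroup G} : x * y * x⁻¹ ∈ cj x X ↔ y ∈ X := by
  rw [mem_cj]
  group

theorem cj_mul (x y : G) (X : Subgroup G) : cj (x * y) X = cj x (cj y X) := by
  rw [cj, map_mul, mul_smul]

theorem cj_one (X : Subgroup G) : cj 1 X = X := by
  rw [cj, map_one, one_smul]

theorem cj_inv_cj (x : G) (X : Subgroup G) : cj x⁻¹ (cj x X) = X := by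
  rw [← cj_mul, inv_mul_cancel, cj_one]

theorem cj_cj_inv (x : G) (X : Subgroup G) : cj x (cj x⁻¹ X) = X := by
  rw [← cj_mul, mul_inv_cancel, cj_one]

theorem cj_eq_iff {x : G} {X Y : Subgroup G} : cj x X = Y ↔ X = cj x⁻¹ Y := by
  constructor
  · rintro rfl
    rw [cj_inv_cj]
  · rintro rfl
    rw [cj_cj_inv]

theorem cj_le_cj {x : G} {X Y : Subgroup G} : cj x X ≤ cj x Y ↔ X ≤ Y :=
  Subgroup.pointwise_smul_le_pointwise_smul_iff

theorem cj_inj {x : G} {X Y : Subgroup G} : cj x X = cj x Y ↔ X = Y := by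
  constructor
  · intro h
    rw [← cj_inv_cj x X, h, cj_inv_cj]
  · rintro rfl
    rfl

theorem cj_le_iff {x : G} {X Y : Subgroup G} : cj x X ≤ Y ↔ X ≤ cj x⁻¹ Y := by
  rw [← cj_le_cj (x := x⁻¹), cj_inv_cj]

theorem cj_inf (x : G) (X Y : Subgroup G) : cj x (X ⊓ Y) = cj x X ⊓ cj x Y :=
  Subgroup.smul_inf _ _ _

theorem cj_sup (x : G) (X Y : Subgroup G) : cj x (X ⊔ Y) = cj x X ⊔ cj x Y :=
  Subgroup.smul_sup _ _ _

theorem cj_bot (x : G) : cj x (⊥ : Subgroup G) = ⊥ := Subgroup.smul_bot _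

theorem cj_eq_map (x : G) (X : Subgroup G) : cj x X = X.map (MulAut.conj x).toMonoidHom := rfl

theorem card_cj (x : G) (X : Subgroup G) : Nat.card (cj x X) = Nat.card X :=
  (Nat.card_congr (Subgroup.equivSMul (MulAut.conj x) X).toEquiv).symm

theorem relIndex_cj (x : G) (X Y : Subgroup G) : (cj x X).relIndex (cj x Y) = X.relIndex Y := by
  rw [cj_eq_map, cj_eq_map]
  exact Subgroup.relIndex_map_map_of_injective X Y (MulAut.conj x).injective

theorem relIndex_cj_left (x : G) (X Y : Subgroup G) : (cj x X).relIndex Y = X.relIndex (cj x⁻¹ Y) := by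
  rw [← relIndex_cj x⁻¹, cj_inv_cj]

theorem isPGroup_cj {p : ℕ} (x : G) {X : Subgroup G} (h : IsPGroup p X) : IsPGroup p (cj x X) := by
  rw [cj_eq_map]
  exact h.map _

theorem isPGroup_cj_iff {p : ℕ} {x : G} {X : Subgroup G} : IsPGroup p (cj x X) ↔ IsPGroup p X := by
  constructor
  · intro h
    have := isPGroup_cj x⁻¹ h
    rwa [cj_inv_cj] at this
  · exact isPGroup_cj x

theorem mem_Nm {x : G} {X : Subgroup G} : x ∈ Nm X ↔ cj x X = X := by
  rw [Subgroup.mem_normalizer_iff_map_conj_eq, cj_eq_map]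
  rfl

theorem cj_of_mem_Nm {x : G} {X : Subgroup G} (h : x ∈ Nm X) : cj x X = X := mem_Nm.1 h

theorem cj_of_mem {x : G} {X : Subgroup G} (h : x ∈ X) : cj x X = X := mem_Nm.1 (Subgroup.le_normalizer h)

theorem le_Nm {H X : Subgroup G} : H ≤ Nm X ↔ ∀ h ∈ H, ∀ k ∈ X, h * k * h⁻¹ ∈ X :=
  Subgroup.le_normalizer_iff

theorem le_Nm' {H X : Subgroup G} : H ≤ Nm X ↔ ∀ h ∈ H, cj h X = X := by
  constructor
  · intro h x hx
    exact mem_Nm.1 (h hx)
  · intro h x hx
    exact mem_Nm.2 (h x hx)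

theorem cj_Nm (x : G) (X : Subgroup G) : cj x (Nm X) = Nm (cj x X) := by
  ext y
  rw [mem_cj, mem_Nm, mem_Nm, cj_mul, cj_mul]
  constructor
  · intro h
    rw [cj_eq_iff, inv_inv] at h
    exact h
  · intro h
    rw [h, cj_inv_cj]

theorem inf_le_Nm {A X Y : Subgroup G} (hX : A ≤ Nm X) (hY : A ≤ Nm Y) : A ≤ Nm (X ⊓ Y) := by
  rw [le_Nm'] at *
  intro h hh
  rw [cj_inf, hX h hh, hY h hh]

theorem sup_le_Nm {A X Y : Subgroup G} (hX : A ≤ Nm X) (hY : A ≤ Nm Y) : A ≤ Nm (X ⊔ Y) := by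
  rw [le_Nm'] at *
  intro h hh
  rw [cj_sup, hX h hh, hY h hh]

theorem self_le_Nm (A : Subgroup G) : A ≤ Nm A := Subgroup.le_normalizer

theorem mul_mem_sup_iff {X Y : Subgroup G} (h : X ≤ Nm Y) {z : G} : z ∈ X ⊔ Y ↔ ∃ x ∈ X, ∃ y ∈ Y, x * y = z := by
  rw [← SetLike.mem_coe, Subgroup.coe_mul_of_left_le_normalizer_right X Y h, Set.mem_mul]
  rfl

theorem card_sup {H N : Subgroup G} (h : H ≤ Nm N) :
    Nat.card ↥(H ⊔ N) * Nat.card ↥(H ⊓ N) = Nat.card H * Nat.card N := by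
  rw [← Cfsg.Agent.Lib.ProductSet.card_mul_card_inf H N]
  congr 1
  have := Subgroup.coe_mul_of_left_le_normalizer_right H N h
  exact Nat.card_congr (Equiv.setCongr this)

theorem card_mul_relIndex {A C : Subgroup G} (hA : C ≤ A) : Nat.card C * C.relIndex A = Nat.card A := by
  rw [← Subgroup.relIndex_bot_left, ← Subgroup.relIndex_bot_left, Subgroup.relIndex_mul_relIndex _ _ _ bot_le hA]

theorem card_inf_mul_relIndex (A C : Subgroup G) : Nat.card ↥(C ⊓ A) * C.relIndex A = Nat.card A := by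
  rw [← Subgroup.inf_relIndex_right, card_mul_relIndex inf_le_right]

theorem relIndex_sup_of_left [Finite G] {H N : Subgroup G} (h : H ≤ Nm N) : N.relIndex (H ⊔ N) = N.relIndex H := by
  have h1 := card_sup h
  have h2 := card_mul_relIndex (le_sup_right : N ≤ H ⊔ N)
  have h3 := card_inf_mul_relIndex H N
  rw [inf_comm] at h3
  have h4 : 0 < Nat.card N := Nat.card_pos
  have h5 : 0 < Nat.card ↥(H ⊓ N) := Nat.card_pos
  rw [← h2, ← h3] at h1
  apply Nat.eq_of_mul_eq_mul_left (Nat.mul_pos h4 h5)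
  linarith

theorem relIndex_sup_of_right [Finite G] {H N : Subgroup G} (h : H ≤ Nm N) : H.relIndex (H ⊔ N) = H.relIndex N := by
  have h1 := card_sup h
  have h2 := card_mul_relIndex (le_sup_left : H ≤ H ⊔ N)
  have h3 := card_inf_mul_relIndex N H
  have h4 : 0 < Nat.card H := Nat.card_pos
  have h5 : 0 < Nat.card ↥(H ⊓ N) := Nat.card_pos
  rw [← h2, ← h3] at h1
  apply Nat.eq_of_mul_eq_mul_left (Nat.mul_pos h4 h5)
  linarith

/-! ### relative cores -/

/-- The `A`-core of `C`: the largest subgroup of `C` normalised by `A`. -/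
def core (A C : Subgroup G) : Subgroup G := ⨅ a : A, cj (a : G) C

theorem mem_core {A C : Subgroup G} {x : G} : x ∈ core A C ↔ ∀ a ∈ A, a * x * a⁻¹ ∈ C := by
  rw [core, Subgroup.mem_iInf]
  constructor
  · intro h a ha
    have := h ⟨a⁻¹, A.inv_mem ha⟩
    rw [mem_cj] at this
    simpa using this
  · intro h a
    rw [mem_cj]
    have := h (a : G)⁻¹ (A.inv_mem a.2)
    simpa using this

theorem core_le (A C : Subgroup G) : core A C ≤ C := fun x hx => by
  have := mem_core.1 hx 1 A.one_mem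
  simpa using this

theorem le_Nm_core (A C : Subgroup G) : A ≤ Nm (core A C) := by
  rw [le_Nm]
  intro h hh k hk
  rw [mem_core] at *
  intro a ha
  have := hk (a * h) (A.mul_mem ha hh)
  simpa [mul_assoc] using this

theorem le_core {A C X : Subgroup G} (h : X ≤ C) (hA : A ≤ Nm X) : X ≤ core A C := by
  intro x hx
  rw [mem_core]
  intro a ha
  exact h (le_Nm.1 hA a ha x hx)

theorem cj_core (x : G) (A C : Subgroup G) : cj x (core A C) = core (cj x A) (cj x C) := by
  ext y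
  rw [mem_cj, mem_core, mem_core]
  constructor
  · intro h a ha
    rw [mem_cj] at ha ⊢
    have := h _ ha
    simpa [mul_assoc] using this
  · intro h a ha
    have := h (x * a * x⁻¹) (conj_mem_cj.2 ha)
    rw [mem_cj] at this
    simpa [mul_assoc] using this

/-! ### relative normal closures -/

/-- The normal closure of `X` under `A`. -/
def ncl (A X : Subgroup G) : Subgroup G := ⨆ a : A, cj (a : G) X

theorem cj_le_ncl {A X : Subgroup G} {a : G} (ha : a ∈ A) : cj a X ≤ ncl A X :=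
  le_iSup (fun a : A => cj (a : G) X) ⟨a, ha⟩

theorem le_ncl (A X : Subgroup G) : X ≤ ncl A X := by
  have := cj_le_ncl (X := X) A.one_mem
  rwa [cj_one] at this

theorem ncl_le {A X Y : Subgroup G} (h : X ≤ Y) (hA : A ≤ Nm Y) : ncl A X ≤ Y := by
  refine iSup_le fun a => ?_
  rw [← le_Nm'.1 hA a a.2, cj_le_cj]
  exact h

theorem ncl_le' {A X Y : Subgroup G} (h : ∀ a ∈ A, cj a X ≤ Y) : ncl A X ≤ Y :=
  iSup_le fun a => h a a.2

theorem le_Nm_ncl (A X : Subgroup G) : A ≤ Nm (ncl A X) := by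
  rw [le_Nm']
  intro h hh
  have key : ∀ h ∈ A, cj h (ncl A X) ≤ ncl A X := by
    intro h hh
    rw [cj_le_iff]
    refine iSup_le fun a => ?_
    rw [← cj_le_cj (x := h), cj_cj_inv, ← cj_mul]
    exact cj_le_ncl (A.mul_mem hh a.2)
  refine le_antisymm (key h hh) ?_
  have := key h⁻¹ (A.inv_mem hh)
  rw [cj_le_iff, inv_inv] at this
  exact this

theorem cj_ncl (x : G) (A X : Subgroup G) : cj x (ncl A X) = ncl (cj x A) (cj x X) := by
  have key : ∀ (x : G) (A X : Subgroup G), cj x (ncl A X) ≤ ncl (cj x A) (cj x X) := by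
    intro x A X
    rw [cj_le_iff]
    refine iSup_le fun a => ?_
    rw [← cj_le_cj (x := x), cj_cj_inv]
    have h1 : x * a * x⁻¹ ∈ cj x A := conj_mem_cj.2 a.2
    have h2 := cj_le_ncl (X := cj x X) h1
    rw [← cj_mul] at h2 ⊢
    simpa [mul_assoc] using h2
  refine le_antisymm (key x A X) ?_
  have := key x⁻¹ (cj x A) (cj x X)
  rw [cj_inv_cj, cj_inv_cj, cj_le_iff, inv_inv] at this
  exact this

/-! ### `O_p` -/

/-- `O_p(H)` as a subgroup of `G`. -/
def Op (p : ℕ) (H : Subgroup G) : Subgroup G := (Cfsg.pCore p ↥H).map H.subtype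

theorem Op_le (p : ℕ) (H : Subgroup G) : Op p H ≤ H := Subgroup.map_subtype_le _

theorem isPGroup_Op (p : ℕ) (H : Subgroup G) : IsPGroup p (Op p H) :=
  (Lib.Cores.pCore_isPGroup p).map _

theorem le_Op {p : ℕ} {H X : Subgroup G} (hX : X ≤ H) (hH : H ≤ Nm X) (hp : IsPGroup p X) : X ≤ Op p H := by
  have h1 : (X.subgroupOf H).Normal := (Subgroup.normal_subgroupOf_iff_le_normalizer hX).2 hH
  have h2 : IsPGroup p (X.subgroupOf H) := hp.comap_of_injective _ H.subtype_injective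
  have h3 := Lib.Cores.le_pCore h1 h2
  have h4 := Subgroup.map_mono (f := H.subtype) h3
  rwa [Subgroup.subgroupOf_map_subtype, inf_of_le_left hX] at h4

theorem le_Nm_Op (p : ℕ) (H : Subgroup G) : H ≤ Nm (Op p H) := by
  have h1 : ((Op p H).subgroupOf H).Normal := by
    rw [Op, Subgroup.subgroupOf, Subgroup.comap_map_eq_self_of_injective H.subtype_injective]
    exact Lib.Cores.pCore_normal p
  exact (Subgroup.normal_subgroupOf_iff_le_normalizer (Op_le p H)).1 h1

theorem cj_Op (p : ℕ) (x : G) (H : Subgroup G) : cj x (Op p H) = Op p (cj x H) := by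
  have key : ∀ (x : G) (H : Subgroup G), cj x (Op p H) ≤ Op p (cj x H) := by
    intro x H
    refine le_Op (cj_le_cj.2 (Op_le p H)) ?_ (isPGroup_cj x (isPGroup_Op p H))
    rw [← cj_Nm, cj_le_cj]
    exact le_Nm_Op p H
  refine le_antisymm (key x H) ?_
  have := key x⁻¹ (cj x H)
  rw [cj_inv_cj, cj_le_iff, inv_inv] at this
  exact this

theorem Nm_le_Nm_Op (p : ℕ) (H : Subgroup G) : Nm H ≤ Nm (Op p H) := by
  rw [le_Nm']
  intro h hh
  rw [cj_Op, cj_of_mem_Nm hh]

end Cfsg.Agent.H399
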