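import Cfsg.Agent.H399.Pair
import Cfsg.Agent.S0144
import Cfsg.Agent.S0044

/-!
# The case `O_2(A) = 1`, first part

`A` is a `{2,3}`-group, `K_A ∩ K_B = O_3(A) ∩ O_3(B)`.
-/

set_option autoImplicit false
set_option linter.unusedSectionVars false
set_option linter.unnecessarySeqFocus false

open Pointwise

namespace Cfsg.Agent.H399

variable {G : Type*} [Group G]

theorem pow_relIndex_mem {H L : Subgroup G} (hL : L ≤ Nm H) {g : G} (hg : g ∈ L) : g ^ H.relIndex L ∈ H := by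
  have h1 : (H.subgroupOf L).Normal := Subgroup.normal_subgroupOf_of_le_normalizer hL
  have h2 := Subgroup.pow_index_mem (H.subgroupOf L) (⟨g, hg⟩ : L)
  exact h2

/-- An element of `H` some power of which, prime to its order, lies in `H`. -/
theorem mem_of_pow_mem {H : Subgroup G} {x : G} {m n : ℕ} (hc : m.Coprime n) (h1 : x ^ m = 1) (h2 : x ^ n ∈ H) :
    x ∈ H := by
  have h3 := Nat.gcd_eq_gcd_ab m n
  rw [hc.gcd_eq_one] at h3
  have h4 : x = (x ^ m) ^ (Nat.gcdA m n) * (x ^ n) ^ (Nat.gcdB m n) := by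
    rw [← zpow_natCast, ← zpow_natCast, ← zpow_mul, ← zpow_mul, ← zpow_add, ← h3]
    simp
  rw [h4, h1, one_zpow, one_mul]
  exact H.zpow_mem h2 _

/-- If the elements of `A` with a conjugation invariant property are those of `B`, then there are none (except 1). -/
theorem pred_trivial {A B : Subgroup G} (U : ∀ X ≤ A ⊓ B, A ≤ Nm X → B ≤ Nm X → X = ⊥) {P : G → Prop}
    (hP : ∀ g x, P x → P (g * x * g⁻¹)) (h1 : ∀ x ∈ A, P x → x ∈ B) (h2 : ∀ x ∈ B, P x → x ∈ A) :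
    ∀ x ∈ A, P x → x = 1 := by
  have h3 : Subgroup.closure {x | x ∈ A ⊓ B ∧ P x} = ⊥ := by
    refine U _ ?_ ?_ ?_
    · rw [Subgroup.closure_le]
      rintro x ⟨hx, -⟩
      exact hx
    · rw [Nm, Subgroup.le_normalizer_closure_iff]
      rintro a ha x ⟨hx, hx'⟩
      have h4 := hP a x hx'
      have h5 : a * x * a⁻¹ ∈ A := A.mul_mem (A.mul_mem ha hx.1) (A.inv_mem ha)
      exact Subgroup.subset_closure ⟨⟨h5, h1 _ h5 h4⟩, h4⟩
    · rw [Nm, Subgroup.le_normalizer_closure_iff]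
      rintro a ha x ⟨hx, hx'⟩
      have h4 := hP a x hx'
      have h5 : a * x * a⁻¹ ∈ B := B.mul_mem (B.mul_mem ha hx.2) (B.inv_mem ha)
      exact Subgroup.subset_closure ⟨⟨h2 _ h5 h4, h5⟩, h4⟩
  intro x hx hPx
  have : x ∈ Subgroup.closure {x | x ∈ A ⊓ B ∧ P x} := Subgroup.subset_closure ⟨⟨hx, h1 x hx hPx⟩, hPx⟩
  rwa [h3, Subgroup.mem_bot] at this

theorem two_three_form {n : ℕ} (hn : n ≠ 0) (h : ∀ p, p.Prime → p ∣ n → p = 2 ∨ p = 3) : ∃ a b, n = 2 ^ a * 3 ^ b := by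
  refine ⟨n.factorization 2, n.factorization 3, ?_⟩
  have h1 : n.factorization.support ⊆ {2, 3} := by
    intro p hp
    rw [Nat.support_factorization, Nat.mem_primeFactors] at hp
    simpa using h p hp.1 hp.2.1
  conv_lhs => rw [← Nat.prod_factorization_pow_eq_self hn]
  rw [Finsupp.prod_of_support_subset _ h1 _ (by simp)]
  simp

section

variable [Finite G] {A B : Subgroup G}

theorem P3.mem_of_coprime (h : P3 A B) {x : G} (hx : x ∈ A) (hc : (orderOf x).Coprime 6) : x ∈ K A B := by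
  obtain ⟨φ, hφ⟩ := h.hom
  rw [hφ.ker ⟨x, hx⟩]
  have h1 : φ ⟨x, hx⟩ ^ orderOf x = 1 := by
    rw [← map_pow]
    have : (⟨x, hx⟩ : A) ^ orderOf x = 1 := by
      ext1
      exact pow_orderOf_eq_one x
    rw [this, map_one]
  have h2 : φ ⟨x, hx⟩ ^ 24 = 1 := by
    have h24 : Nat.card (Equiv.Perm (Fin 4)) = 24 := by
      rw [Nat.card_perm, Nat.card_fin]
      rfl
    rw [← h24]
    exact pow_card_eq_one'
  have h3 : (orderOf x).Coprime 24 := by
    have : (orderOf x).Coprime (2 ^ 3 * 3) := by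
      rw [Nat.coprime_mul_iff_right]
      rw [show (6 : ℕ) = 2 * 3 by norm_num, Nat.coprime_mul_iff_right] at hc
      exact ⟨hc.1.pow_right 3, hc.2⟩
    exact this
  have := mem_of_pow_mem (H := ⊥) h3 h1 (by rw [h2]; exact Subgroup.one_mem _)
  exact this

theorem P3.card_form (h : P3 A B) : ∃ a b, Nat.card A = 2 ^ a * 3 ^ b := by
  refine two_three_form Nat.card_pos.ne' fun p hp hpA => ?_
  by_contra hcon
  have : Fact p.Prime := ⟨hp⟩
  obtain ⟨x, hx⟩ := exists_prime_orderOf_dvd_card' (G := A) p hpA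
  have h1 := pred_trivial h.U (P := fun x => (orderOf x).Coprime 6) (by
      intro g x hx
      have : orderOf (g * x * g⁻¹) = orderOf x := by
        rw [← MulAut.conj_apply]
        exact orderOf_injective (MulAut.conj g).toMonoidHom (MulAut.conj g).injective x
      rwa [this])
    (fun x hx hc => K_le_right A B (h.mem_of_coprime hx hc))
    (fun x hx hc => K_le_right B A (h.symm.mem_of_coprime hx hc)) x x.2
    (by
      rw [Subgroup.orderOf_coe, hx]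
      rw [show (6 : ℕ) = 2 * 3 by norm_num, Nat.coprime_mul_iff_right, Nat.coprime_primes hp Nat.prime_two,
        Nat.coprime_primes hp Nat.prime_three]
      exact ⟨fun h => hcon (Or.inl h), fun h => hcon (Or.inr h)⟩)
  have h2 : x = 1 := Subtype.ext h1
  rw [h2, orderOf_one] at hx
  exact hp.one_lt.ne hx

theorem P3.solvable (h : P3 A B) : Group.IsSolvable A := by
  obtain ⟨a, b, hab⟩ := h.card_form
  exact S0144.result 2 3 a b Nat.prime_two Nat.prime_three hab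

theorem P3.A_ne_bot (h : P3 A B) : A ≠ ⊥ := by
  rintro rfl
  have := h.idx
  rw [Subgroup.relIndex_bot_right] at this
  omega

theorem Op_eq_bot_iff {p : ℕ} {H : Subgroup G} : Op p H = ⊥ ↔ Cfsg.pCore p ↥H = ⊥ := by
  rw [Op, Subgroup.map_eq_bot_iff_of_injective _ H.subtype_injective]

/-- the Fitting subgroup of a `{2,3}`-group without normal 2-subgroups -/
theorem fitting_eq {X : Type*} [Group X] [Finite X] {a b : ℕ} (hcard : Nat.card X = 2 ^ a * 3 ^ b)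
    (h2 : Cfsg.pCore 2 X = ⊥) : Cfsg.fittingSubgroup X = Cfsg.pCore 3 X := by
  refine le_antisymm ?_ ?_
  · rw [Lib.Cores.fittingSubgroup_eq_iSup_pCore]
    refine iSup_le fun p => ?_
    by_cases hp2 : (p : ℕ) = 2
    · rw [hp2, h2]
      exact bot_le
    by_cases hp3 : (p : ℕ) = 3
    · rw [hp3]
    · have hp : Fact (p : ℕ).Prime := ⟨p.2⟩
      obtain ⟨n, hn⟩ := IsPGroup.iff_card.1 (Lib.Cores.pCore_isPGroup (G := X) (p : ℕ))
      rcases Nat.eq_zero_or_pos n with rfl | hn0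
      · rw [pow_zero, Subgroup.card_eq_one] at hn
        rw [hn]
        exact bot_le
      · exfalso
        have h4 : (p : ℕ) ∣ Nat.card (Cfsg.pCore (p : ℕ) X) := by
          rw [hn]
          exact dvd_pow_self _ hn0.ne'
        have h5 := h4.trans (Subgroup.card_subgroup_dvd_card _)
        rw [hcard, hp.out.dvd_mul] at h5
        rcases h5 with h5 | h5
        · exact hp2 ((Nat.prime_dvd_prime_iff_eq hp.out Nat.prime_two).1 (hp.out.dvd_of_dvd_pow h5))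
        · exact hp3 ((Nat.prime_dvd_prime_iff_eq hp.out Nat.prime_three).1 (hp.out.dvd_of_dvd_pow h5))
  · have : Fact (Nat.Prime 3) := ⟨Nat.prime_three⟩
    exact Lib.Cores.pCore_le_fittingSubgroup 3

/-- `C_A(O_3(A)) ≤ O_3(A)` -/
theorem P3.cent_le (h : P3 A B) (h2 : Op 2 A = ⊥) {x : G} (hx : x ∈ A) (hc : ∀ y ∈ Op 3 A, y * x = x * y) :
    x ∈ Op 3 A := by
  obtain ⟨a, b, hab⟩ := h.card_form
  have hs := h.solvable
  have h3 := fitting_eq hab (Op_eq_bot_iff.1 h2)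
  have h4 := S0044.result (G := A)
  rw [h3] at h4
  have h5 : (⟨x, hx⟩ : A) ∈ Subgroup.centralizer (Cfsg.pCore 3 A : Set A) := by
    rw [Subgroup.mem_centralizer_iff]
    intro y hy
    ext1
    exact hc y ⟨y, hy, rfl⟩
  exact ⟨⟨x, hx⟩, h4 h5, rfl⟩

theorem P3.Op_three_ne (h : P3 A B) (h2 : Op 2 A = ⊥) : Op 3 A ≠ ⊥ := by
  intro h3
  apply h.A_ne_bot
  rw [eq_bot_iff]
  intro x hx
  rw [← h3]
  refine h.cent_le h2 hx fun y hy => ?_
  rw [h3, Subgroup.mem_bot] at hy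
  rw [hy, one_mul, mul_one]

/-! ### The 3-local analysis -/

/-- The hypotheses of case II. -/
structure H2 (A B : Subgroup G) : Prop extends P3 A B where
  two : Op 2 A = ⊥

theorem H2.symm (h : H2 A B) : H2 B A where
  toP3 := h.toP3.symm
  two := by
    rw [← Subgroup.card_eq_one, h.toP3.Op_conj, h.two, Subgroup.card_bot]

theorem H2.Q_le (h : H2 A B) : Op 3 A ≤ K A B :=
  h.le_K_of_three (Op_le _ _) (le_Nm_Op _ _) (isPGroup_Op _ _)

theorem H2.Q_ne (h : H2 A B) : Op 3 A ≠ ⊥ := h.Op_three_ne h.two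

theorem H2.K_ne (h : H2 A B) : K A B ≠ ⊥ := fun h0 => h.Q_ne (by
  rw [eq_bot_iff, ← h0]
  exact h.Q_le)

theorem H2.Q_le_C (h : H2 A B) : Op 3 A ≤ A ⊓ B := h.Q_le.trans (K_le A B)

theorem H2.Q_le_C' (h : H2 A B) : Op 3 B ≤ A ⊓ B := by
  rw [inf_comm]
  exact h.symm.Q_le_C

theorem H2.C_le_Nm_Q (_h : H2 A B) : A ⊓ B ≤ Nm (Op 3 A) := inf_le_left.trans (le_Nm_Op _ _)

theorem H2.C_le_Nm_Q' (_h : H2 A B) : A ⊓ B ≤ Nm (Op 3 B) := inf_le_right.trans (le_Nm_Op _ _)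

/-- A 3-subgroup of `K_A` normalised by `K_A` lies in `Q_A`. -/
theorem H2.le_Q (_h : H2 A B) {X : Subgroup G} (hX : X ≤ K A B) (hN : K A B ≤ Nm X) (h3 : IsPGroup 3 X) :
    X ≤ Op 3 A :=
  (le_Op hX hN h3).trans (le_Op ((Op_le _ _).trans (K_le_left A B)) ((le_Nm_K A B).trans (Nm_le_Nm_Op _ _))
    (isPGroup_Op _ _))

theorem H2.Q_inf_K (h : H2 A B) : Op 3 B ⊓ K A B ≤ Op 3 A :=
  h.le_Q inf_le_right ((K_le A B).trans (inf_le_Nm h.C_le_Nm_Q' (C_le_Nm_K A B)))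
    ((isPGroup_Op 3 B).to_le inf_le_left)

theorem H2.Q_ne_Q (h : H2 A B) : ¬ Op 3 B ≤ Op 3 A := by
  intro h1
  have h2 : Op 3 B = Op 3 A := by
    apply Subgroup.eq_of_le_of_card_ge h1
    rw [h.toP3.Op_conj]
  apply h.Q_ne
  exact h.U _ h.Q_le_C (le_Nm_Op _ _) (by rw [← h2]; exact le_Nm_Op _ _)

theorem H2.Q_not_le_K (h : H2 A B) : ¬ Op 3 B ≤ K A B := fun h1 =>
  h.Q_ne_Q ((le_inf le_rfl h1).trans h.Q_inf_K)

theorem H2.comm_mem (h : H2 A B) {k q : G} (hk : k ∈ K A B) (hq : q ∈ Op 3 B) : q * k * q⁻¹ * k⁻¹ ∈ Op 3 A := by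
  apply h.Q_inf_K
  refine ⟨?_, ?_⟩
  · have h1 := le_Nm.1 h.C_le_Nm_Q' k (K_le A B hk) q⁻¹ (Subgroup.inv_mem _ hq)
    have h2 := Subgroup.mul_mem _ hq h1
    simpa [mul_assoc] using h2
  · exact Subgroup.mul_mem _ (le_Nm.1 (C_le_Nm_K A B) q (h.Q_le_C' hq) k hk) (Subgroup.inv_mem _ hk)

/-- Every subgroup between `Q_A` and `K_A` normalised by `A ∩ B` is normal in `A`. -/
theorem H2.le_Nm_of (h : H2 A B) {X : Subgroup G} (hQ : Op 3 A ≤ X) (hX : X ≤ K A B) (hC : A ⊓ B ≤ Nm X) :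
    A ≤ Nm X := by
  have h1 : ncl A (Op 3 B) ≤ A := ncl_le ((h.Q_le_C').trans inf_le_left) (self_le_Nm A)
  have h2 : ¬ ncl A (Op 3 B) ≤ K A B := fun h3 => h.Q_not_le_K ((le_ncl _ _).trans h3)
  refine (h.sup_eq h1 (le_Nm_ncl _ _) h2).symm.le.trans (sup_le ?_ hC)
  refine ncl_le' fun a ha => ?_
  rw [le_Nm]
  intro y hy x hx
  rw [mem_cj] at hy
  have h3 : a⁻¹ * x * a ∈ K A B := by
    have := le_Nm.1 (le_Nm_K A B) a⁻¹ (A.inv_mem ha) x (hX hx)
    simpa using this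
  have h4 := h.comm_mem h3 hy
  have h5 := le_Nm.1 (le_Nm_Op 3 A) a ha _ h4
  have h6 : y * x * y⁻¹ = (a * (a⁻¹ * y * a * (a⁻¹ * x * a) * (a⁻¹ * y * a)⁻¹ * (a⁻¹ * x * a)⁻¹) * a⁻¹) * x := by
    group
  rw [h6]
  exact X.mul_mem (hQ h5) hx

/-- 2-elements of `L Q_A` lie in `L`. -/
theorem H2.mem_L (h : H2 A B) {x : G} (hx : x ∈ Op 3 A ⊔ (K A B ⊓ K B A)) {n : ℕ} (h2 : x ^ 2 ^ n = 1) :
    x ∈ K A B ⊓ K B A := by
  have hC : A ⊓ B ≤ Nm (K A B ⊓ K B A) := inf_le_Nm (C_le_Nm_K A B) (C_le_Nm_K' A B)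
  have h1 : Op 3 A ⊔ (K A B ⊓ K B A) ≤ A ⊓ B := sup_le h.Q_le_C (inf_le_left.trans (K_le A B))
  have h3 := pow_relIndex_mem (h1.trans hC) hx
  rw [relIndex_sup_of_left (h.Q_le_C.trans hC)] at h3
  obtain ⟨m, hm⟩ := IsPGroup.iff_card.1 (isPGroup_Op 3 A)
  have h4 : (K A B ⊓ K B A).relIndex (Op 3 A) ∣ 3 ^ m := by
    rw [← hm]
    exact Subgroup.relIndex_dvd_card _ _
  refine mem_of_pow_mem ?_ h2 h3
  refine Nat.Coprime.coprime_dvd_right h4 ?_
  exact (by norm_num : Nat.Coprime 2 3).pow _ _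

/-- `L = K_A ∩ K_B` is a 3-group. -/
theorem H2.L_three (h : H2 A B) : IsPGroup 3 (K A B ⊓ K B A : Subgroup G) := by
  have key : ∀ {A B : Subgroup G}, H2 A B →
      A ≤ Nm (Subgroup.closure {x | x ∈ K A B ⊓ K B A ∧ ∃ n : ℕ, x ^ 2 ^ n = 1}) := by
    intro A B h
    have hC : A ⊓ B ≤ Nm (K A B ⊓ K B A) := inf_le_Nm (C_le_Nm_K A B) (C_le_Nm_K' A B)
    have h1 : A ≤ Nm (Op 3 A ⊔ (K A B ⊓ K B A)) :=
      h.le_Nm_of le_sup_left (sup_le h.Q_le inf_le_left) (sup_le_Nm h.C_le_Nm_Q hC)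
    rw [Nm, Subgroup.le_normalizer_closure_iff]
    rintro a ha x ⟨hx, n, hn⟩
    have h2 : (a * x * a⁻¹) ^ 2 ^ n = 1 := by
      rw [conj_pow, hn, mul_one, mul_inv_cancel]
    refine Subgroup.subset_closure ⟨h.mem_L (n := n) ?_ h2, n, h2⟩
    exact le_Nm.1 h1 a ha x (Subgroup.mem_sup_right hx)
  have h3 : Subgroup.closure {x | x ∈ K A B ⊓ K B A ∧ ∃ n : ℕ, x ^ 2 ^ n = 1} = ⊥ := by
    refine h.U _ ?_ (key h) ?_
    · rw [Subgroup.closure_le]
      rintro x ⟨hx, -⟩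
      exact K_le A B hx.1
    · have := key h.symm
      rwa [inf_comm] at this
  obtain ⟨a, b, hab⟩ := h.card_form
  rintro ⟨x, hx⟩
  refine ⟨b, ?_⟩
  ext1
  show x ^ 3 ^ b = 1
  have hxA : x ∈ A := K_le_left A B hx.1
  have h4 : (x ^ 3 ^ b) ^ 2 ^ a = 1 := by
    rw [← pow_mul, mul_comm, ← hab]
    have : (⟨x, hxA⟩ : A) ^ Nat.card A = 1 := pow_card_eq_one'
    exact congrArg Subtype.val this
  have h5 : x ^ 3 ^ b ∈ Subgroup.closure {x | x ∈ K A B ⊓ K B A ∧ ∃ n : ℕ, x ^ 2 ^ n = 1} :=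
    Subgroup.subset_closure ⟨Subgroup.pow_mem _ hx _, a, h4⟩
  rwa [h3, Subgroup.mem_bot] at h5

theorem H2.L_eq (h : H2 A B) : K A B ⊓ K B A = Op 3 A ⊓ Op 3 B := by
  have hC : A ⊓ B ≤ Nm (K A B ⊓ K B A) := inf_le_Nm (C_le_Nm_K A B) (C_le_Nm_K' A B)
  refine le_antisymm (le_inf ?_ ?_) (inf_le_inf h.Q_le h.symm.Q_le)
  · exact h.le_Q inf_le_left ((K_le A B).trans hC) h.L_three
  · exact h.symm.le_Q inf_le_right ((K_le' A B).trans hC) h.L_three

theorem H2.Q_not_le_K' (h : H2 A B) : ¬ Op 3 A ≤ K B A := h.symm.Q_not_le_K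

/-- `|Q_A : Q_A ∩ Q_B| = 3` -/
theorem H2.idx_L (h : H2 A B) : (Op 3 A ⊓ Op 3 B).relIndex (Op 3 A) = 3 := by
  rw [← h.L_eq]
  have h1 := h.relIndex_KK h.K_ne
  have h2 : (K B A).relIndex (K A B) = (K A B ⊓ K B A).relIndex (Op 3 A) * (Op 3 A).relIndex (K A B) := by
    rw [← Subgroup.inf_relIndex_left]
    refine (Subgroup.relIndex_mul_relIndex _ _ _ ?_ h.Q_le).symm
    rw [h.L_eq]
    exact inf_le_left
  have h3 : (K A B ⊓ K B A).relIndex (Op 3 A) ≠ 1 := by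
    rw [Ne, Subgroup.relIndex_eq_one]
    intro h4
    exact h.Q_not_le_K' (h4.trans inf_le_right)
  obtain ⟨m, hm⟩ := IsPGroup.iff_card.1 (isPGroup_Op 3 A)
  have h4 : (K A B ⊓ K B A).relIndex (Op 3 A) ∣ 3 ^ m := by
    rw [← hm]
    exact Subgroup.relIndex_dvd_card _ _
  obtain ⟨k, -, hk⟩ := (Nat.dvd_prime_pow Nat.prime_three).1 h4
  rw [hk] at h2 h3 ⊢
  match k, h2, h3 with
  | 0, _, h3 => exact absurd rfl h3
  | 1, _, _ => rfl
  | k + 2, h2, _ =>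
    exfalso
    have h5 : 9 ∣ (K B A).relIndex (K A B) := by
      rw [h2]
      exact Dvd.dvd.mul_right ⟨3 ^ k, by ring⟩ _
    rcases h1 with h1 | h1 <;> rw [h1] at h5 <;> omega

/-- `|K_A : Q_A| ≤ 2` -/
theorem H2.idx_Q (h : H2 A B) : (Op 3 A).relIndex (K A B) = 1 ∨ (Op 3 A).relIndex (K A B) = 2 := by
  have h1 := h.relIndex_KK h.K_ne
  have h2 : (K B A).relIndex (K A B) = (K A B ⊓ K B A).relIndex (Op 3 A) * (Op 3 A).relIndex (K A B) := by
    rw [← Subgroup.inf_relIndex_left]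
    refine (Subgroup.relIndex_mul_relIndex _ _ _ ?_ h.Q_le).symm
    rw [h.L_eq]
    exact inf_le_left
  rw [h.L_eq, h.idx_L] at h2
  omega

/-- `S = Q_A Q_B` -/
abbrev SS (A B : Subgroup G) : Subgroup G := Op 3 A ⊔ Op 3 B

theorem H2.S_le (h : H2 A B) : SS A B ≤ A ⊓ B := sup_le h.Q_le_C h.Q_le_C'

theorem H2.C_le_Nm_S (h : H2 A B) : A ⊓ B ≤ Nm (SS A B) := sup_le_Nm h.C_le_Nm_Q h.C_le_Nm_Q'

theorem H2.card_S (h : H2 A B) : Nat.card (SS A B) = 3 * Nat.card (Op 3 A) := by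
  have h1 := card_sup (h.Q_le_C.trans h.C_le_Nm_Q')
  have h2 := card_mul_relIndex (inf_le_left : Op 3 A ⊓ Op 3 B ≤ Op 3 A)
  rw [h.idx_L] at h2
  have h3 : 0 < Nat.card ↥(Op 3 A ⊓ Op 3 B) := Nat.card_pos
  rw [h.toP3.Op_conj, ← h2] at h1
  apply Nat.eq_of_mul_eq_mul_right h3
  rw [h1, ← h2]
  ring

theorem H2.S_three (h : H2 A B) : IsPGroup 3 (SS A B) := by
  have : Fact (Nat.Prime 3) := ⟨Nat.prime_three⟩
  obtain ⟨m, hm⟩ := IsPGroup.iff_card.1 (isPGroup_Op 3 A)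
  rw [IsPGroup.iff_card]
  exact ⟨m + 1, by rw [h.card_S, hm, pow_succ, mul_comm]⟩

theorem H2.S_not_le_K (h : H2 A B) : ¬ SS A B ≤ K A B := fun h1 => h.Q_not_le_K (le_sup_right.trans h1)

theorem H2.inf_Nm_S (h : H2 A B) : A ⊓ Nm (SS A B) = A ⊓ B := h.inf_Nm h.S_le h.C_le_Nm_S h.S_not_le_K

/-- `|C : S|` divides 4 -/
theorem H2.idx_S (h : H2 A B) : (SS A B).relIndex (A ⊓ B) ∣ 4 := by
  have h1 := card_mul_relIndex h.S_le
  have h2 := card_mul_relIndex (K_le A B)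
  have h3 := card_mul_relIndex h.Q_le
  rw [h.card_S, ← h2, ← h3] at h1
  have h4 : 0 < Nat.card (Op 3 A) := Nat.card_pos
  rw [mul_comm 3, mul_assoc, mul_assoc] at h1
  have h5 := Nat.eq_of_mul_eq_mul_left h4 h1
  rcases h.idx_Q with h6 | h6 <;> rcases h.relIndex_C with h7 | h7 <;> rw [h6, h7] at h5
  · have : (SS A B).relIndex (A ⊓ B) = 1 := by omega
    rw [this]
    norm_num
  · have : (SS A B).relIndex (A ⊓ B) = 2 := by omega
    rw [this]
    norm_num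
  · have : (SS A B).relIndex (A ⊓ B) = 2 := by omega
    rw [this]
    norm_num
  · have : (SS A B).relIndex (A ⊓ B) = 4 := by omega
    rw [this]

theorem H2.idx_SA (h : H2 A B) : ¬ 3 ∣ (SS A B).relIndex A := by
  rw [← Subgroup.relIndex_mul_relIndex _ _ _ h.S_le inf_le_left, h.idx, Nat.prime_three.dvd_mul]
  rintro (h1 | h1)
  · have := h1.trans h.idx_S
    omega
  · omega

theorem SS_comm (A B : Subgroup G) : SS A B = SS B A := sup_comm _ _

/-- Sylow's theorem inside `A`. -/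
theorem exists_conj_of_sylow {p : ℕ} [Fact p.Prime] {H S T : Subgroup G} (hS : S ≤ H) (hT : T ≤ H)
    (hSp : IsPGroup p S) (hTp : IsPGroup p T) (hSi : ¬ p ∣ S.relIndex H) (hTi : ¬ p ∣ T.relIndex H) :
    ∃ x ∈ H, cj x T = S := by
  have h1 : IsPGroup p (S.subgroupOf H) := hSp.comap_of_injective _ H.subtype_injective
  have h2 : IsPGroup p (T.subgroupOf H) := hTp.comap_of_injective _ H.subtype_injective
  obtain ⟨x, hx⟩ := MulAction.exists_smul_eq ↥H (h2.toSylow hTi) (h1.toSylow hSi)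
  refine ⟨x, x.2, ?_⟩
  have h0 : (MulAut.conj x • T.subgroupOf H : Subgroup H) = S.subgroupOf H :=
    congrArg (fun P : Sylow p H => (P : Subgroup H)) hx
  have h3 := congrArg (fun P : Subgroup H => P.map H.subtype) h0
  simp only [Subgroup.subgroupOf_map_subtype, inf_of_le_left hS] at h3
  rw [← h3]
  ext y
  rw [mem_cj]
  constructor
  · intro hy
    refine ⟨x * ⟨x⁻¹ * y * x, hT hy⟩ * x⁻¹, ?_, ?_⟩
    · show _ ∈ (MulAut.conj x • (T.subgroupOf H) : Subgroup H)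
      rw [conj_mem_cj]
      exact hy
    · simp [mul_assoc]
  · rintro ⟨z, hz, rfl⟩
    have hz' : z ∈ (MulAut.conj x • (T.subgroupOf H) : Subgroup H) := hz
    rw [mem_cj] at hz'
    exact hz'

/-- There is an element swapping as wanted. -/
theorem H2.exists_g (h : H2 A B) : ∃ g, cj g A = B ∧ cj g (SS A B) = SS A B ∧ cj g (A ⊓ B) = A ⊓ B := by
  have : Fact (Nat.Prime 3) := ⟨Nat.prime_three⟩
  obtain ⟨g, hg⟩ := h.conj
  have h1 : cj g (SS A B) ≤ B := (cj_le_cj.2 (h.S_le.trans inf_le_left)).trans hg.le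
  have h2 : SS A B ≤ B := h.S_le.trans inf_le_right
  have h3 : ¬ 3 ∣ (SS A B).relIndex B := by
    rw [SS_comm]
    exact h.symm.idx_SA
  have h4 : ¬ 3 ∣ (cj g (SS A B)).relIndex B := by
    have h5 : (cj g (SS A B)).relIndex (cj g A) = (SS A B).relIndex A := relIndex_cj _ _ _
    rw [hg] at h5
    rw [h5]
    exact h.idx_SA
  obtain ⟨b, hb, hb'⟩ := exists_conj_of_sylow h2 h1 h.S_three (isPGroup_cj g h.S_three) h3 h4
  refine ⟨b * g, ?_, ?_, ?_⟩
  · rw [cj_mul, hg, cj_of_mem hb]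
  · rw [cj_mul, hb']
  · rw [← h.inf_Nm_S, cj_inf, cj_Nm, cj_mul, cj_mul, hb', hg, cj_of_mem hb, h.inf_Nm_S]
    have := h.symm.inf_Nm_S
    rw [SS_comm, inf_comm B A] at this
    exact this

end

end Cfsg.Agent.H399
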