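import Cfsg.Agent.H399.Setup
import Cfsg.Agent.H581.SimsE

/-!
# The case where the stabiliser is a 2-group
-/

set_option autoImplicit false
set_option linter.unusedSectionVars false
set_option linter.unnecessarySeqFocus false

open Pointwise

namespace Cfsg.Agent.H399

variable {G : Type*} [Group G]

section

variable [Finite G] {A B : Subgroup G}

/-- normalisers grow in 2-groups -/
theorem lt_inf_Nm {A C : Subgroup G} (h2 : IsPGroup 2 A) (hC : C ≤ A) (hne : C ≠ A) : ∃ x ∈ A, x ∈ Nm C ∧ x ∉ C := by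
  have : Fact (Nat.Prime 2) := ⟨Nat.prime_two⟩
  have hnil : Group.IsNilpotent A := h2.isNilpotent
  have h3 : C.subgroupOf A < Subgroup.normalizer (C.subgroupOf A : Set A) := by
    refine Group.normalizerCondition_of_isNilpotent (G := A) (C.subgroupOf A) ?_
    rw [lt_top_iff_ne_top]
    intro h
    rw [Subgroup.subgroupOf_eq_top] at h
    exact hne (le_antisymm hC h)
  obtain ⟨x, hx, hx'⟩ := SetLike.exists_of_lt h3
  refine ⟨x, x.2, ?_, hx'⟩
  rw [mem_Nm]
  refine Subgroup.eq_of_le_of_card_ge ?_ (by rw [card_cj])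
  intro y hy
  rw [mem_cj] at hy
  have hyA : y ∈ A := by
    have := hC hy
    have h4 := A.mul_mem (A.mul_mem x.2 this) (A.inv_mem x.2)
    have e : (x : G) * ((x : G)⁻¹ * y * x) * (x : G)⁻¹ = y := by group
    rwa [e] at h4
  have h5 := (Subgroup.mem_normalizer_iff.1 hx (x⁻¹ * ⟨y, hyA⟩ * x)).1 hy
  have e : x * (x⁻¹ * ⟨y, hyA⟩ * x) * x⁻¹ = (⟨y, hyA⟩ : A) := by group
  rw [e] at h5
  exact h5

theorem relIndex_eq_two_or {A R C : Subgroup G} (hCR : C ≤ R) (hRA : R ≤ A) (h4 : C.relIndex A = 4) (h1 : ¬ R ≤ C)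
    (h2 : ¬ A ≤ R) : C.relIndex R = 2 ∧ R.relIndex A = 2 := by
  have h3 := Subgroup.relIndex_mul_relIndex _ _ _ hCR hRA
  rw [h4] at h3
  have h5 : C.relIndex R ≠ 1 := fun h => h1 (Subgroup.relIndex_eq_one.1 h)
  have h6 : R.relIndex A ≠ 1 := fun h => h2 (Subgroup.relIndex_eq_one.1 h)
  have h7 : C.relIndex R ∣ 4 := Dvd.intro _ h3
  have h8 : C.relIndex R ≤ 4 := Nat.le_of_dvd (by norm_num) h7
  interval_cases h9 : C.relIndex R <;> omega

theorem Pr.inf_ne_left (h : Pr A B) : A ⊓ B ≠ A := fun h0 => h.not_le (by rw [← h0]; exact inf_le_right)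

/-- `N_A(C)` has index 2 in `A` -/
theorem Pr.two_idx (h : Pr A B) (h2 : IsPGroup 2 A) (hC : A ⊓ B ≠ ⊥) :
    (A ⊓ B).relIndex (A ⊓ Nm (A ⊓ B)) = 2 ∧ (A ⊓ Nm (A ⊓ B)).relIndex A = 2 := by
  refine relIndex_eq_two_or (le_inf inf_le_left (self_le_Nm _)) inf_le_left h.idx ?_ ?_
  · obtain ⟨x, hx, hx', hx''⟩ := lt_inf_Nm h2 (inf_le_left : A ⊓ B ≤ A) h.inf_ne_left
    exact fun h0 => hx'' (h0 ⟨hx, hx'⟩)
  · intro h0
    have hB2 : IsPGroup 2 B := by
      obtain ⟨g, rfl⟩ := h.conj
      exact isPGroup_cj g h2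
    have hne : A ⊓ B ≠ B := by
      have := h.symm.inf_ne_left
      rwa [inf_comm] at this
    obtain ⟨x, hx, hx', hx''⟩ := lt_inf_Nm hB2 (inf_le_right : A ⊓ B ≤ B) hne
    have h1 : Nm (A ⊓ B) = ⊤ := h.top_of (h0.trans inf_le_right) fun h5 => hx'' ⟨h5 hx', hx⟩
    exact hC (h.eq_bot_of_top inf_le_left h1)

theorem le_Nm_of_two {R A : Subgroup G} (hRA : R ≤ A) (h : R.relIndex A = 2) : A ≤ Nm R := by
  have h1 : (R.subgroupOf A).Normal := Subgroup.normal_of_index_eq_two h
  exact (Subgroup.normal_subgroupOf_iff_le_normalizer hRA).1 h1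

/-- **The 2-group case.** -/
theorem Pr.two_group (h : Pr A B) (h2 : IsPGroup 2 A) :
    Nat.card A = 4 ∨ Nat.card A = 8 ∨ Nat.card A = 16 ∨ Nat.card A = 32 := by
  have : Fact (Nat.Prime 2) := ⟨Nat.prime_two⟩
  by_cases hC : A ⊓ B = ⊥
  · left
    have := h.idx
    rwa [hC, Subgroup.relIndex_bot_left] at this
  have hB2 : IsPGroup 2 B := by
    obtain ⟨g, rfl⟩ := h.conj
    exact isPGroup_cj g h2
  obtain ⟨hCR, hRA⟩ := h.two_idx h2 hC
  obtain ⟨hCR', hRB⟩ := h.symm.two_idx hB2 (by rwa [inf_comm])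
  rw [inf_comm B A] at hCR' hRB
  set C := A ⊓ B with hCdef
  set R := A ⊓ Nm C with hR
  set R' := B ⊓ Nm C with hR'
  have hR0 : R ≠ ⊥ := by
    intro h0
    apply hC
    rw [eq_bot_iff, ← h0]
    exact le_inf inf_le_left (self_le_Nm _)
  have hR'0 : R' ≠ ⊥ := by
    intro h0
    apply hC
    rw [eq_bot_iff, ← h0]
    exact le_inf inf_le_right (self_le_Nm _)
  have hAR : A ≤ Nm R := le_Nm_of_two inf_le_left hRA
  have hBR' : B ≤ Nm R' := le_Nm_of_two inf_le_left hRB
  have hNR : Nm R = A := h.Nm_eq inf_le_left hR0 hAR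
  have hNR' : Nm R' = B := h.symm.Nm_eq inf_le_left hR'0 hBR'
  set H := R ⊔ R' with hH
  have hHC : H ≤ Nm C := sup_le inf_le_right inf_le_right
  -- R is Sylow in H
  have hsyl : ∀ {A B R : Subgroup G}, Pr A B → R = A ⊓ Nm (A ⊓ B) → Nm R = A → IsPGroup 2 A → ∀ {H : Subgroup G}, R ≤ H →
      H ≤ Nm (A ⊓ B) → ¬ 2 ∣ R.relIndex H := by
    intro A B R h hR hNR h2 H hRH hHC hdvd
    have h5 : IsPGroup 2 (R.subgroupOf H) := by
      have : IsPGroup 2 R := h2.to_le (by rw [hR]; exact inf_le_left)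
      exact this.comap_of_injective _ H.subtype_injective
    obtain ⟨P, hP⟩ := h5.exists_le_sylow
    have hPne : (P : Subgroup H) ≠ R.subgroupOf H := by
      intro h0
      apply P.not_dvd_index
      rw [h0]
      exact hdvd
    have hP2 : IsPGroup 2 ((P : Subgroup H).map H.subtype) := P.2.map _
    have hRP : R ≤ (P : Subgroup H).map H.subtype := by
      have := Subgroup.map_mono (f := H.subtype) hP
      rwa [Subgroup.subgroupOf_map_subtype, inf_of_le_left hRH] at this
    have hne : R ≠ (P : Subgroup H).map H.subtype := by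
      intro h0
      apply hPne
      rw [h0]
      exact (Subgroup.comap_map_eq_self_of_injective H.subtype_injective _).symm
    obtain ⟨x, hx, hx', hx''⟩ := lt_inf_Nm hP2 hRP hne
    apply hx''
    rw [hNR] at hx'
    rw [hR]
    exact ⟨hx', hHC (Subgroup.map_subtype_le _ hx)⟩
  have hs1 : ¬ 2 ∣ R.relIndex H := hsyl h rfl hNR h2 le_sup_left hHC
  have hs2 : ¬ 2 ∣ R'.relIndex H := by
    refine hsyl h.symm ?_ hNR' hB2 le_sup_right ?_
    · rw [inf_comm B A]
    · rw [inf_comm B A]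
      exact hHC
  have hR2 : IsPGroup 2 R := h2.to_le inf_le_left
  have hR'2 : IsPGroup 2 R' := hB2.to_le inf_le_left
  obtain ⟨y, hy, hyR⟩ := exists_conj_of_sylow (p := 2) (le_sup_right : R' ≤ H) (le_sup_left : R ≤ H) hR'2 hR2 hs2 hs1
  -- an element of A outside R
  have hex : ∃ x ∈ A, x ∉ R := by
    refine SetLike.not_le_iff_exists.1 fun h0 => ?_
    rw [Subgroup.relIndex_eq_one.2 h0] at hRA
    omega
  obtain ⟨x, hx, hxR⟩ := hex
  have hxR' : cj x R = R := cj_of_mem_Nm (hAR hx)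
  have hgR : cj (y * x) R = R' := by rw [cj_mul, hxR', hyR]
  have hRR' : R ⊓ R' = C := by
    apply le_antisymm
    · exact le_inf (inf_le_left.trans inf_le_left) (inf_le_right.trans inf_le_left)
    · exact le_inf (le_inf inf_le_left (self_le_Nm _)) (le_inf inf_le_right (self_le_Nm _))
  have hfin := Cfsg.Agent.H581.Sims.final R (y * x) H (by rw [hH, ← hgR]) (by
      have h5 : (cj (y * x) R).relIndex R = 2 := by
        rw [hgR, ← Subgroup.inf_relIndex_right, inf_comm, hRR', hCR]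
      exact h5) (by
      intro X hX h5 h6
      -- X is normalised by H and cj x H
      have h7 : cj x H ≤ Nm X := by
        have h8 : cj (y * x) H ≤ Nm X := h6
        rw [cj_mul, cj_le_iff, cj_of_mem ((Nm X).inv_mem (h5 hy))] at h8
        exact h8
      have hxx : x * x ∈ R := two_mul_mem hRA hx hx hxR hxR
      have h8 : Nm (X ⊔ cj x X) = ⊤ := by
        have hxN : x ∈ Nm (X ⊔ cj x X) := by
          rw [mem_Nm, cj_sup, ← cj_mul]
          have h9 : cj (x * x) X = X := cj_of_mem_Nm (h5 (Subgroup.mem_sup_left hxx))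
          rw [h9, sup_comm]
        have hHN : H ≤ Nm (X ⊔ cj x X) := by
          refine sup_le_Nm h5 ?_
          rw [← cj_Nm, ← cj_le_cj (x := x⁻¹), cj_inv_cj]
          have h9 : cj x⁻¹ H = cj x H := by
            have e : x⁻¹ = x * (x * x)⁻¹ := by group
            rw [e, cj_mul, cj_of_mem (H.inv_mem (Subgroup.mem_sup_left hxx))]
          rw [h9]
          exact h7
        have hAN : A ≤ Nm (X ⊔ cj x X) := by
          intro a ha
          by_cases haR : a ∈ R
          · exact hHN (Subgroup.mem_sup_left haR)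
          · have h9 : x⁻¹ * a ∈ R := two_mul_mem hRA (A.inv_mem hx) ha
              (fun h0 => hxR (by simpa using R.inv_mem h0)) haR
            have e : a = x * (x⁻¹ * a) := by group
            rw [e]
            exact Subgroup.mul_mem _ hxN (hHN (Subgroup.mem_sup_left h9))
        refine h.top_of hAN fun h0 => ?_
        have h10 : R' ≤ A := (le_sup_right.trans hHN).trans h0
        have h11 : R' ≤ C := le_inf h10 inf_le_left
        rw [Subgroup.relIndex_eq_one.2 h11] at hCR'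
        omega
      have h9 : X ⊔ cj x X ≤ A := by
        refine sup_le (hX.trans inf_le_left) ?_
        rw [cj_le_iff, cj_of_mem (A.inv_mem hx)]
        exact hX.trans inf_le_left
      have h10 := h.eq_bot_of_top h9 h8
      rw [eq_bot_iff, ← h10]
      exact le_sup_left) hs1
  have hcard := card_mul_relIndex (inf_le_left : R ≤ A)
  rw [hRA] at hcard
  rcases hfin with h5 | ⟨h5, -⟩ | ⟨h5, -⟩ | ⟨h5, -⟩ <;> rw [h5] at hcard <;> omega

end

end Cfsg.Agent.H399
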