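import Cfsg.Agent.H399.Simple
import Cfsg.Agent.H399.TwoGroup

/-!
# The list of cases for primitive groups with a suborbit of length 4
-/

set_option autoImplicit false
set_option linter.unusedSectionVars false
set_option linter.unnecessarySeqFocus false

open Pointwise

namespace Cfsg.Agent.H399

variable {G : Type*} [Group G]

section

variable [Finite G] {A B : Subgroup G}

/-- The extra facts in the case of order 11664. -/
def Extra11664 (G : Type*) [Group G] (z : G) : Prop :=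
  (∀ X : Subgroup G, IsPGroup 3 X → (∀ x ∈ X, ∀ y ∈ X, x * y = y * x) → Nat.card X ≤ 81) ∧
  ∃ R ≤ Subgroup.centralizer {z}, Subgroup.centralizer {z} ≤ Nm R ∧ Nat.card R = 243 ∧
    Subgroup.centralizer (R : Set G) ≤ R

theorem Mn.cases (h : Mn A B) (hmax : IsCoatom A) :
    (∃ Q S g, Conf432 A Q S g) ∨ (∃ S z g, Conf11664 A S z g ∧ Extra11664 G z) := by
  rcases h.card_YY_eq with h1 | h3
  · left
    obtain ⟨n, X, X1, Y', Y, hC⟩ := h.exists_Crit
    obtain rfl := h.crit_one h1 hC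
    have hXY : X1 = Y := hC.walk1.1
    have hcrit := hC.crit
    rw [← hXY] at hcrit
    have hb : ¬ VV A ≤ Op 3 B := by
      obtain ⟨x, ⟨rfl, hx⟩ | ⟨rfl, hx⟩⟩ := hC.adj
      · intro h0
        apply hcrit
        rw [hx, ← cj_VV, ← cj_Op, cj_le_cj]
        exact h0
      · have h4 : ¬ VV B ≤ Op 3 A := by
          intro h0
          apply hcrit
          rw [hx, ← cj_VV, ← cj_Op, cj_le_cj]
          exact h0
        exact h.symm.not_le_symm h4
    obtain ⟨g, hg⟩ := h.conf432 h1 hb (h.simple_one hmax h1 hb) hmax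
    exact ⟨_, _, g, hg⟩
  · right
    have hB := h.toB2 h3
    obtain ⟨z, g, hzg, hR⟩ := hB.conf11664 (hB.simple hmax) hmax
    exact ⟨_, z, g, hzg, fun X hX hc => hB.hab hX hc, hR⟩

/-- **The list of cases.** -/
theorem Pr.main (h : Pr A B) :
    (IsPGroup 2 A ∧ (Nat.card A = 4 ∨ Nat.card A = 8 ∨ Nat.card A = 16 ∨ Nat.card A = 32)) ∨
    (P3 A B ∧ K A B = ⊥ ∧ (Nat.card A = 12 ∨ Nat.card A = 24)) ∨
    (P3 A B ∧ K A B ≠ ⊥ ∧ Op 2 A ≠ ⊥ ∧ (Nat.card A = 36 ∨ Nat.card A = 72 ∨ Nat.card A = 144)) ∨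
    (∃ Q S g, Conf432 A Q S g) ∨ (∃ S z g, Conf11664 A S z g ∧ Extra11664 G z) := by
  rcases h.cases with h1 | h1
  · exact Or.inl ⟨h1, h.two_group h1⟩
  right
  by_cases hK : K A B = ⊥
  · exact Or.inl ⟨h1, hK, h1.card_of_bot hK⟩
  right
  by_cases h2 : Op 2 A = ⊥
  · right
    exact (h.toMn ⟨h1, h2⟩).cases h.max
  · exact Or.inl ⟨h1, hK, h2, h1.card_caseI h2 hK⟩

end

end Cfsg.Agent.H399
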