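import Cfsg.Agent.H399.ETwoCore
import Cfsg.Agent.H399.Main
import Cfsg.Agent.H60.Conf27
import Cfsg.Agent.H60.Psu33
import Cfsg.Agent.H845.TitsQ
import Cfsg.Agent.H805.CThree12
import Cfsg.Agent.H805.M24Conf
import Cfsg.Agent.H965.J2Norm
import Cfsg.Agent.H805.J4Cent
import Cfsg.Agent.H805.HeThree
import Cfsg.Agent.H230.RuConf
import Cfsg.Agent.H345.EOneMain
import Cfsg.Agent.OrdDiv.Table
import Cfsg.Agent.S0000

/-!
# The two configurations do not occur in finite groups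
-/

set_option autoImplicit false

open Pointwise

namespace Cfsg.Agent.H399

open Cfsg Cfsg.Agent.OrdDiv Cfsg.Agent.H496

universe u

theorem eTwoFacts : ETwoFacts where
  psu3 hF := Cfsg.Agent.H60.Psu33.psu33 hF
  cardpsu3 hF := Cfsg.Agent.SmallSimple.PSLFacts.card_psu_three_three hF
  g2 h1 h2 h3 := Cfsg.Agent.H60.Conf27.g2 h1 h2 h3
  tf4 m h1 h2 h3 := Cfsg.Agent.H60.Conf27.tf4 m h1 h2 h3
  tits h := Cfsg.Agent.H845.TitsQ.tits h
  m12 := Cfsg.Agent.H805.CThree12.m12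
  m24 h := Cfsg.Agent.H805.M24Conf.m24 h
  j2 := Cfsg.Agent.H965.J2Norm.j2
  j4 := Cfsg.Agent.H805.J4Cent.j4
  he := Cfsg.Agent.H805.HeThree.he
  ru h := Cfsg.Agent.H230.RuConf.ru h

theorem no432 {G : Type u} [Group G] [Finite G] {A Q S : Subgroup G} {g : G} (h : Conf432 A Q S g) : False := by
  have := h.simple
  exact e2_core table eTwoFacts (Cfsg.Agent.S0000.result (G := G)) h

theorem mod729 {G : Type u} [Group G] [Finite G] {A S : Subgroup G} {z g : G} (h : Conf11664 A S z g) :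
    Nat.card G / 729 % 3 = 2 := by
  have : Fact (Nat.Prime 3) := ⟨Nat.prime_three⟩
  have hS3 : IsPGroup 3 S := IsPGroup.of_card (n := 6) (by rw [h.cardS]; norm_num)
  have hS : ¬ 3 ∣ S.index := by
    intro h0
    apply h.sylow
    obtain ⟨k, hk⟩ := h0
    rw [← S.card_mul_index, h.cardS, hk]
    exact ⟨k, by ring⟩
  have h1 := card_sylow_modEq_one 3 G
  rw [Sylow.card_eq_index_normalizer (hS3.toSylow hS)] at h1
  have h2 : (Subgroup.normalizer (S : Set G)).index % 3 = 1 := h1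
  have h3 := (Subgroup.normalizer (S : Set G)).card_mul_index
  rw [h.cardN] at h3
  omega

theorem no11664 {G : Type u} [Group G] [Finite G] {A S : Subgroup G} {z g : G} (h : Conf11664 A S z g)
    (hx : Extra11664 G z) : False := by
  have := h.simple
  exact Cfsg.Agent.H345.EOne.e1 table (Cfsg.Agent.S0000.result (G := G)) h (mod729 h) hx.1

/-- **The list of cases.** -/
theorem Pr.list {G : Type u} [Group G] [Finite G] {A B : Subgroup G} (h : Pr A B) :
    (IsPGroup 2 A ∧ (Nat.card A = 4 ∨ Nat.card A = 8 ∨ Nat.card A = 16 ∨ Nat.card A = 32)) ∨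
    (P3 A B ∧ K A B = ⊥ ∧ (Nat.card A = 12 ∨ Nat.card A = 24)) ∨
    (P3 A B ∧ K A B ≠ ⊥ ∧ Op 2 A ≠ ⊥ ∧ (Nat.card A = 36 ∨ Nat.card A = 72 ∨ Nat.card A = 144)) := by
  rcases h.main with h1 | h1 | h1 | ⟨_, _, _, h1⟩ | ⟨_, _, _, h1, h2⟩
  · exact Or.inl h1
  · exact Or.inr (Or.inl h1)
  · exact Or.inr (Or.inr h1)
  · exact (no432 h1).elim
  · exact (no11664 h1 h2).elim

end Cfsg.Agent.H399
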