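import Cfsg.Agent.H399.Defs

/-!
# Transport of the configuration `Conf432`
-/

set_option autoImplicit false

open Pointwise

namespace Cfsg.Agent.H399

section

variable {G K : Type*} [Group G] [Group K]

theorem map_eq_iff (e : G ≃* K) {X Y : Subgroup G} : X.map e.toMonoidHom = Y.map e.toMonoidHom ↔ X = Y :=
  (Subgroup.map_injective e.injective).eq_iff

theorem map_centralizer' (e : G ≃* K) (X : Subgroup G) :
    Subgroup.centralizer ((X.map e.toMonoidHom : Subgroup K) : Set K) =
      (Subgroup.centralizer (X : Set G)).map e.toMonoidHom := by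
  ext y
  rw [Subgroup.mem_map_equiv, Subgroup.mem_centralizer_iff, Subgroup.mem_centralizer_iff]
  constructor
  · intro h x hx
    have h1 := h (e x) ⟨x, hx, rfl⟩
    apply e.injective
    rw [map_mul, map_mul, MulEquiv.apply_symm_apply]
    exact h1
  · rintro h _ ⟨x, hx, rfl⟩
    have h1 := congrArg e (h x hx)
    rw [map_mul, map_mul, MulEquiv.apply_symm_apply] at h1
    exact h1

theorem map_conj (e : G ≃* K) (g : G) (X : Subgroup G) :
    MulAut.conj (e g) • X.map e.toMonoidHom = (MulAut.conj g • X).map e.toMonoidHom := by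
  ext y
  rw [Subgroup.mem_map_equiv, Subgroup.mem_pointwise_smul_iff_inv_smul_mem, Subgroup.mem_map_equiv,
    Subgroup.mem_pointwise_smul_iff_inv_smul_mem, MulAut.smul_def, MulAut.smul_def,
    MulAut.conj_inv_apply, MulAut.conj_inv_apply, map_mul, map_mul, map_inv, MulEquiv.symm_apply_apply]

theorem map_normalizer' (e : G ≃* K) (X : Subgroup G) :
    Subgroup.normalizer ((X.map e.toMonoidHom : Subgroup K) : Set K) =
      (Subgroup.normalizer (X : Set G)).map e.toMonoidHom := by
  ext y
  rw [Subgroup.mem_map_equiv, Subgroup.mem_normalizer_iff, Subgroup.mem_normalizer_iff]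
  constructor
  · intro h x
    have h1 := h (e x)
    rw [Subgroup.mem_map_equiv, Subgroup.mem_map_equiv, MulEquiv.symm_apply_apply, map_mul, map_mul,
      MulEquiv.symm_apply_apply, map_inv] at h1
    exact h1
  · intro h x
    have h1 := h (e.symm x)
    rw [Subgroup.mem_map_equiv, Subgroup.mem_map_equiv, map_mul, map_mul, map_inv]
    exact h1

theorem card_map' (e : G ≃* K) (X : Subgroup G) : Nat.card (X.map e.toMonoidHom : Subgroup K) = Nat.card X :=
  (Nat.card_congr (e.subgroupMap X).toEquiv).symm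

theorem Conf432.map (e : G ≃* K) {A Q S : Subgroup G} {g : G} (h : Conf432 A Q S g) :
    Conf432 (A.map e.toMonoidHom) (Q.map e.toMonoidHom) (S.map e.toMonoidHom) (e g) where
  simple := by
    have := h.simple
    exact e.symm.isSimpleGroup
  max := (OrderIso.isCoatom_iff (MulEquiv.mapSubgroup e) A).2 h.max
  cardA := by rw [card_map', h.cardA]
  cardQ := by rw [card_map', h.cardQ]
  comm := by
    rintro _ ⟨x, hx, rfl⟩ _ ⟨y, hy, rfl⟩
    rw [← map_mul, ← map_mul, h.comm x hx y hy]
  cent := by rw [map_centralizer', h.cent]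
  norm := by rw [map_normalizer', h.norm]
  trans := by
    rintro _ ⟨x, hx, rfl⟩ _ ⟨y, hy, rfl⟩ hx1 hy1
    obtain ⟨a, ha, hxy⟩ := h.trans x hx y hy (fun h0 => hx1 (by rw [h0, map_one]))
      (fun h0 => hy1 (by rw [h0, map_one]))
    refine ⟨e a, ⟨a, ha, rfl⟩, ?_⟩
    rw [← hxy]
    simp
  QS := Subgroup.map_mono h.QS
  SA := Subgroup.map_mono h.SA
  cardS := by rw [card_map', h.cardS]
  exp := by
    rintro _ ⟨x, hx, rfl⟩
    rw [← map_pow, h.exp x hx, map_one]
  sylow := by
    rw [← Nat.card_congr e.toEquiv]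
    exact h.sylow
  gS := by
    rw [map_normalizer']
    exact ⟨g, h.gS, rfl⟩
  gQ := by
    rw [map_conj, Ne, map_eq_iff]
    exact h.gQ
  idx := by
    rw [map_conj, Subgroup.relIndex_map_map_of_injective _ _ e.injective]
    exact h.idx
  cardN := by
    rw [map_normalizer', card_map']
    exact h.cardN
  four := by
    obtain ⟨D, hD1, hD2, hD3, hD4⟩ := h.four
    refine ⟨D.map e.toMonoidHom, ?_, Subgroup.map_mono hD2, by rw [card_map', hD3], ?_⟩
    · rw [map_normalizer']
      exact Subgroup.map_mono hD1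
    · rintro _ ⟨x, hx, rfl⟩
      rw [← map_mul, hD4 x hx, map_one]

end

end Cfsg.Agent.H399
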