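import Cfsg.Agent.H399.KillC
import Cfsg.Agent.H399.Transport
import Cfsg.Agent.H496.List27

/-!
# The configuration `3²:GL₂(3)` does not occur in a known simple group: the assembly
-/

set_option autoImplicit false

open Pointwise

namespace Cfsg.Agent.H399

open Cfsg Cfsg.Agent.OrdDiv Cfsg.Agent.H496

universe u

/-- The facts on the individual groups. -/
structure ETwoFacts : Prop where
  psu3 : ∀ {F : Type} [Field F] [Fintype F], Fintype.card F = 9 →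
    ∃ (P : Subgroup (PSU 3 F 3)) (h : PSU 3 F 3), Nat.card P = 27 ∧
      h ∈ Subgroup.normalizer (P : Set (PSU 3 F 3)) ∧ orderOf h = 8
  cardpsu3 : ∀ {F : Type} [Field F] [Fintype F], Fintype.card F = 9 → Nat.card (PSU 3 F 3) = 6048
  g2 : ∀ {F : Type} [Field F] [Fintype F], ¬ 3 ∣ Fintype.card F → 3 ≤ Fintype.card F →
    ¬ 9 ∣ Fintype.card F ^ 2 - 1 →
    (∃ x : ↥(Lie.chevG2.group F), x ≠ 1 ∧ ¬ 3 ∣ orderOf x ∧ 9 ∣ Nat.card (Subgroup.centralizer {x})) ∨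
      (∃ (φ : MulAut ↥(Lie.chevG2.group F)) (P : Subgroup ↥(Lie.chevG2.group F)), Nat.card P = 27 ∧
        (∀ x ∈ P, φ x = x) ∧ φ ≠ 1 ∧ ¬ 3 ∣ orderOf φ)
  tf4 : ∀ {F : Type} [Field F] [Fintype F] (m : ℕ), 1 ≤ m → Fintype.card F = 2 ^ (2 * m + 1) →
    ¬ 9 ∣ 2 ^ (2 * m + 1) + 1 →
    (∃ (φ : MulAut ↥(Lie.twistedF4 F (2 ^ m))) (P : Subgroup ↥(Lie.twistedF4 F (2 ^ m))), Nat.card P = 27 ∧
        (∀ x ∈ P, φ x = x) ∧ φ ≠ 1 ∧ ¬ 3 ∣ orderOf φ)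
  tits : ∀ {A Q S : Subgroup Lie.TitsGroup} {g : Lie.TitsGroup}, Conf432 A Q S g → False
  m12 : ∃ x : Spor.M12, orderOf x = 3 ∧ ¬ 27 ∣ Nat.card (Subgroup.centralizer {x})
  m24 : ∀ {A Q S : Subgroup ↥Cfsg.M24} {g : ↥Cfsg.M24}, Conf432 A Q S g → False
  j2 : ∃ (P : Subgroup Cfsg.Spor.J2) (h : Cfsg.Spor.J2), Nat.card P = 27 ∧
    h ∈ Subgroup.normalizer (P : Set Cfsg.Spor.J2) ∧ orderOf h = 8
  j4 : ∃ t : Spor.J4, t ≠ 1 ∧ ¬ 3 ∣ orderOf t ∧ 27 ∣ Nat.card (Subgroup.centralizer {t})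
  he : (∃ x : Spor.He, orderOf x = 3 ∧ ¬ 27 ∣ Nat.card (Subgroup.centralizer {x})) ∧
    ∃ (E : Subgroup Spor.He) (t : Spor.He), Nat.card E = 9 ∧ t ≠ 1 ∧ ¬ 3 ∣ orderOf t ∧
      t ∈ Subgroup.centralizer (E : Set Spor.He) ∧ ∀ x ∈ E, ∀ y ∈ E, x ≠ 1 → y ≠ 1 → IsConj x y
  ru : ∀ {A Q S : Subgroup Spor.Ru} {g : Spor.Ru}, Conf432 A Q S g → False

theorem mod_g2 {q : ℕ} (h3 : ¬ 3 ∣ q) (hq : 3 ≤ q) (h9 : ¬ 9 ∣ q ^ 2 - 1) :
    q ^ 6 * (q ^ 2 - 1) * (q ^ 6 - 1) / 27 % 3 = 1 := by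
  have h1 : 1 ≤ q ^ 2 := Nat.one_le_pow _ _ (by omega)
  have h2 : 3 ∣ q ^ 2 - 1 := by
    apply Nat.dvd_of_mod_eq_zero
    have h4 : q ^ 2 % 3 = 1 := by
      have : q % 3 = 1 ∨ q % 3 = 2 := by omega
      rcases this with h | h <;> rw [Nat.pow_mod, h]
    omega
  obtain ⟨k, hk⟩ := h2
  have hk3 : ¬ 3 ∣ k := by
    rintro ⟨j, rfl⟩
    apply h9
    rw [hk]
    exact ⟨j, by ring⟩
  have e2 : q ^ 2 = 3 * k + 1 := by omega
  have e6 : q ^ 6 = (3 * k + 1) ^ 3 := by rw [← e2, ← pow_mul]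
  have e61 : q ^ 6 - 1 = 9 * k * (3 * k ^ 2 + 3 * k + 1) := by
    rw [e6]
    have : (3 * k + 1) ^ 3 = 9 * k * (3 * k ^ 2 + 3 * k + 1) + 1 := by ring
    omega
  rw [e61, hk, e6]
  have e : (3 * k + 1) ^ 3 * (3 * k) * (9 * k * (3 * k ^ 2 + 3 * k + 1)) =
      27 * ((3 * k + 1) ^ 3 * k ^ 2 * (3 * k ^ 2 + 3 * k + 1)) := by ring
  rw [e, Nat.mul_div_cancel_left _ (by norm_num)]
  have hk' : k % 3 = 1 ∨ k % 3 = 2 := by omega
  have e1 : (3 * k + 1) % 3 = 1 := by omega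
  have e3 : (3 * k ^ 2 + 3 * k + 1) % 3 = 1 := by omega
  rw [Nat.mul_mod, Nat.mul_mod ((3 * k + 1) ^ 3), e3, Nat.pow_mod (3 * k + 1), e1]
  rcases hk' with h | h <;> rw [Nat.pow_mod k, h]

variable {G : Type u} [Group G] [Finite G] {A Q S : Subgroup G} {g : G}

theorem tits_aux {K : Type} [Group K] (hX : ∀ {A Q S : Subgroup K} {g : K}, Conf432 A Q S g → False)
    (h : Conf432 A Q S g) (e : G ≃* K) : False := hX (h.map e)

theorem e2_core (T : OrderTable.{u}) (X : ETwoFacts) (hK : IsKnownSimple' G) (h : Conf432 A Q S g) : False := by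
  have h27 : 27 ∣ Nat.card G := by
    rw [← h.cardS]
    exact Subgroup.card_subgroup_dvd_card S
  have key : ∀ n : ℕ, Nat.card G = n → Nat.card G / 27 % 3 = n / 27 % 3 := fun n hn => by rw [hn]
  rcases list27 T hK h27 h.sylow S h.cardS h.exp h.S_not_comm with ⟨F, _, _, hq, ⟨e⟩⟩ | ⟨F, _, _, hF, ⟨e⟩⟩ |
    ⟨F, _, _, h3, hq, h9, ⟨e⟩⟩ | ⟨F, _, _, m, hm, hF, h9, ⟨e⟩⟩ | ⟨⟨e⟩⟩ | ⟨⟨e⟩⟩ | ⟨⟨e⟩⟩ | ⟨⟨e⟩⟩ | ⟨⟨e⟩⟩ | ⟨⟨e⟩⟩ | ⟨⟨e⟩⟩
  · -- `L_3(3)`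
    have hc : Nat.card G = 5616 := by
      have h1 := Cfsg.Agent.H341.ThreeList.card_psl (F := F) (n := 3) (by norm_num)
      rw [hq, ← Nat.card_congr e.toEquiv] at h1
      norm_num [Finset.prod_range_succ] at h1
      exact h1
    have h1 := h.K5 (h.N_of_one (by rw [key _ hc]))
    omega
  · -- `U_3(3)`
    have hc := X.cardpsu3 (by rw [hF]; norm_num)
    rw [← Nat.card_congr e.toEquiv] at hc
    obtain ⟨P, x, hP, hx, h8⟩ := X.psu3 (by rw [hF]; norm_num)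
    have hN := h.N_of_two (by rw [key _ hc])
    have h' := h.map e
    have : Finite (PSU 3 F 3) := Finite.of_equiv _ e.toEquiv
    exact h'.Kcyc (by rw [Nm, map_normalizer', card_map']; exact hN) hP hx h8
  · -- `G_2(q)`
    have hc := T.g2 F
    rw [← Nat.card_congr e.toEquiv] at hc
    have hN := h.N_of_one (by rw [key _ hc]; exact mod_g2 hq h3 h9)
    have h' := h.map e
    have : Finite ↥(Lie.chevG2.group F) := Finite.of_equiv _ e.toEquiv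
    rcases X.g2 hq h3 h9 with ⟨x, hx, hx3, hx9⟩ | ⟨φ, P, hP, hfix, hφ, hφ3⟩
    · exact h'.K4b (by rw [Nm, map_normalizer', card_map']; exact hN) hx hx3 hx9
    · exact h'.Kaut hP hfix hφ hφ3
  · -- `²F_4(q)`
    have h' := h.map e
    have : Finite ↥(Lie.twistedF4 F (2 ^ m)) := Finite.of_equiv _ e.toEquiv
    obtain ⟨φ, P, hP, hfix, hφ, hφ3⟩ := X.tf4 m hm hF h9
    exact h'.Kaut hP hfix hφ hφ3
  · exact tits_aux (fun h' => X.tits h') h e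
  · -- `M_12`
    have hc : Nat.card G = 95040 := T.spor G (.m12, 95040) (by simp only [spor, List.mem_cons, true_or, or_true]) ⟨e⟩
    have hN := h.N_of_one (by rw [key _ hc])
    obtain ⟨x, hx, hx27⟩ := X.m12
    have h' := h.map e
    have : Finite Spor.M12 := Finite.of_equiv _ e.toEquiv
    exact hx27 (h'.K4a (by rw [Nm, map_normalizer', card_map']; exact hN) hx)
  · exact X.m24 (h.map e)
  · -- `J_2`
    have hc : Nat.card G = 604800 := T.spor G (.j2, 604800) (by simp [spor]) ⟨e⟩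
    have hN := h.N_of_two (by rw [key _ hc])
    obtain ⟨P, x, hP, hx, h8⟩ := X.j2
    have h' := h.map e
    have : Finite Spor.J2 := Finite.of_equiv _ e.toEquiv
    exact h'.Kcyc (by rw [Nm, map_normalizer', card_map']; exact hN) hP hx h8
  · -- `J_4`
    obtain ⟨t, ht, ht3, ht27⟩ := X.j4
    have h' := h.map e
    have : Finite Spor.J4 := Finite.of_equiv _ e.toEquiv
    exact h'.K1 ht ht3 ht27
  · -- `He`
    have hc : Nat.card G = 4030387200 := T.spor G (.he, 4030387200) (by simp [spor]) ⟨e⟩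
    have hN := h.N_of_two (by rw [key _ hc])
    obtain ⟨⟨x, hx, hx27⟩, E, t, hE, ht1, ht3, htE, hconj⟩ := X.he
    have h' := h.map e
    have : Finite Spor.He := Finite.of_equiv _ e.toEquiv
    exact h'.K9 (by rw [Nm, map_normalizer', card_map']; exact hN) hx hx27 hE ht1 ht3 htE hconj
  · exact X.ru (h.map e)

end Cfsg.Agent.H399
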