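import Cfsg.Agent.H399.Base

/-!
# Subgroups of index 4

`exists_hom`: if `C` has index 4 in `A` and the action on the cosets is not a 2-group, there is a homomorphism to
`Perm (Fin 4)` whose image contains the alternating group.
-/

set_option autoImplicit false

open Pointwise

namespace Cfsg.Agent.H399

variable {G : Type*} [Group G]

/-- The hom package. -/
structure Hom4 (A C : Subgroup G) (φ : ↥A →* Equiv.Perm (Fin 4)) : Prop where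
  stab : ∀ a : A, (a : G) ∈ C ↔ φ a 0 = 0
  ker : ∀ a : A, (a : G) ∈ core A C ↔ φ a = 1
  alt : ∀ σ : Equiv.Perm (Fin 4), Equiv.Perm.sign σ = 1 → ∃ a, φ a = σ

theorem exists_hom [Finite G] {A C : Subgroup G} (hCA : C ≤ A) (h4 : C.relIndex A = 4)
    (h3 : 3 ∣ (core A C).relIndex A) : ∃ φ : ↥A →* Equiv.Perm (Fin 4), Hom4 A C φ := by
  classical
  set C' : Subgroup A := C.subgroupOf A with hC'
  have hcard : Nat.card (A ⧸ C') = 4 := h4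
  have hfin : Fintype (A ⧸ C') := Fintype.ofFinite _
  have e0 : (A ⧸ C') ≃ Fin 4 := Finite.equivFinOfCardEq hcard
  set e : (A ⧸ C') ≃ Fin 4 := e0.trans (Equiv.swap (e0 ((1 : A) : A ⧸ C')) 0) with he
  have he1 : e ((1 : A) : A ⧸ C') = 0 := by simp [he]
  set φ : ↥A →* Equiv.Perm (Fin 4) := (e.permCongrHom.toMonoidHom).comp (MulAction.toPermHom A (A ⧸ C')) with hφ
  have hφa : ∀ (a : A) (i : Fin 4), φ a i = e (a • e.symm i) := by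
    intro a i
    rfl
  have hsymm : e.symm 0 = ((1 : A) : A ⧸ C') := by rw [Equiv.symm_apply_eq, he1]
  have hstab : ∀ a : A, (a : G) ∈ C ↔ φ a 0 = 0 := by
    intro a
    have h1 : φ a 0 = 0 ↔ e (a • e.symm 0) = e ((1 : A) : A ⧸ C') := by rw [hφa, he1]
    rw [h1, e.apply_eq_iff_eq, hsymm, MulAction.Quotient.smul_coe, smul_eq_mul, mul_one, QuotientGroup.eq, mul_one,
      inv_mem_iff]
    rfl
  have hfix : ∀ (a b : A), a • ((b : A) : A ⧸ C') = ((b : A) : A ⧸ C') ↔ ((b⁻¹ * a * b : A) : G) ∈ C := by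
    intro a b
    rw [MulAction.Quotient.smul_coe, smul_eq_mul, eq_comm, QuotientGroup.eq, ← mul_assoc]
    rfl
  have hker : ∀ a : A, (a : G) ∈ core A C ↔ φ a = 1 := by
    intro a
    rw [mem_core]
    constructor
    · intro h
      ext i
      rw [hφa, Equiv.Perm.one_apply]
      congr 1
      have h1 : a • e.symm i = e.symm i := by
        obtain ⟨b, hb⟩ := QuotientGroup.mk_surjective (e.symm i)
        rw [← hb, hfix]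
        have := h (b : G)⁻¹ (A.inv_mem b.2)
        simpa using this
      rw [h1, e.apply_symm_apply]
    · intro h b hb
      have h1 := congrArg (fun σ => σ (e (((⟨b, hb⟩ : A)⁻¹ : A) : A ⧸ C'))) h
      simp only [hφa, Equiv.symm_apply_apply, Equiv.Perm.one_apply, e.apply_eq_iff_eq] at h1
      rw [hfix] at h1
      simpa using h1
  refine ⟨φ, hstab, hker, ?_⟩
  have hcardI : Nat.card φ.range = (core A C).relIndex A := by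
    rw [← Subgroup.index_ker]
    congr 1
    ext a
    rw [MonoidHom.mem_ker, ← hker a]
    rfl
  have h4' : 4 ∣ (core A C).relIndex A := by
    rw [← Subgroup.relIndex_mul_relIndex _ _ _ (core_le A C) hCA, h4]
    exact dvd_mul_left _ _
  have h12 : 12 ∣ Nat.card φ.range := by
    rw [hcardI]
    exact Nat.Coprime.mul_dvd_of_dvd_of_dvd (by norm_num : Nat.Coprime 4 3) h4' h3
  have h24 : Nat.card (Equiv.Perm (Fin 4)) = 24 := by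
    rw [Nat.card_perm, Nat.card_fin]
    rfl
  have hidx := φ.range.card_mul_index
  rw [h24] at hidx
  have hle : φ.range.index = 1 ∨ φ.range.index = 2 := by
    obtain ⟨k, hk⟩ := h12
    rw [hk] at hidx
    have hk0 : k ≠ 0 := by
      rintro rfl
      simp at hidx
    have : φ.range.index ≤ 2 := by
      by_contra hcon
      push Not at hcon
      have : 12 * 1 * 3 ≤ 12 * k * φ.range.index := Nat.mul_le_mul (Nat.mul_le_mul_left _ (by omega)) hcon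
      omega
    have h0 : φ.range.index ≠ 0 := by
      intro h0
      rw [h0] at hidx
      omega
    omega
  intro σ hσ
  have : alternatingGroup (Fin 4) ≤ φ.range := by
    rcases hle with h | h
    · rw [Subgroup.index_eq_one] at h
      rw [h]
      exact le_top
    · rw [Equiv.Perm.eq_alternatingGroup_of_index_eq_two h]
  exact this (Equiv.Perm.mem_alternatingGroup.2 hσ)

section

variable {A C : Subgroup G} {φ : ↥A →* Equiv.Perm (Fin 4)}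

/-- A family of representatives acting as given even permutations. -/
theorem Hom4.exists_alt (h : Hom4 A C φ) (σ : Equiv.Perm (Fin 4)) (hσ : Equiv.Perm.sign σ = 1) :
    ∃ a, ∃ ha : a ∈ A, φ ⟨a, ha⟩ = σ := by
  obtain ⟨a, ha⟩ := h.alt σ hσ
  exact ⟨a, a.2, ha⟩

theorem Hom4.relIndex_core_eq (h : Hom4 A C φ) {N : Subgroup G} (hN : N ≤ A) :
    (core A C).relIndex N = Nat.card ((N.subgroupOf A).map φ) := by
  rw [← Subgroup.relIndex_ker, ← Subgroup.relIndex_subgroupOf hN]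
  congr 1
  ext a
  rw [MonoidHom.mem_ker, ← h.ker a]
  rfl

/-- the 3-cycle `(1 2 3)` -/
def c3 : Equiv.Perm (Fin 4) := Equiv.swap 1 2 * Equiv.swap 2 3

theorem Hom4.three_dvd (h : Hom4 A C φ) {N : Subgroup G} (hN : N ≤ A) {n : G} (hn : n ∈ N)
    (h1 : φ ⟨n, hN hn⟩ ≠ 1) (h3 : φ ⟨n, hN hn⟩ ^ 3 = 1) : 3 ∣ (core A C).relIndex N := by
  rw [h.relIndex_core_eq hN]
  have : φ ⟨n, hN hn⟩ ∈ (N.subgroupOf A).map φ := ⟨⟨n, hN hn⟩, hn, rfl⟩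
  have h2 : orderOf (⟨_, this⟩ : (N.subgroupOf A).map φ) = 3 := by
    have : Fact (Nat.Prime 3) := ⟨Nat.prime_three⟩
    refine orderOf_eq_prime ?_ ?_
    · ext1
      exact h3
    · intro hc
      exact h1 (congrArg Subtype.val hc)
  rw [← h2]
  exact orderOf_dvd_natCard _

theorem key_c3 : ∀ τ : Equiv.Perm (Fin 4), τ 0 = 0 → τ ≠ 1 →
      (τ ^ 3 = 1 ∨ (c3 * τ * c3⁻¹ * τ⁻¹ ≠ 1 ∧ (c3 * τ * c3⁻¹ * τ⁻¹) ^ 3 = 1)) := by
  unfold c3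
  decide +kernel

/-- (R2) a normal subgroup of `C` whose image has order prime to 3 lies in the core -/
theorem Hom4.le_core_of (h : Hom4 A C φ) (hCA : C ≤ A) {N : Subgroup G} (hN : N ≤ C) (hC : C ≤ Nm N)
    (h3 : ¬ 3 ∣ (core A C).relIndex N) : N ≤ core A C := by
  intro n hn
  by_contra hcon
  have hnA : n ∈ A := hCA (hN hn)
  obtain ⟨c, hcA, hc⟩ := h.exists_alt c3 (by decide)
  have hcC : c ∈ C := by
    rw [h.stab ⟨c, hcA⟩, hc]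
    decide
  have hcn : c * n * c⁻¹ ∈ N := le_Nm.1 hC c hcC n hn
  have h0 : φ ⟨n, hnA⟩ 0 = 0 := (h.stab _).1 (hN hn)
  have h1 : φ ⟨n, hnA⟩ ≠ 1 := fun h1 => hcon ((h.ker ⟨n, hnA⟩).2 h1)
  apply h3
  rcases key_c3 _ h0 h1 with h2 | ⟨h2, h2'⟩
  · exact h.three_dvd (hN.trans hCA) hn h1 h2
  · have h4 : c * n * c⁻¹ * n⁻¹ ∈ N := N.mul_mem hcn (N.inv_mem hn)
    have h5 : φ ⟨c * n * c⁻¹ * n⁻¹, hCA (hN h4)⟩ = c3 * φ ⟨n, hnA⟩ * c3⁻¹ * (φ ⟨n, hnA⟩)⁻¹ := by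
      rw [← hc, ← map_inv, ← map_inv, ← map_mul, ← map_mul, ← map_mul]
      rfl
    exact h.three_dvd (hN.trans hCA) h4 (by rw [h5]; exact h2) (by rw [h5]; exact h2')

theorem Hom4.trans (h : Hom4 A C φ) (i : Fin 4) : ∃ a, ∃ ha : a ∈ A, φ ⟨a, ha⟩ 0 = i := by
  have key : ∀ i : Fin 4, ∃ σ : Equiv.Perm (Fin 4), Equiv.Perm.sign σ = 1 ∧ σ 0 = i := by decide
  obtain ⟨σ, hσ, h0⟩ := key i
  obtain ⟨a, ha, h1⟩ := h.exists_alt σ hσ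
  exact ⟨a, ha, by rw [h1, h0]⟩

/-- (R3) `C` is maximal in `A` -/
theorem Hom4.eq_or_eq (h : Hom4 A C φ) {M : Subgroup G} (hCM : C ≤ M) (hMA : M ≤ A) : M = C ∨ M = A := by
  by_cases hMC : M ≤ C
  · exact Or.inl (le_antisymm hMC hCM)
  right
  refine le_antisymm hMA ?_
  obtain ⟨m, hm, hmC⟩ := SetLike.not_le_iff_exists.1 hMC
  have hmA := hMA hm
  have h0 : φ ⟨m, hmA⟩ 0 ≠ 0 := fun h0 => hmC ((h.stab ⟨m, hmA⟩).2 h0)
  intro a ha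
  -- find `m'` in `M` with the same image of `0` as `a`
  obtain ⟨c, hcA, hc⟩ := h.exists_alt c3 (by decide)
  have hcC : c ∈ C := by
    rw [h.stab ⟨c, hcA⟩, hc]
    decide
  have key : ∀ i j : Fin 4, i ≠ 0 → j ≠ 0 → ∃ k : Fin 3, (c3 ^ (k : ℕ)) i = j := by
    unfold c3
    decide
  by_cases haC : a ∈ C
  · exact hCM haC
  have h1 : φ ⟨a, ha⟩ 0 ≠ 0 := fun h0 => haC ((h.stab ⟨a, ha⟩).2 h0)
  obtain ⟨k, hk⟩ := key _ _ h0 h1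
  have h2 : (a⁻¹ * (c ^ (k : ℕ) * m)) ∈ C := by
    have hmem : a⁻¹ * (c ^ (k : ℕ) * m) ∈ A := A.mul_mem (A.inv_mem ha) (A.mul_mem (A.pow_mem hcA _) hmA)
    rw [h.stab ⟨_, hmem⟩]
    have h3 : φ ⟨a⁻¹ * (c ^ (k : ℕ) * m), hmem⟩ = (φ ⟨a, ha⟩)⁻¹ * (c3 ^ (k : ℕ) * φ ⟨m, hmA⟩) := by
      rw [← hc, ← map_pow, ← map_inv, ← map_mul, ← map_mul]
      rfl
    rw [h3, Equiv.Perm.mul_apply, Equiv.Perm.mul_apply, hk]
    simp
  have h3 : a = (c ^ (k : ℕ) * m) * (a⁻¹ * (c ^ (k : ℕ) * m))⁻¹ := by group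
  rw [h3]
  exact M.mul_mem (M.mul_mem (M.pow_mem (hCM hcC) _) hm) (M.inv_mem (hCM h2))

/-- (R4) -/
theorem Hom4.sup_eq (h : Hom4 A C φ) (hCA : C ≤ A) {N : Subgroup G} (hN : N ≤ A) (hA : A ≤ Nm N)
    (hNK : ¬ N ≤ core A C) : N ⊔ C = A := by
  rcases h.eq_or_eq (M := N ⊔ C) le_sup_right (sup_le hN hCA) with h1 | h1
  · exact absurd (le_core (by rw [← h1]; exact le_sup_left) hA) hNK
  · exact h1

/-- (R5) -/
theorem Hom4.le_core_of_three (h : Hom4 A C φ) (hCA : C ≤ A) (h4 : C.relIndex A = 4) [Finite G] {N : Subgroup G}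
    (hN : N ≤ A) (hA : A ≤ Nm N) (h3 : IsPGroup 3 N) : N ≤ core A C := by
  by_contra hcon
  have h1 := h.sup_eq hCA hN hA hcon
  have : Fact (Nat.Prime 3) := ⟨Nat.prime_three⟩
  have h2 : C.relIndex (C ⊔ N) = C.relIndex N := relIndex_sup_of_right (hCA.trans hA)
  rw [sup_comm, h1, h4] at h2
  have h5 : 4 ∣ Nat.card N := by
    rw [h2]
    exact Subgroup.relIndex_dvd_card _ _
  obtain ⟨n, hn⟩ := IsPGroup.iff_card.1 h3
  rw [hn] at h5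
  have := Nat.Coprime.eq_one_of_dvd (Nat.Coprime.pow_right n (by norm_num : Nat.Coprime 4 3)) h5
  omega

theorem Hom4.relIndex_A [Finite G] (_h : Hom4 A C φ) (hCA : C ≤ A) (h4 : C.relIndex A = 4)
    (h3 : 3 ∣ (core A C).relIndex A) : (core A C).relIndex A = 12 ∨ (core A C).relIndex A = 24 := by
  have h4' : 4 ∣ (core A C).relIndex A := by
    rw [← Subgroup.relIndex_mul_relIndex _ _ _ (core_le A C) hCA, h4]
    exact dvd_mul_left _ _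
  have h12 : 12 ∣ (core A C).relIndex A :=
    Nat.Coprime.mul_dvd_of_dvd_of_dvd (by norm_num : Nat.Coprime 4 3) h4' h3
  have h24 : (core A C).relIndex A ∣ 24 := by
    have h1 := _h.relIndex_core_eq (le_refl A)
    have h2 : Nat.card (Equiv.Perm (Fin 4)) = 24 := by
      rw [Nat.card_perm, Nat.card_fin]
      rfl
    rw [h1, ← h2]
    exact Subgroup.card_subgroup_dvd_card _
  obtain ⟨k, hk⟩ := h12
  rw [hk] at h24 ⊢
  have : k ∣ 2 := by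
    have : 12 * k ∣ 12 * 2 := h24
    exact Nat.dvd_of_mul_dvd_mul_left (by norm_num) this
  rcases (Nat.dvd_prime Nat.prime_two).1 this with h | h <;> simp [h]

theorem Hom4.relIndex_C [Finite G] (h : Hom4 A C φ) (hCA : C ≤ A) (h4 : C.relIndex A = 4)
    (h3 : 3 ∣ (core A C).relIndex A) : (core A C).relIndex C = 3 ∨ (core A C).relIndex C = 6 := by
  have h1 := Subgroup.relIndex_mul_relIndex _ _ _ (core_le A C) hCA
  rw [h4] at h1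
  rcases h.relIndex_A hCA h4 h3 with h2 | h2 <;> omega

/-- a subgroup of `C` not in the core and normalised by `C` -/
theorem Hom4.relIndex_N [Finite G] (h : Hom4 A C φ) (hCA : C ≤ A) {N : Subgroup G} (hN : N ≤ C) (hC : C ≤ Nm N) (hNK : ¬ N ≤ core A C) :
    3 ∣ (core A C).relIndex N ∧ (core A C).relIndex N ∣ (core A C).relIndex C := by
  refine ⟨?_, ?_⟩
  · by_contra hcon
    exact hNK (h.le_core_of hCA hN hC hcon)
  · have h1 : N ≤ Nm (core A C) := (hN.trans hCA).trans (le_Nm_core A C)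
    rw [← relIndex_sup_of_left h1,
      ← Subgroup.relIndex_mul_relIndex _ _ _ (le_sup_right : core A C ≤ N ⊔ core A C) (sup_le hN (core_le A C))]
    exact dvd_mul_right _ _

/-- (R6) -/
theorem Hom4.inf_Nm (h : Hom4 A C φ) (hCA : C ≤ A) {N : Subgroup G} (hN : N ≤ C) (hC : C ≤ Nm N)
    (hNK : ¬ N ≤ core A C) : A ⊓ Nm N = C := by
  rcases h.eq_or_eq (M := A ⊓ Nm N) (le_inf hCA hC) inf_le_left with h1 | h1
  · exact h1
  · exact absurd (le_core hN (by rw [← h1]; exact inf_le_right)) hNK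

/-- (R7) an element without fixed points whose square is in the core -/
theorem Hom4.exists_dt (h : Hom4 A C φ) (i : Fin 4) (hi : i ≠ 0) : ∃ u ∈ A, u * u ∈ core A C ∧
    (∀ a ∈ A, a⁻¹ * u * a ∉ C) ∧ ∀ a, ∀ ha : a ∈ A, φ ⟨a, ha⟩ 0 = i → a⁻¹ * u ∈ C := by
  have key : ∀ i : Fin 4, i ≠ 0 → ∃ σ : Equiv.Perm (Fin 4), Equiv.Perm.sign σ = 1 ∧ σ * σ = 1 ∧ σ 0 = i ∧
      ∀ j, σ j ≠ j := by decide +kernel
  obtain ⟨σ, h1, h2, h0, h3⟩ := key i hi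
  obtain ⟨u, hu, h4⟩ := h.exists_alt σ h1
  refine ⟨u, hu, ?_, ?_, ?_⟩
  · rw [h.ker ⟨u * u, A.mul_mem hu hu⟩]
    rw [← h2, ← h4, ← map_mul]
    rfl
  · intro a ha hcon
    have hmem : a⁻¹ * u * a ∈ A := A.mul_mem (A.mul_mem (A.inv_mem ha) hu) ha
    rw [h.stab ⟨_, hmem⟩] at hcon
    have h5 : φ ⟨a⁻¹ * u * a, hmem⟩ = (φ ⟨a, ha⟩)⁻¹ * σ * φ ⟨a, ha⟩ := by
      rw [← h4, ← map_inv, ← map_mul, ← map_mul]
      rfl
    rw [h5, Equiv.Perm.mul_apply, Equiv.Perm.mul_apply, Equiv.Perm.inv_eq_iff_eq] at hcon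
    exact h3 _ hcon
  · intro a ha h6
    have hmem : a⁻¹ * u ∈ A := A.mul_mem (A.inv_mem ha) hu
    rw [h.stab ⟨_, hmem⟩]
    have h5 : φ ⟨a⁻¹ * u, hmem⟩ = (φ ⟨a, ha⟩)⁻¹ * σ := by
      rw [← h4, ← map_inv, ← map_mul]
      rfl
    rw [h5, Equiv.Perm.mul_apply, Equiv.Perm.inv_eq_iff_eq, h0, h6]

/-- (R8) a subgroup containing a normal non-core subgroup of `C`, not contained in `C`, is transitive -/
theorem Hom4.transitive_of (h : Hom4 A C φ) (hCA : C ≤ A) {N M : Subgroup G} (hN : N ≤ C) (hC : C ≤ Nm N)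
    (hNK : ¬ N ≤ core A C) (hNM : N ≤ M) (hM : M ≤ A) (hMC : ¬ M ≤ C) : ∀ a ∈ A, ∃ m ∈ M, m⁻¹ * a ∈ C := by
  -- an element of `N` mapping to a 3-cycle
  have hex : ∃ n ∈ N, ∃ hn : n ∈ A, φ ⟨n, hn⟩ 0 = 0 ∧ φ ⟨n, hn⟩ ≠ 1 ∧ φ ⟨n, hn⟩ ^ 3 = 1 := by
    obtain ⟨n, hn, hnK⟩ := SetLike.not_le_iff_exists.1 hNK
    have hnA : n ∈ A := hCA (hN hn)
    obtain ⟨c, hcA, hc⟩ := h.exists_alt c3 (by decide)
    have hcC : c ∈ C := by
      rw [h.stab ⟨c, hcA⟩, hc]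
      decide
    have hcn : c * n * c⁻¹ ∈ N := le_Nm.1 hC c hcC n hn
    have h0 : φ ⟨n, hnA⟩ 0 = 0 := (h.stab _).1 (hN hn)
    have h1 : φ ⟨n, hnA⟩ ≠ 1 := fun h1 => hnK ((h.ker ⟨n, hnA⟩).2 h1)
    rcases key_c3 _ h0 h1 with h2 | ⟨h2, h2'⟩
    · exact ⟨n, hn, hnA, h0, h1, h2⟩
    · have h4 : c * n * c⁻¹ * n⁻¹ ∈ N := N.mul_mem hcn (N.inv_mem hn)
      have h5 : φ ⟨c * n * c⁻¹ * n⁻¹, hCA (hN h4)⟩ = c3 * φ ⟨n, hnA⟩ * c3⁻¹ * (φ ⟨n, hnA⟩)⁻¹ := by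
        rw [← hc, ← map_inv, ← map_inv, ← map_mul, ← map_mul, ← map_mul]
        rfl
      exact ⟨_, h4, hCA (hN h4), (h.stab ⟨_, _⟩).1 (hN h4), by rw [h5]; exact h2, by rw [h5]; exact h2'⟩
  obtain ⟨n, hn, hnA, hn0, hn1, hn3⟩ := hex
  obtain ⟨m, hm, hmC⟩ := SetLike.not_le_iff_exists.1 hMC
  have hmA := hM hm
  have hm0 : φ ⟨m, hmA⟩ 0 ≠ 0 := fun h0 => hmC ((h.stab ⟨m, hmA⟩).2 h0)
  have key : ∀ σ : Equiv.Perm (Fin 4), σ 0 = 0 → σ ≠ 1 → σ ^ 3 = 1 → ∀ i j : Fin 4, i ≠ 0 → j ≠ 0 →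
      ∃ k : Fin 3, (σ ^ (k : ℕ)) i = j := by decide +kernel
  intro a ha
  by_cases haC : a ∈ C
  · exact ⟨1, M.one_mem, by simpa using haC⟩
  have ha0 : φ ⟨a, ha⟩ 0 ≠ 0 := fun h0 => haC ((h.stab ⟨a, ha⟩).2 h0)
  obtain ⟨k, hk⟩ := key _ hn0 hn1 hn3 _ _ hm0 ha0
  refine ⟨n ^ (k : ℕ) * m, M.mul_mem (M.pow_mem (hNM hn) _) hm, ?_⟩
  have hmem : (n ^ (k : ℕ) * m)⁻¹ * a ∈ A := A.mul_mem (A.inv_mem (A.mul_mem (A.pow_mem hnA _) hmA)) ha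
  rw [h.stab ⟨_, hmem⟩]
  have h3 : φ ⟨(n ^ (k : ℕ) * m)⁻¹ * a, hmem⟩ = (φ ⟨n, hnA⟩ ^ (k : ℕ) * φ ⟨m, hmA⟩)⁻¹ * φ ⟨a, ha⟩ := by
    rw [← map_pow, ← map_mul, ← map_inv, ← map_mul]
    rfl
  rw [h3, Equiv.Perm.mul_apply, Equiv.Perm.inv_eq_iff_eq, Equiv.Perm.mul_apply, hk]

theorem key_dt : ∀ τ : Equiv.Perm (Fin 4), τ 0 = 0 → τ ≠ 1 → τ ^ 3 = 1 → ∃ ρ : Equiv.Perm (Fin 4),
    Equiv.Perm.sign ρ = 1 ∧ (τ⁻¹ * (ρ * τ * ρ⁻¹)) * (τ⁻¹ * (ρ * τ * ρ⁻¹)) = 1 ∧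
      ∀ j, (τ⁻¹ * (ρ * τ * ρ⁻¹)) j ≠ j := by decide +kernel

/-- an element of `N` mapping to a 3-cycle fixing `0` -/
theorem Hom4.exists_three (h : Hom4 A C φ) (hCA : C ≤ A) {N : Subgroup G} (hN : N ≤ C) (hC : C ≤ Nm N)
    (hNK : ¬ N ≤ core A C) : ∃ n ∈ N, ∃ hn : n ∈ A, φ ⟨n, hn⟩ 0 = 0 ∧ φ ⟨n, hn⟩ ≠ 1 ∧ φ ⟨n, hn⟩ ^ 3 = 1 := by
  obtain ⟨n, hn, hnK⟩ := SetLike.not_le_iff_exists.1 hNK
  have hnA : n ∈ A := hCA (hN hn)
  obtain ⟨c, hcA, hc⟩ := h.exists_alt c3 (by decide)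
  have hcC : c ∈ C := by
    rw [h.stab ⟨c, hcA⟩, hc]
    decide
  have hcn : c * n * c⁻¹ ∈ N := le_Nm.1 hC c hcC n hn
  have h0 : φ ⟨n, hnA⟩ 0 = 0 := (h.stab _).1 (hN hn)
  have h1 : φ ⟨n, hnA⟩ ≠ 1 := fun h1 => hnK ((h.ker ⟨n, hnA⟩).2 h1)
  rcases key_c3 _ h0 h1 with h2 | ⟨h2, h2'⟩
  · exact ⟨n, hn, hnA, h0, h1, h2⟩
  · have h4 : c * n * c⁻¹ * n⁻¹ ∈ N := N.mul_mem hcn (N.inv_mem hn)
    have h5 : φ ⟨c * n * c⁻¹ * n⁻¹, hCA (hN h4)⟩ = c3 * φ ⟨n, hnA⟩ * c3⁻¹ * (φ ⟨n, hnA⟩)⁻¹ := by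
      rw [← hc, ← map_inv, ← map_inv, ← map_mul, ← map_mul, ← map_mul]
      rfl
    exact ⟨_, h4, hCA (hN h4), (h.stab ⟨_, _⟩).1 (hN h4), by rw [h5]; exact h2, by rw [h5]; exact h2'⟩

/-- (R7') a fixed point free element with square in the core, in the normal closure of `N` -/
theorem Hom4.exists_dt' (h : Hom4 A C φ) (hCA : C ≤ A) {N : Subgroup G} (hN : N ≤ C) (hC : C ≤ Nm N)
    (hNK : ¬ N ≤ core A C) : ∃ u ∈ ncl A N, u ∈ A ∧ u * u ∈ core A C ∧ ∀ a ∈ A, a⁻¹ * u * a ∉ C := by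
  obtain ⟨n, hn, hnA, hn0, hn1, hn3⟩ := h.exists_three hCA hN hC hNK
  obtain ⟨ρ, hρ, h1, h2⟩ := key_dt _ hn0 hn1 hn3
  obtain ⟨r, hr, hr'⟩ := h.exists_alt ρ hρ
  have hu : n⁻¹ * (r * n * r⁻¹) ∈ A := A.mul_mem (A.inv_mem hnA) (A.mul_mem (A.mul_mem hr hnA) (A.inv_mem hr))
  have hφ : φ ⟨n⁻¹ * (r * n * r⁻¹), hu⟩ = (φ ⟨n, hnA⟩)⁻¹ * (ρ * φ ⟨n, hnA⟩ * ρ⁻¹) := by
    rw [← hr', ← map_inv, ← map_inv, ← map_mul, ← map_mul, ← map_mul]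
    rfl
  refine ⟨n⁻¹ * (r * n * r⁻¹), ?_, hu, ?_, ?_⟩
  · refine Subgroup.mul_mem _ (Subgroup.inv_mem _ (le_ncl _ _ hn)) (cj_le_ncl hr ?_)
    exact conj_mem_cj.2 hn
  · rw [h.ker ⟨_, A.mul_mem hu hu⟩, ← h1, ← hφ, ← map_mul]
    rfl
  · intro a ha hcon
    have hmem : a⁻¹ * (n⁻¹ * (r * n * r⁻¹)) * a ∈ A := A.mul_mem (A.mul_mem (A.inv_mem ha) hu) ha
    rw [h.stab ⟨_, hmem⟩] at hcon
    have h5 : φ ⟨a⁻¹ * (n⁻¹ * (r * n * r⁻¹)) * a, hmem⟩ =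
        (φ ⟨a, ha⟩)⁻¹ * ((φ ⟨n, hnA⟩)⁻¹ * (ρ * φ ⟨n, hnA⟩ * ρ⁻¹)) * φ ⟨a, ha⟩ := by
      rw [← hφ, ← map_inv, ← map_mul, ← map_mul]
      rfl
    rw [h5, Equiv.Perm.mul_apply, Equiv.Perm.mul_apply, Equiv.Perm.inv_eq_iff_eq] at hcon
    exact h2 _ hcon

theorem key_inv : ∀ σ τ : Equiv.Perm (Fin 4), σ 0 = 0 → τ 0 = 0 → σ ≠ 1 → σ ^ 3 = 1 → τ ≠ 1 → τ ≠ σ → τ ≠ σ⁻¹ →
    τ * σ * τ⁻¹ * σ = 1 := by decide +kernel

/-- (R9) elements of the stabiliser outside the alternating part invert it -/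
theorem Hom4.inverts (h : Hom4 A C φ) (hCA : C ≤ A) {q t : G} (hq : q ∈ C) (ht : t ∈ C)
    (h3 : q ^ 3 ∈ core A C) (hq1 : q ∉ core A C) (ht1 : t ∉ core A C) (ht2 : t * q⁻¹ ∉ core A C)
    (ht3 : t * q ∉ core A C) : t * q * t⁻¹ * q ∈ core A C := by
  have hqA := hCA hq
  have htA := hCA ht
  have e1 : φ ⟨t * q * t⁻¹ * q, A.mul_mem (A.mul_mem (A.mul_mem htA hqA) (A.inv_mem htA)) hqA⟩ =
      φ ⟨t, htA⟩ * φ ⟨q, hqA⟩ * (φ ⟨t, htA⟩)⁻¹ * φ ⟨q, hqA⟩ := by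
    rw [← map_inv, ← map_mul, ← map_mul, ← map_mul]
    rfl
  rw [h.ker ⟨_, A.mul_mem (A.mul_mem (A.mul_mem htA hqA) (A.inv_mem htA)) hqA⟩, e1]
  refine key_inv _ _ ((h.stab _).1 hq) ((h.stab _).1 ht) ?_ ?_ ?_ ?_ ?_
  · exact fun h0 => hq1 ((h.ker ⟨q, hqA⟩).2 h0)
  · rw [← map_pow]
    exact (h.ker ⟨q ^ 3, A.pow_mem hqA 3⟩).1 h3
  · exact fun h0 => ht1 ((h.ker ⟨t, htA⟩).2 h0)
  · intro h0
    apply ht2
    rw [h.ker ⟨t * q⁻¹, A.mul_mem htA (A.inv_mem hqA)⟩]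
    have : φ ⟨t * q⁻¹, A.mul_mem htA (A.inv_mem hqA)⟩ = φ ⟨t, htA⟩ * (φ ⟨q, hqA⟩)⁻¹ := by
      rw [← map_inv, ← map_mul]
      rfl
    rw [this, h0, mul_inv_cancel]
  · intro h0
    apply ht3
    rw [h.ker ⟨t * q, A.mul_mem htA hqA⟩]
    have : φ ⟨t * q, A.mul_mem htA hqA⟩ = φ ⟨t, htA⟩ * (φ ⟨q, hqA⟩) := by
      rw [← map_mul]
      rfl
    rw [this, h0, inv_mul_cancel]

end

end Cfsg.Agent.H399
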