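import Cfsg.Agent.H399.Omega

/-!
# The graph on the conjugates and critical pairs
-/

set_option autoImplicit false
set_option linter.unusedSectionVars false
set_option linter.unnecessarySeqFocus false

open Pointwise

namespace Cfsg.Agent.H399

variable {G : Type*} [Group G]

/-- The hypotheses of the amalgam method. -/
structure Mn (A B : Subgroup G) : Prop extends H2 A B where
  N : ∀ X ≤ A, X ≠ ⊥ → A ≤ Nm X → Nm X = A
  gen : A ⊔ B = ⊤
  core : ∀ X : Subgroup G, (∀ x, X ≤ cj x A) → X = ⊥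

theorem cj_K (x : G) (A B : Subgroup G) : cj x (K A B) = K (cj x A) (cj x B) := by
  rw [cj_core, cj_inf]

theorem cj_SS (x : G) (A B : Subgroup G) : cj x (SS A B) = SS (cj x A) (cj x B) := by
  rw [cj_sup, cj_Op, cj_Op]

section

variable [Finite G] {A B : Subgroup G}

theorem P3.cjBy (h : P3 A B) (x : G) : P3 (cj x A) (cj x B) where
  conj := by
    obtain ⟨g, hg⟩ := h.conj
    refine ⟨x * g * x⁻¹, ?_⟩
    rw [cj_mul, cj_inv_cj, cj_mul, hg]
  idx := by rw [← cj_inf, relIndex_cj, h.idx]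
  U := by
    intro X hX h1 h2
    have h3 := h.U (cj x⁻¹ X) ?_ ?_ ?_
    · rw [cj_eq_iff, inv_inv, cj_bot] at h3
      exact h3
    · rw [cj_le_iff, inv_inv, cj_inf]
      exact hX
    · rw [← cj_Nm, ← cj_le_cj (x := x), cj_cj_inv]
      exact h1
    · rw [← cj_Nm, ← cj_le_cj (x := x), cj_cj_inv]
      exact h2
  three := by
    rw [← cj_K, relIndex_cj]
    exact h.three
  three' := by
    rw [← cj_K, relIndex_cj]
    exact h.three'

theorem H2.cjBy (h : H2 A B) (x : G) : H2 (cj x A) (cj x B) where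
  toP3 := h.toP3.cjBy x
  two := by rw [← cj_Op, h.two, cj_bot]

theorem Mn.cjBy (h : Mn A B) (x : G) : Mn (cj x A) (cj x B) where
  toH2 := h.toH2.cjBy x
  N := by
    intro X hX h0 h1
    have h3 := h.N (cj x⁻¹ X) ?_ ?_ ?_
    · rw [← cj_Nm, cj_eq_iff, inv_inv] at h3
      exact h3
    · rw [cj_le_iff, inv_inv]
      exact hX
    · intro h3
      apply h0
      rw [cj_eq_iff, inv_inv, cj_bot] at h3
      exact h3
    · rw [← cj_Nm, ← cj_le_cj (x := x), cj_cj_inv]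
      exact h1
  gen := by
    rw [← cj_sup, h.gen, eq_top_iff]
    intro y _
    rw [mem_cj]
    exact Subgroup.mem_top _
  core := by
    intro X hX
    apply h.core
    intro y
    have := hX (y * x⁻¹)
    rwa [← cj_mul, inv_mul_cancel_right] at this

theorem Mn.symm (h : Mn A B) : Mn B A where
  toH2 := h.toH2.symm
  N := by
    obtain ⟨g, hg⟩ := h.conj
    have := (h.cjBy g).N
    rwa [hg] at this
  gen := by rw [sup_comm, h.gen]
  core := by
    obtain ⟨g, hg⟩ := h.conj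
    have := (h.cjBy g).core
    rwa [hg] at this

/-- Adjacency -/
def Adj (A B X Y : Subgroup G) : Prop := ∃ x, (X = cj x A ∧ Y = cj x B) ∨ (X = cj x B ∧ Y = cj x A)

theorem Adj.symm {X Y : Subgroup G} (h : Adj A B X Y) : Adj A B Y X := by
  obtain ⟨x, h | h⟩ := h
  · exact ⟨x, Or.inr ⟨h.2, h.1⟩⟩
  · exact ⟨x, Or.inl ⟨h.2, h.1⟩⟩

theorem Adj.cjBy {X Y : Subgroup G} (h : Adj A B X Y) (y : G) : Adj A B (cj y X) (cj y Y) := by
  obtain ⟨x, h | h⟩ := h
  · exact ⟨y * x, Or.inl ⟨by rw [h.1, cj_mul], by rw [h.2, cj_mul]⟩⟩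
  · exact ⟨y * x, Or.inr ⟨by rw [h.1, cj_mul], by rw [h.2, cj_mul]⟩⟩

theorem Mn.of_adj (h : Mn A B) {X Y : Subgroup G} (hXY : Adj A B X Y) : Mn X Y := by
  obtain ⟨x, ⟨rfl, rfl⟩ | ⟨rfl, rfl⟩⟩ := hXY
  · exact h.cjBy x
  · exact h.symm.cjBy x

theorem Adj.isV (hc : ∃ g, cj g A = B) {X Y : Subgroup G} (h : Adj A B X Y) : ∃ x, X = cj x A := by
  obtain ⟨g, hg⟩ := hc
  obtain ⟨x, h | h⟩ := h
  · exact ⟨x, h.1⟩
  · exact ⟨x * g, by rw [h.1, cj_mul, hg]⟩

/-- Walks -/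
def Wk (A B : Subgroup G) : ℕ → Subgroup G → Subgroup G → Prop
  | 0, X, Y => X = Y ∧ ∃ x, X = cj x A
  | n + 1, X, Y => ∃ W, Adj A B X W ∧ Wk A B n W Y

theorem Wk.append (hc : ∃ g, cj g A = B) {n : ℕ} :
    ∀ {X Y Z : Subgroup G}, Wk A B n X Y → Adj A B Y Z → Wk A B (n + 1) X Z := by
  induction n with
  | zero =>
    rintro X Y Z ⟨rfl, -⟩ h
    exact ⟨Z, h, rfl, h.symm.isV hc⟩
  | succ n ih =>
    rintro X Y Z ⟨W, hW, hW'⟩ h
    exact ⟨W, hW, ih hW' h⟩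

theorem Wk.symm (hc : ∃ g, cj g A = B) {n : ℕ} : ∀ {X Y : Subgroup G}, Wk A B n X Y → Wk A B n Y X := by
  induction n with
  | zero =>
    rintro X Y ⟨rfl, h⟩
    exact ⟨rfl, h⟩
  | succ n ih =>
    rintro X Y ⟨W, hW, hW'⟩
    exact (ih hW').append hc hW.symm

theorem Wk.cjBy {n : ℕ} : ∀ {X Y : Subgroup G}, Wk A B n X Y → ∀ y, Wk A B n (cj y X) (cj y Y) := by
  induction n with
  | zero =>
    rintro X Y ⟨rfl, x, rfl⟩ y
    exact ⟨rfl, y * x, by rw [cj_mul]⟩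
  | succ n ih =>
    rintro X Y ⟨W, hW, hW'⟩ y
    exact ⟨_, hW.cjBy y, ih hW' y⟩

/-- the last step -/
theorem Wk.last (hc : ∃ g, cj g A = B) {n : ℕ} {X Y : Subgroup G} (h : Wk A B (n + 1) X Y) :
    ∃ W, Wk A B n X W ∧ Adj A B W Y := by
  obtain ⟨W, hW, hW'⟩ := h.symm hc
  exact ⟨W, hW'.symm hc, hW.symm⟩

theorem Mn.reach (h : Mn A B) (x : G) : ∃ n, Wk A B n A (cj x A) := by
  have hx : x ∈ Subgroup.closure ((A : Set G) ∪ (B : Set G)) := by
    rw [Subgroup.closure_union, Subgroup.closure_eq, Subgroup.closure_eq, h.gen]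
    exact Subgroup.mem_top x
  have hA : ∀ a ∈ A, ∀ y, (∃ n, Wk A B n A (cj y A)) → ∃ n, Wk A B n A (cj (a * y) A) := by
    rintro a ha y ⟨n, hn⟩
    have := hn.cjBy a
    rw [cj_of_mem ha, ← cj_mul] at this
    exact ⟨n, this⟩
  have hB : ∀ b ∈ B, ∀ y, (∃ n, Wk A B n A (cj y A)) → ∃ n, Wk A B n A (cj (b * y) A) := by
    rintro b hb y ⟨n, hn⟩
    have := hn.cjBy b
    rw [← cj_mul] at this
    refine ⟨n + 2, B, ⟨1, Or.inl ⟨by rw [cj_one], by rw [cj_one]⟩⟩, cj b A, ⟨b, Or.inr ⟨?_, rfl⟩⟩, this⟩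
    rw [cj_of_mem hb]
  refine Subgroup.closure_induction_left (p := fun x _ => ∃ n, Wk A B n A (cj x A)) ?_ ?_ ?_ hx
  · exact ⟨0, by rw [cj_one], 1, by rw [cj_one]⟩
  · rintro y (hy | hy) z - hz
    · exact hA y hy z hz
    · exact hB y hy z hz
  · rintro y (hy | hy) z - hz
    · exact hA y⁻¹ (A.inv_mem hy) z hz
    · exact hB y⁻¹ (B.inv_mem hy) z hz

theorem Mn.exists_crit (h : Mn A B) : ∃ n X Y, Wk A B n X Y ∧ ¬ VV X ≤ Op 3 Y := by
  by_contra hcon
  push Not at hcon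
  apply h.V_ne
  apply h.core
  intro x
  obtain ⟨n, hn⟩ := h.reach x
  exact (hcon n _ _ hn).trans (Op_le _ _)

/-- A critical pair, with first and last edges. -/
structure Crit (A B : Subgroup G) (n : ℕ) (X X1 Y' Y : Subgroup G) : Prop where
  min : ∀ m ≤ n, ∀ X Y, Wk A B m X Y → VV X ≤ Op 3 Y
  walk : Wk A B (n + 1) X Y
  adj : Adj A B X X1
  walk1 : Wk A B n X1 Y
  adj' : Adj A B Y' Y
  walk2 : Wk A B n X Y'
  crit : ¬ VV X ≤ Op 3 Y

theorem Mn.exists_Crit (h : Mn A B) : ∃ n X X1 Y' Y, Crit A B n X X1 Y' Y := by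
  classical
  have hex := h.exists_crit
  obtain ⟨X, Y, h1, h2⟩ := Nat.find_spec hex
  have hmin : ∀ m < Nat.find hex, ∀ X Y, Wk A B m X Y → VV X ≤ Op 3 Y := by
    intro m hm X Y hXY
    by_contra hcon
    exact Nat.find_min hex hm ⟨X, Y, hXY, hcon⟩
  revert h1 hmin
  generalize Nat.find hex = n
  intro h1 hmin
  match n, h1, hmin with
  | 0, h1, hmin =>
    exfalso
    obtain ⟨rfl, x, rfl⟩ := h1
    exact h2 (h.cjBy x).V_le_Q
  | n + 1, h1, hmin =>
    obtain ⟨X1, hX1, hX1'⟩ := id h1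
    obtain ⟨Y', hY', hY''⟩ := h1.last h.conj
    exact ⟨n, X, X1, Y', Y, fun m hm => hmin m (by omega), h1, hX1, hX1', hY'', hY', h2⟩

/-! ### Transvections -/

theorem eq_of_prime_relIndex {X M S : Subgroup G} {p : ℕ} (hp : p.Prime) (hXM : X ≤ M) (hMS : M ≤ S)
    (h : X.relIndex S = p) (hne : ¬ M ≤ X) : M = S := by
  have h1 := Subgroup.relIndex_mul_relIndex _ _ _ hXM hMS
  rw [h] at h1
  rcases hp.eq_one_or_self_of_dvd _ (Dvd.intro _ h1) with h2 | h2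
  · exact absurd (Subgroup.relIndex_eq_one.1 h2) hne
  · rw [h2] at h1
    have h3 : M.relIndex S = 1 := Nat.eq_of_mul_eq_mul_left hp.pos (by rw [h1, mul_one])
    exact le_antisymm hMS (Subgroup.relIndex_eq_one.1 h3)

theorem eq_of_prime_relIndex' {X M S : Subgroup G} {p : ℕ} (hp : p.Prime) (hXM : X ≤ M) (hMS : M ≤ S)
    (h : X.relIndex S = p) (hne : M ≠ S) : M = X := by
  by_contra hcon
  exact hne (eq_of_prime_relIndex hp hXM hMS h fun h1 => hcon (le_antisymm h1 hXM))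

theorem H2.idx_QS (h : H2 A B) : (Op 3 A).relIndex (SS A B) = 3 := by
  have h1 := card_mul_relIndex (le_sup_left : Op 3 A ≤ SS A B)
  rw [h.card_S, mul_comm 3] at h1
  exact Nat.eq_of_mul_eq_mul_left Nat.card_pos h1

theorem H2.sup_eq_S (h : H2 A B) {M : Subgroup G} (hM : M ≤ SS A B) (hne : ¬ M ≤ Op 3 A) : Op 3 A ⊔ M = SS A B :=
  eq_of_prime_relIndex Nat.prime_three le_sup_left (sup_le le_sup_left hM) h.idx_QS
    fun h1 => hne (le_sup_right.trans h1)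

theorem H2.S_le_Nm_Q (h : H2 A B) : SS A B ≤ Nm (Op 3 A) := h.S_le.trans h.C_le_Nm_Q

/-- relative index 3 for a subgroup of `S` not in `Q_A` -/
theorem H2.relIndex_three (h : H2 A B) {M : Subgroup G} (hM : M ≤ SS A B) (hne : ¬ M ≤ Op 3 A) :
    (Op 3 A).relIndex M = 3 := by
  rw [← relIndex_sup_of_left (hM.trans h.S_le_Nm_Q), sup_comm, h.sup_eq_S hM hne, h.idx_QS]

/-- The transvection lemma. -/
theorem tv_aux {X X1 Y' Y : Subgroup G} (hX : H2 X X1) (hY : H2 Y Y') (h1 : VV X ≤ Op 3 Y') (h2 : VV Y ≤ Op 3 X1)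
    (h3 : ¬ VV X ≤ Op 3 Y) : ¬ VV Y ≤ Op 3 X ∧ (ZZ X X1).relIndex (VV X) = 3 ∧
      ZZ X X1 = VV X ⊓ Subgroup.centralizer (VV Y : Set G) ∧ Op 3 X ⊔ VV Y = SS X X1 := by
  have hXS : VV X ≤ SS Y Y' := h1.trans le_sup_right
  have hYS : VV Y ≤ SS X X1 := h2.trans le_sup_right
  have h4 : ¬ VV Y ≤ Op 3 X := by
    intro h4
    apply h3
    intro x hx
    exact hY.mem_Q_of_cent (hXS hx) fun v hv => (hX.V_comm hx (h4 hv)).symm
  have h5 := hX.sup_eq_S hYS h4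
  have h6 : ZZ X X1 = VV X ⊓ Subgroup.centralizer (VV Y : Set G) := by
    apply le_antisymm
    · refine le_inf hX.Z_le_V ?_
      intro z hz
      rw [Subgroup.mem_centralizer_iff]
      intro v hv
      exact (hz.2.2 v (hYS hv)).symm
    · rintro x ⟨hx, hxc⟩
      replace hxc := Subgroup.mem_centralizer_iff.1 hxc
      refine ⟨(hX.V_le_Q.trans le_sup_left) hx, hX.EA_V.exp x hx, ?_⟩
      have h7 : SS X X1 ≤ Subgroup.centralizer {x} := by
        rw [← h5]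
        refine sup_le ?_ ?_
        · intro q hq
          rw [Subgroup.mem_centralizer_singleton_iff]
          exact (hX.V_comm hx hq).symm
        · intro v hv
          rw [Subgroup.mem_centralizer_singleton_iff]
          exact hxc v hv
      intro y hy
      exact (Subgroup.mem_centralizer_singleton_iff.1 (h7 hy)).symm
  refine ⟨h4, ?_, h6, h5⟩
  have h7 := hY.relIndex_three hXS h3
  have h8 : (Op 3 Y ⊓ VV X).relIndex (VV X) = 3 := by rw [Subgroup.inf_relIndex_right, h7]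
  have h9 : Op 3 Y ⊓ VV X ≤ ZZ X X1 := by
    rw [h6]
    refine le_inf inf_le_right ?_
    rintro x ⟨hx, -⟩
    rw [Subgroup.mem_centralizer_iff]
    intro v hv
    exact hY.V_comm hv hx
  have h10 : ZZ X X1 ≠ VV X := by
    intro h10
    apply h4
    intro v hv
    refine hX.mem_Q_of_cent (hYS hv) fun x hx => ?_
    rw [← h10] at hx
    exact hx.2.2 v (hYS hv)
  rw [eq_of_prime_relIndex' Nat.prime_three h9 hX.Z_le_V h8 h10, h8]

/-- The order of `Ω₁Z(P)` does not depend on the Sylow subgroup -/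
theorem card_OZ_eq {X P Q : Subgroup G} (hP : IsSyl X P) (hQ : IsSyl X Q) : Nat.card (OZ P) = Nat.card (OZ Q) := by
  have : Fact (Nat.Prime 3) := ⟨Nat.prime_three⟩
  obtain ⟨x, -, hx⟩ := exists_conj_of_sylow hP.1 hQ.1 hP.2.1 hQ.2.1 hP.2.2 hQ.2.2
  rw [← hx, ← cj_OZ, card_cj]

theorem Mn.card_V (h : Mn A B) : Nat.card (VV A) = 3 * Nat.card (ZZ A B) := by
  obtain ⟨n, X, X1, Y', Y, hC⟩ := h.exists_Crit
  have hX := h.of_adj hC.adj
  have hY := h.of_adj hC.adj'.symm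
  obtain ⟨-, h1, -, -⟩ := tv_aux hX.toH2 hY.toH2 (hC.min n le_rfl _ _ hC.walk2)
    (hC.min n le_rfl _ _ (hC.walk1.symm h.conj)) hC.crit
  have h2 := card_mul_relIndex hX.Z_le_V
  rw [h1] at h2
  obtain ⟨x, hx⟩ := hC.adj.isV h.conj
  have h3 : Nat.card (VV X) = Nat.card (VV A) := by rw [hx, ← cj_VV, card_cj]
  have h4 : IsSyl X (cj x (SS A B)) := by
    rw [hx]
    exact h.isSyl.cjBy x
  have h5 := card_OZ_eq hX.isSyl h4
  rw [← cj_OZ, card_cj] at h5
  rw [← h3, ← h2, h5, mul_comm]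

end

end Cfsg.Agent.H399
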