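import Cfsg.Agent.H399.LocalG
import Cfsg.Agent.H399.Defs

/-!
# Consequences of the configuration `3²:GL₂(3)` for elements and subgroups of `G`
-/

set_option autoImplicit false
set_option linter.unusedSectionVars false
set_option linter.unnecessarySeqFocus false

open Pointwise

namespace Cfsg.Agent.H399

variable {G : Type*} [Group G]

/-! ### groups of order 27 generated by two subgroups of order 9 -/

/-- `S = Q Q'` of order 27 with `Z = Q ∩ Q'` of order 3. -/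
structure Lines (S Q Q' Z : Subgroup G) : Prop where
  eq : EA Q
  eq' : EA Q'
  cq : Nat.card Q = 9
  cq' : Nat.card Q' = 9
  cz : Nat.card Z = 3
  cs : Nat.card S = 27
  inf : Q ⊓ Q' = Z
  le : Q ≤ S
  le' : Q' ≤ S
  nq : S ≤ Nm Q
  nq' : S ≤ Nm Q'

section

variable [Finite G] {S Q Q' Z : Subgroup G}

theorem finite_of_card {X : Subgroup G} {n : ℕ} (h : Nat.card X = n + 1) : Finite X :=
  Nat.finite_of_card_ne_zero (by rw [h]; omega)

theorem Lines.symm (h : Lines S Q Q' Z) : Lines S Q' Q Z where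
  eq := h.eq'
  eq' := h.eq
  cq := h.cq'
  cq' := h.cq
  cz := h.cz
  cs := h.cs
  inf := by rw [inf_comm, h.inf]
  le := h.le'
  le' := h.le
  nq := h.nq'
  nq' := h.nq

theorem Lines.zle (h : Lines S Q Q' Z) : Z ≤ Q := by
  rw [← h.inf]
  exact inf_le_left

theorem Lines.zle' (h : Lines S Q Q' Z) : Z ≤ Q' := by
  rw [← h.inf]
  exact inf_le_right

theorem Lines.idx (h : Lines S Q Q' Z) : Z.relIndex Q = 3 := by
  have h2 := card_mul_relIndex h.zle
  rw [h.cq, h.cz] at h2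
  omega

theorem Lines.idxS (h : Lines S Q Q' Z) : Q.relIndex S = 3 := by
  have h2 := card_mul_relIndex h.le
  rw [h.cq, h.cs] at h2
  omega

theorem Lines.not_le (h : Lines S Q Q' Z) : ¬ Q' ≤ Q := by
  intro h0
  have h1 := h.inf
  rw [inf_of_le_right h0] at h1
  have h2 := h.cq'
  rw [h1, h.cz] at h2
  omega

theorem Lines.sup (h : Lines S Q Q' Z) : Q ⊔ Q' = S :=
  eq_of_prime_relIndex Nat.prime_three le_sup_left (sup_le h.le h.le') h.idxS
    fun h0 => h.not_le (le_sup_right.trans h0)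

theorem Lines.cent (h : Lines S Q Q' Z) {z s : G} (hz : z ∈ Z) (hs : s ∈ S) : z * s = s * z := by
  have h1 : S ≤ Subgroup.centralizer {z} := by
    rw [← h.sup]
    refine sup_le ?_ ?_
    · intro y hy
      rw [Subgroup.mem_centralizer_singleton_iff]
      exact h.eq.comm y hy z (h.zle hz)
    · intro y hy
      rw [Subgroup.mem_centralizer_singleton_iff]
      exact h.eq'.comm y hy z (h.zle' hz)
  exact (Subgroup.mem_centralizer_singleton_iff.1 (h1 hs)).symm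

theorem Lines.comm_mem (h : Lines S Q Q' Z) {x y : G} (hx : x ∈ S) (hy : y ∈ S) : x * y * x⁻¹ * y⁻¹ ∈ Z := by
  have key : ∀ {Q Q' : Subgroup G}, Lines S Q Q' Z → x * y * x⁻¹ * y⁻¹ ∈ Q := by
    intro Q Q' h
    have hx0 := hx
    have hy0 := hy
    rw [← h.sup, mul_mem_sup_iff (h.le.trans h.nq')] at hx0 hy0
    obtain ⟨a, ha, b, hb2, rfl⟩ := hx0
    obtain ⟨c, hc, d, hd, rfl⟩ := hy0
    have e : a * b * (c * d) * (a * b)⁻¹ * (c * d)⁻¹ =
        a * (b * c * b⁻¹) * ((b * d * b⁻¹ * d⁻¹)) * (d * a⁻¹ * d⁻¹) * c⁻¹ := by group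
    have e2 : b * d * b⁻¹ * d⁻¹ = 1 := by
      rw [h.eq'.comm b hb2 d hd]
      group
    rw [e, e2, mul_one]
    have hbN : b ∈ Nm Q := h.nq (h.le' hb2)
    have hdN : d ∈ Nm Q := h.nq (h.le' hd)
    exact Subgroup.mul_mem _ (Subgroup.mul_mem _ (Subgroup.mul_mem _ ha (Nm_conj hbN hc))
      (Nm_conj hdN (Subgroup.inv_mem _ ha))) (Subgroup.inv_mem _ hc)
  rw [← h.inf]
  exact ⟨key h, key h.symm⟩

theorem Lines.cases (h : Lines S Q Q' Z) {q q' : G} (hq : q ∈ Q) (hqZ : q ∉ Z) (hq' : q' ∈ Q') (hqZ' : q' ∉ Z)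
    {X : Subgroup G} (hZX : Z ≤ X) (hXS : X ≤ S) (hX9 : Nat.card X = 9) :
    X = Q ∨ X = Q' ∨ X = Z ⊔ Subgroup.zpowers (q * q') ∨ X = Z ⊔ Subgroup.zpowers (q * q'⁻¹) := by
  have hfQ : Finite Q := finite_of_card h.cq
  have hfQ' : Finite Q' := finite_of_card h.cq'
  have hfX : Finite X := finite_of_card hX9
  by_cases hXA : X = Q
  · exact Or.inl hXA
  by_cases hXB : X = Q'
  · exact Or.inr (Or.inl hXB)
  right; right
  have hXA' : ¬ X ≤ Q := fun h0 => hXA (Subgroup.eq_of_le_of_card_ge h0 (by rw [hX9, h.cq]))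
  have hXB' : ¬ X ≤ Q' := fun h0 => hXB (Subgroup.eq_of_le_of_card_ge h0 (by rw [hX9, h.cq']))
  obtain ⟨x, hx, hxA, hxB⟩ := exists_not_mem_union hXA' hXB'
  have hxS := hXS hx
  rw [← h.sup, mul_mem_sup_iff (h.le.trans h.nq')] at hxS
  obtain ⟨a, ha, b, hb2, rfl⟩ := hxS
  have haZ : a ∉ Z := fun h0 => hxB (Subgroup.mul_mem _ (h.zle' h0) hb2)
  have hbZ : b ∉ Z := fun h0 => hxA (Subgroup.mul_mem _ ha (h.zle h0))
  have hidx : Z.relIndex X = 3 := by
    have h2 := card_mul_relIndex hZX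
    rw [hX9, h.cz] at h2
    omega
  have hqS := h.le hq
  have hqS' := h.le' hq'
  have haS : a ∈ S := h.le ha
  have hbS : b ∈ S := h.le' hb2
  have hPX : q * q' ∈ X → X = Z ⊔ Subgroup.zpowers (q * q') := by
    intro h0
    refine (eq_of_prime_relIndex Nat.prime_three le_sup_left (sup_le hZX ?_) hidx ?_).symm
    · rwa [Subgroup.zpowers_le]
    · intro h2
      have h3 : q * q' ∈ Z := h2 (Subgroup.mem_sup_right (Subgroup.mem_zpowers _))
      apply hqZ
      rw [← h.inf]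
      refine ⟨hq, ?_⟩
      have := Subgroup.mul_mem _ (h.zle' h3) (Subgroup.inv_mem _ hq')
      rwa [mul_inv_cancel_right] at this
  have hMX : q * q'⁻¹ ∈ X → X = Z ⊔ Subgroup.zpowers (q * q'⁻¹) := by
    intro h0
    refine (eq_of_prime_relIndex Nat.prime_three le_sup_left (sup_le hZX ?_) hidx ?_).symm
    · rwa [Subgroup.zpowers_le]
    · intro h2
      have h3 : q * q'⁻¹ ∈ Z := h2 (Subgroup.mem_sup_right (Subgroup.mem_zpowers _))
      apply hqZ
      rw [← h.inf]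
      refine ⟨hq, ?_⟩
      have := Subgroup.mul_mem _ (h.zle' h3) hq'
      rwa [inv_mul_cancel_right] at this
  have hca : a * q⁻¹ ∈ Z ∨ a * q ∈ Z := by
    rcases h.eq.tri h.zle h.idx hq hqZ ha with h2 | h2 | h2
    · exact absurd h2 haZ
    · exact Or.inl h2
    · exact Or.inr h2
  have hcb : b * q'⁻¹ ∈ Z ∨ b * q' ∈ Z := by
    rcases h.eq'.tri h.zle' h.symm.idx hq' hqZ' hb2 with h2 | h2 | h2
    · exact absurd h2 hbZ
    · exact Or.inl h2
    · exact Or.inr h2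
  have hZc : ∀ z ∈ Z, ∀ s ∈ S, z * s = s * z := fun z hz s hs => h.cent hz hs
  rcases hca with hca | hca <;> rcases hcb with hcb | hcb
  · left
    apply hPX
    have e : q * q' = (a * q⁻¹)⁻¹ * ((a * b) * (b * q'⁻¹)⁻¹) := by
      have e1 : (a * b) * (b * q'⁻¹)⁻¹ = a * q' := by
        have h3 := hZc _ (Subgroup.inv_mem _ hcb) b hbS
        rw [mul_assoc, ← h3]
        group
      rw [e1]
      group
    rw [e]
    exact X.mul_mem (X.inv_mem (hZX hca)) (X.mul_mem hx (X.inv_mem (hZX hcb)))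
  · right
    apply hMX
    have e : q * q'⁻¹ = (a * q⁻¹)⁻¹ * ((a * b) * (b * q')⁻¹) := by
      have e1 : (a * b) * (b * q')⁻¹ = a * q'⁻¹ := by
        have h3 := hZc _ (Subgroup.inv_mem _ hcb) b hbS
        rw [mul_assoc, ← h3]
        group
      rw [e1]
      group
    rw [e]
    exact X.mul_mem (X.inv_mem (hZX hca)) (X.mul_mem hx (X.inv_mem (hZX hcb)))
  · right
    apply hMX
    have e1 : q⁻¹ * q' = (a * q)⁻¹ * ((a * b) * (b * q'⁻¹)⁻¹) := by
      have e1 : (a * b) * (b * q'⁻¹)⁻¹ = a * q' := by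
        have h3 := hZc _ (Subgroup.inv_mem _ hcb) b hbS
        rw [mul_assoc, ← h3]
        group
      rw [e1]
      group
    have h2 : q⁻¹ * q' ∈ X := by
      rw [e1]
      exact X.mul_mem (X.inv_mem (hZX hca)) (X.mul_mem hx (X.inv_mem (hZX hcb)))
    have e2 : q * q'⁻¹ = (q * q'⁻¹ * q⁻¹ * q'⁻¹⁻¹) * (q⁻¹ * q')⁻¹ := by group
    rw [e2]
    exact X.mul_mem (hZX (h.comm_mem hqS (Subgroup.inv_mem _ hqS'))) (X.inv_mem h2)
  · left
    apply hPX
    have e1 : q⁻¹ * q'⁻¹ = (a * q)⁻¹ * ((a * b) * (b * q')⁻¹) := by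
      have e1 : (a * b) * (b * q')⁻¹ = a * q'⁻¹ := by
        have h3 := hZc _ (Subgroup.inv_mem _ hcb) b hbS
        rw [mul_assoc, ← h3]
        group
      rw [e1]
      group
    have h2 : q⁻¹ * q'⁻¹ ∈ X := by
      rw [e1]
      exact X.mul_mem (X.inv_mem (hZX hca)) (X.mul_mem hx (X.inv_mem (hZX hcb)))
    have e2 : q * q' = (q * q' * q⁻¹ * q'⁻¹) * (q⁻¹ * q'⁻¹)⁻¹ := by group
    rw [e2]
    exact X.mul_mem (hZX (h.comm_mem hqS hqS')) (X.inv_mem h2)

end

end Cfsg.Agent.H399
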