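import Cfsg.Agent.H399.Kill

/-!
# Consequences of the configuration `3²:GL₂(3)`, second part
-/

set_option autoImplicit false
set_option linter.unusedSectionVars false
set_option linter.unnecessarySeqFocus false

open Pointwise

namespace Cfsg.Agent.H399

variable {G : Type*} [Group G]

section

variable [Finite G] {A Q S : Subgroup G} {g : G}

namespace Conf432

theorem S3 (h : Conf432 A Q S g) : IsPGroup 3 S := IsPGroup.of_card (n := 3) (by rw [h.cardS]; norm_num)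

theorem conj_le (h : Conf432 A Q S g) {P : Subgroup G} (hP : IsPGroup 3 P) : ∃ x, cj x P ≤ S := by
  have : Fact (Nat.Prime 3) := ⟨Nat.prime_three⟩
  obtain ⟨T, hT⟩ := hP.exists_le_sylow
  have hS : ¬ 3 ∣ S.index := by
    intro h0
    apply h.sylow
    obtain ⟨k, hk⟩ := h0
    rw [← S.card_mul_index, h.cardS, hk]
    exact ⟨k, by ring⟩
  obtain ⟨x, hx⟩ := MulAction.exists_smul_eq G T (h.S3.toSylow hS)
  have h0 : (MulAut.conj x • (T : Subgroup G) : Subgroup G) = S :=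
    congrArg (fun P : Sylow 3 G => (P : Subgroup G)) hx
  refine ⟨x, ?_⟩
  rw [← h0]
  exact cj_le_cj.2 hT

theorem conj_eq (h : Conf432 A Q S g) {P : Subgroup G} (hP : Nat.card P = 27) : ∃ x, cj x P = S := by
  obtain ⟨x, hx⟩ := h.conj_le (P := P) (IsPGroup.of_card (n := 3) (by rw [hP]; norm_num))
  exact ⟨x, Subgroup.eq_of_le_of_card_ge hx (by rw [card_cj, hP, h.cardS])⟩

theorem mem_of_cent (h : Conf432 A Q S g) {t : G} (hc : ∀ s ∈ Q, s * t = t * s) : t ∈ Q := by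
  rw [← h.cent, Subgroup.mem_centralizer_iff]
  exact hc

theorem eq_one_of (h : Conf432 A Q S g) {t : G} (hc : ∀ s ∈ Q, s * t = t * s) (h3 : ¬ 3 ∣ orderOf t) : t = 1 := by
  have h1 := h.exp t (h.QS (h.mem_of_cent hc))
  have h2 := orderOf_dvd_of_pow_eq_one h1
  rcases (Nat.dvd_prime Nat.prime_three).1 h2 with h4 | h4
  · exact orderOf_eq_one_iff.1 h4
  · exact absurd (by rw [h4]) h3

theorem orderOf_conj' (x t : G) : orderOf (x * t * x⁻¹) = orderOf t := by
  rw [← MulAut.conj_apply]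
  exact orderOf_injective (MulAut.conj x).toMonoidHom (MulAut.conj x).injective t

/-- (K1) -/
theorem K1 (h : Conf432 A Q S g) {t : G} (ht : t ≠ 1) (h3 : ¬ 3 ∣ orderOf t) :
    ¬ 27 ∣ Nat.card (Subgroup.centralizer {t}) := by
  intro h27
  have : Fact (Nat.Prime 3) := ⟨Nat.prime_three⟩
  obtain ⟨P, hP⟩ := Sylow.exists_subgroup_card_pow_prime (G := Subgroup.centralizer {t}) 3 (n := 3)
    (by norm_num; exact h27)
  obtain ⟨x, hx⟩ := h.conj_eq (P := P.map (Subgroup.centralizer {t}).subtype)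
    (by rw [Subgroup.card_map_of_injective (Subgroup.subtype_injective _), hP]; norm_num)
  have h1 : x * t * x⁻¹ = 1 := by
    refine h.eq_one_of ?_ (by rw [orderOf_conj']; exact h3)
    intro s hs
    have hs' := h.QS hs
    rw [← hx, mem_cj] at hs'
    obtain ⟨y, hy, hy'⟩ := hs'
    have h4 := Subgroup.mem_centralizer_singleton_iff.1 y.2
    have h5 : (y : G) = x⁻¹ * s * x := hy'
    have e : s = x * y * x⁻¹ := by
      rw [h5]
      group
    have e1 : s * (x * t * x⁻¹) = x * (y * t) * x⁻¹ := by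
      rw [e]
      group
    have e2 : x * t * x⁻¹ * s = x * (t * y) * x⁻¹ := by
      rw [e]
      group
    rw [e1, e2, h4]
  apply ht
  have e : t = x⁻¹ * (x * t * x⁻¹) * x := by group
  rw [e, h1]
  group

theorem cj_QS (h : Conf432 A Q S g) {n : G} (hn : n ∈ Nm S) : cj n Q ≤ S := by
  rw [← cj_of_mem_Nm hn, cj_le_cj]
  exact h.QS

theorem cent_cj (h : Conf432 A Q S g) (x : G) : Subgroup.centralizer (cj x Q : Set G) = cj x Q := by
  rw [← cj_centralizer, h.cent]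

theorem norm_cj (h : Conf432 A Q S g) (x : G) : Nm (cj x Q) = cj x A := by
  rw [← cj_Nm]
  congr 1
  exact h.norm

theorem gen (h : Conf432 A Q S g) : A ⊔ cj g A = ⊤ := by
  refine h.max.2 _ (lt_of_le_not_ge le_sup_left fun h0 => ?_)
  have h1 : cj g A ≤ A := le_sup_right.trans h0
  have h2 : cj g A = A := Subgroup.eq_of_le_of_card_ge h1 (by rw [card_cj])
  have h3 := h.idx
  have h4 : (cj g A).relIndex A = 4 := h3
  rw [h2, Subgroup.relIndex_self] at h4
  omega

/-- an automorphism of order prime to 3 fixing `S` fixes the normaliser of a self-centralising subgroup. -/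
theorem fix_aux {R : Subgroup G} {ψ : MulAut G} (hR : Subgroup.centralizer (R : Set G) = R) (h3R : ∀ r ∈ R, r ^ 3 = 1)
    (hfix : ∀ x ∈ R, ψ x = x) (h3 : ¬ 3 ∣ orderOf ψ) : ∀ a ∈ Nm R, ψ a = a := by
  intro a ha
  have hc : a⁻¹ * ψ a ∈ R := by
    rw [← hR, Subgroup.mem_centralizer_iff]
    intro r hr
    have h1 : a * r * a⁻¹ ∈ R := Nm_conj ha hr
    have h2 := hfix _ h1
    rw [map_mul, map_mul, map_inv, hfix r hr] at h2
    have e : r = a⁻¹ * (a * r * a⁻¹) * a := by group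
    calc r * (a⁻¹ * ψ a) = a⁻¹ * (a * r * a⁻¹) * a * (a⁻¹ * ψ a) := by rw [← e]
      _ = a⁻¹ * (ψ a * r * (ψ a)⁻¹) * ψ a := by rw [h2]; group
      _ = a⁻¹ * ψ a * r := by group
  have h1 : ∀ n : ℕ, (ψ ^ n) a = a * (a⁻¹ * ψ a) ^ n := by
    intro n
    induction n with
    | zero => simp
    | succ n ih =>
      rw [pow_succ', MulAut.mul_apply, ih, map_mul, map_pow, hfix _ hc, pow_succ', ← mul_assoc a, mul_inv_cancel_left]
  have h2 := h1 (orderOf ψ)
  rw [pow_orderOf_eq_one, MulAut.one_apply, left_eq_mul] at h2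
  have h4 : a⁻¹ * ψ a ∈ (⊥ : Subgroup G) := by
    refine mem_of_pow_mem (m := 3) (n := orderOf ψ) ((Nat.Prime.coprime_iff_not_dvd Nat.prime_three).2 h3)
      (h3R _ hc) ?_
    rw [h2]
    exact Subgroup.one_mem _
  rw [Subgroup.mem_bot, inv_mul_eq_one] at h4
  exact h4.symm

/-- (K-aut) -/
theorem Kaut (h : Conf432 A Q S g) {φ : MulAut G} {P : Subgroup G} (hP : Nat.card P = 27)
    (hfix : ∀ x ∈ P, φ x = x) (hφ : φ ≠ 1) (h3 : ¬ 3 ∣ orderOf φ) : False := by
  obtain ⟨x, hx⟩ := h.conj_eq hP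
  set ψ : MulAut G := MulAut.conj x * φ * (MulAut.conj x)⁻¹ with hψ
  have hψo : ¬ 3 ∣ orderOf ψ := by rwa [hψ, orderOf_conj' (G := MulAut G)]
  have hψfix : ∀ s ∈ S, ψ s = s := by
    intro s hs
    rw [← hx, mem_cj] at hs
    have h1 : ψ s = x * φ (x⁻¹ * s * x) * x⁻¹ := by
      rw [hψ, MulAut.mul_apply, MulAut.mul_apply, ← map_inv, MulAut.conj_apply, MulAut.conj_apply, inv_inv]
    rw [h1, hfix _ hs]
    group
  have hA : ∀ a ∈ A, ψ a = a := by
    have := fix_aux h.cent (fun r hr => h.exp r (h.QS hr)) (fun r hr => hψfix r (h.QS hr)) hψo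
    intro a ha
    apply this
    rw [← h.norm] at ha
    exact ha
  have hB : ∀ a ∈ cj g A, ψ a = a := by
    have hQ' := h.cj_QS h.gS
    have := fix_aux (h.cent_cj g) (fun r hr => h.exp r (hQ' hr)) (fun r hr => hψfix r (hQ' hr)) hψo
    intro a ha
    apply this
    rw [h.norm_cj]
    exact ha
  have hle : (⊤ : Subgroup G) ≤ MonoidHom.eqLocus ψ.toMonoidHom (MonoidHom.id G) := by
    rw [← h.gen]
    exact sup_le (fun a ha => hA a ha) (fun a ha => hB a ha)
  have hψ1 : ψ = 1 := by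
    ext y
    exact hle (Subgroup.mem_top y)
  apply hφ
  have e : φ = (MulAut.conj x)⁻¹ * ψ * MulAut.conj x := by
    rw [hψ]
    group
  rw [e, hψ1]
  group

/-! ### the lines of `S` -/

theorem lines (h : Conf432 A Q S g) : Lines S Q (cj g Q) (Q ⊓ cj g Q) := by
  have hQ3 : EA Q := ⟨h.comm, fun x hx => h.exp x (h.QS hx)⟩
  have hQ' := h.cj_QS h.gS
  have hSN : S ≤ Nm Q := by
    have := h.norm
    rw [Nm, this]
    exact h.SA
  have hSN' : S ≤ Nm (cj g Q) := by
    rw [← cj_Nm, ← cj_of_mem_Nm h.gS, cj_le_cj]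
    exact hSN
  have h1 := card_sup (H := cj g Q) (N := Q) (hQ'.trans hSN)
  rw [card_cj, h.cardQ] at h1
  have h2 : Nat.card (cj g Q ⊔ Q : Subgroup G) ∣ 27 := by
    rw [← h.cardS]
    exact Subgroup.card_dvd_of_le (sup_le hQ' h.QS)
  have h3 : Nat.card (cj g Q ⊓ Q : Subgroup G) ∣ 9 := by
    rw [← h.cardQ]
    exact Subgroup.card_dvd_of_le inf_le_right
  have h4 : Nat.card (cj g Q ⊓ Q : Subgroup G) ≠ 9 := by
    intro h4
    have h5 : cj g Q ⊓ Q = Q := Subgroup.eq_of_le_of_card_ge inf_le_right (by rw [h4, h.cardQ])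
    have h6 : Q ≤ cj g Q := h5.symm.le.trans inf_le_left
    exact h.gQ (Subgroup.eq_of_le_of_card_ge h6 (by rw [card_cj])).symm
  have h5 : Nat.card (cj g Q ⊓ Q : Subgroup G) = 3 := by
    have h6 := Nat.le_of_dvd (by norm_num) h2
    have h7 : Nat.card (cj g Q ⊔ Q : Subgroup G) * Nat.card (cj g Q ⊓ Q : Subgroup G) ≤
      27 * Nat.card (cj g Q ⊓ Q : Subgroup G) := Nat.mul_le_mul_right _ h6
    have h8 := Nat.le_of_dvd (by norm_num) h3
    interval_cases h9 : Nat.card (cj g Q ⊓ Q : Subgroup G) <;> omega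
  refine ⟨hQ3, hQ3.cjBy g, h.cardQ, by rw [card_cj, h.cardQ], by rw [inf_comm, h5], h.cardS, rfl, h.QS, hQ', hSN, hSN'⟩

/-- `Z = Z(S)` -/
theorem mem_Z_iff (h : Conf432 A Q S g) {x : G} : x ∈ Q ⊓ cj g Q ↔ x ∈ S ∧ ∀ s ∈ S, s * x = x * s := by
  constructor
  · intro hx
    exact ⟨h.QS hx.1, fun s hs => (h.lines.cent hx hs).symm⟩
  · rintro ⟨-, hx⟩
    refine ⟨h.mem_of_cent fun s hs => hx s (h.QS hs), ?_⟩
    show x ∈ cj g Q
    rw [← h.cent_cj g, Subgroup.mem_centralizer_iff]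
    exact fun s hs => hx s (h.lines.le' hs)

theorem Nm_S_le (h : Conf432 A Q S g) : Nm S ≤ Nm (Q ⊓ cj g Q) := by
  rw [le_Nm]
  intro n hn z hz
  rw [h.mem_Z_iff] at hz ⊢
  refine ⟨Nm_conj hn hz.1, fun s hs => ?_⟩
  have h1 := hz.2 _ (Nm_conj' hn hs)
  have e1 : s * (n * z * n⁻¹) = n * (n⁻¹ * s * n * z) * n⁻¹ := by group
  rw [e1, h1]
  group

theorem not_A_le (h : Conf432 A Q S g) : ¬ A ≤ Nm S := by
  intro h0
  have h1 := h0.trans h.Nm_S_le
  -- `A` is transitive on `Q#`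
  have hZ := h.lines
  obtain ⟨z, hz, hz1⟩ : ∃ z ∈ Q ⊓ cj g Q, z ≠ 1 := by
    by_contra hcon
    push Not at hcon
    have h2 : Q ⊓ cj g Q = ⊥ := by
      rw [eq_bot_iff]
      intro x hx
      rw [Subgroup.mem_bot]
      exact hcon x hx
    have h3 := hZ.cz
    rw [h2, Subgroup.card_bot] at h3
    omega
  have h2 : Q ≤ Q ⊓ cj g Q := by
    intro q hq
    by_cases hq1 : q = 1
    · rw [hq1]
      exact Subgroup.one_mem _
    obtain ⟨a, ha, rfl⟩ := h.trans z hz.1 q hq hz1 hq1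
    exact Nm_conj (h1 ha) hz
  have h3 := Subgroup.card_le_of_le h2
  rw [h.cardQ, hZ.cz] at h3
  omega

/-- `N_A(S) = A ∩ A^g` has order 108 -/
theorem card_NA (h : Conf432 A Q S g) : Nat.card (A ⊓ Nm S : Subgroup G) = 108 := by
  have : Fact (Nat.Prime 3) := ⟨Nat.prime_three⟩
  have hL := h.lines
  have hD : A ⊓ cj g A ≤ A ⊓ Nm S := by
    refine le_inf inf_le_left ?_
    rw [← hL.sup]
    have h1 : A ≤ Nm Q := by
      have := h.norm
      rw [Nm, this]
    refine sup_le_Nm (inf_le_left.trans h1) (inf_le_right.trans ?_)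
    rw [h.norm_cj]
  have hidx : (A ⊓ cj g A).relIndex A = 4 := by
    have h1 := h.idx
    rw [inf_comm, Subgroup.inf_relIndex_right]
    exact h1
  have h1 := Subgroup.relIndex_mul_relIndex _ _ _ hD inf_le_left
  rw [hidx] at h1
  have h2 : (A ⊓ Nm S).relIndex A ∣ 4 := Dvd.intro_left _ h1
  have h3 := Nat.le_of_dvd (by norm_num) h2
  have h4 : (A ⊓ Nm S).relIndex A ≠ 1 := by
    intro h0
    exact h.not_A_le ((Subgroup.relIndex_eq_one.1 h0).trans inf_le_right)
  have h5 : (A ⊓ Nm S).relIndex A ≠ 2 := by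
    intro h0
    have hAN : A ≤ Nm (A ⊓ Nm S) := by
      have h6 : ((A ⊓ Nm S).subgroupOf A).Normal := Subgroup.normal_of_index_eq_two h0
      exact (Subgroup.normal_subgroupOf_iff_le_normalizer inf_le_left).1 h6
    apply h.not_A_le
    rw [le_Nm']
    intro a ha
    have h6 : cj a S ≤ A ⊓ Nm S := by
      rw [← cj_of_mem_Nm (hAN ha), cj_le_cj]
      exact le_inf h.SA (self_le_Nm S)
    have h7 : S ≤ A ⊓ Nm S := le_inf h.SA (self_le_Nm S)
    have hi : ¬ 3 ∣ S.relIndex (A ⊓ Nm S) := by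
      intro h8
      have h9 := Subgroup.relIndex_mul_relIndex _ _ _ h7 inf_le_left
      have h10 := card_mul_relIndex h.SA
      rw [h.cardS, h.cardA, ← h9] at h10
      obtain ⟨k, hk⟩ := h8
      rw [hk, h0] at h10
      omega
    have hi' : ¬ 3 ∣ (cj a S).relIndex (A ⊓ Nm S) := by
      have h8 := card_mul_relIndex h6
      rw [card_cj, ← card_mul_relIndex h7] at h8
      rwa [Nat.eq_of_mul_eq_mul_left Nat.card_pos h8]
    obtain ⟨c, hc, hc'⟩ := exists_conj_of_sylow h7 h6 h.S3 (isPGroup_cj a h.S3) hi hi'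
    rw [cj_eq_iff] at hc'
    rw [hc', cj_of_mem_Nm (Subgroup.inv_mem _ hc.2)]
  have h6 := card_mul_relIndex (inf_le_left : A ⊓ Nm S ≤ A)
  rw [h.cardA] at h6
  interval_cases h7 : (A ⊓ Nm S).relIndex A <;> omega

/-- the orbit of `Q` under `N(S)` -/
def orb (S Q : Subgroup G) : Set (Subgroup G) := {Y | ∃ x ∈ Nm S, cj x Q = Y}

theorem orb_card (h : Conf432 A Q S g) : 108 * (orb S Q).ncard = Nat.card (Nm S) := by
  have h1 := card_mul_relIndex (inf_le_left : Nm S ⊓ Nm Q ≤ Nm S)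
  have h2 : Nm S ⊓ Nm Q = A ⊓ Nm S := by
    have := h.norm
    rw [Nm, Nm, this, inf_comm]
  rw [relIndex_Nm, h2, h.card_NA] at h1
  exact h1

theorem exists_qq (h : Conf432 A Q S g) : ∃ q q' : G, q ∈ Q ∧ q ∉ Q ⊓ cj g Q ∧ q' ∈ cj g Q ∧ q' ∉ Q ⊓ cj g Q := by
  have hL := h.lines
  obtain ⟨q, hq, hq'⟩ := SetLike.not_le_iff_exists.1 hL.symm.not_le
  obtain ⟨r, hr, hr'⟩ := SetLike.not_le_iff_exists.1 hL.not_le
  exact ⟨q, r, hq, fun h0 => hq' h0.2, hr, fun h0 => hr' h0.1⟩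

theorem Z_le_cj (h : Conf432 A Q S g) {n : G} (hn : n ∈ Nm S) : Q ⊓ cj g Q ≤ cj n Q := by
  rw [← cj_of_mem_Nm (h.Nm_S_le hn), cj_le_cj]
  exact inf_le_left

/-- If `|N(S)| = 432` all lines are conjugate to `Q`. -/
theorem line_mem (h : Conf432 A Q S g) (hN : Nat.card (Nm S) = 432) {X : Subgroup G} (hZX : Q ⊓ cj g Q ≤ X)
    (hXS : X ≤ S) (hX9 : Nat.card X = 9) : ∃ n ∈ Nm S, cj n Q = X := by
  obtain ⟨q, q', hq, hqZ, hq', hqZ'⟩ := h.exists_qq
  have hL := h.lines
  set P := (Q ⊓ cj g Q) ⊔ Subgroup.zpowers (q * q') with hP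
  set M := (Q ⊓ cj g Q) ⊔ Subgroup.zpowers (q * q'⁻¹) with hM
  have hcases : ∀ X : Subgroup G, Q ⊓ cj g Q ≤ X → X ≤ S → Nat.card X = 9 → X ∈ ({Q, cj g Q, P, M} : Set (Subgroup G)) :=
    fun X h1 h2 h3 => hL.cases hq hqZ hq' hqZ' h1 h2 h3
  have hsub : orb S Q ⊆ {Q, cj g Q, P, M} := by
    rintro Y ⟨x, hx, rfl⟩
    exact hcases _ (h.Z_le_cj hx) (h.cj_QS hx) (by rw [card_cj, h.cardQ])
  have hcard : (orb S Q).ncard = 4 := by
    have := h.orb_card
    omega
  have h4 : ({Q, cj g Q, P, M} : Set (Subgroup G)).ncard ≤ 4 := by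
    refine (Set.ncard_insert_le _ _).trans ?_
    have h5 := Set.ncard_insert_le (cj g Q) ({P, M} : Set (Subgroup G))
    have h6 := Set.ncard_insert_le P ({M} : Set (Subgroup G))
    rw [Set.ncard_singleton] at h6
    omega
  have heq := Set.eq_of_subset_of_ncard_le hsub (by rw [hcard]; exact h4) (Set.toFinite _)
  have := hcases X hZX hXS hX9
  rw [← heq] at this
  exact this

theorem exists_z (h : Conf432 A Q S g) : ∃ z ∈ Q ⊓ cj g Q, z ≠ 1 := by
  by_contra hcon
  push Not at hcon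
  have h2 : Q ⊓ cj g Q = ⊥ := by
    rw [eq_bot_iff]
    intro x hx
    rw [Subgroup.mem_bot]
    exact hcon x hx
  have h3 := h.lines.cz
  rw [h2, Subgroup.card_bot] at h3
  omega

/-- every element of a line is conjugate into `Z` if the line is conjugate to `Q` -/
theorem isConj_of_cj (h : Conf432 A Q S g) {z : G} (hz : z ∈ Q ⊓ cj g Q) (hz1 : z ≠ 1) {n x : G} (hx : x ∈ cj n Q)
    (hx1 : x ≠ 1) : IsConj z x := by
  rw [mem_cj] at hx
  have h1 : n⁻¹ * x * n ≠ 1 := by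
    intro h0
    apply hx1
    have e : x = n * (n⁻¹ * x * n) * n⁻¹ := by group
    rw [e, h0]
    group
  obtain ⟨a, -, ha⟩ := h.trans z hz.1 _ hx hz1 h1
  rw [isConj_iff]
  refine ⟨n * a, ?_⟩
  have e : n * a * z * (n * a)⁻¹ = n * (a * z * a⁻¹) * n⁻¹ := by group
  rw [e, ha]
  group

/-- the line through `x` -/
theorem line_card (h : Conf432 A Q S g) {x : G} (hx : x ∈ S) (hxZ : x ∉ Q ⊓ cj g Q) :
    Nat.card ((Q ⊓ cj g Q) ⊔ Subgroup.zpowers x : Subgroup G) = 9 ∧ (Q ⊓ cj g Q) ⊔ Subgroup.zpowers x ≤ S := by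
  have hL := h.lines
  have hzx : Subgroup.zpowers x ≤ S := by rwa [Subgroup.zpowers_le]
  have hx1 : x ≠ 1 := by
    rintro rfl
    exact hxZ (Subgroup.one_mem _)
  have ho : orderOf x = 3 := by
    rcases (Nat.dvd_prime Nat.prime_three).1 (orderOf_dvd_of_pow_eq_one (h.exp x hx)) with h1 | h1
    · exact absurd (orderOf_eq_one_iff.1 h1) hx1
    · exact h1
  have hcz : Nat.card (Subgroup.zpowers x) = 3 := by rw [Nat.card_zpowers, ho]
  refine ⟨?_, sup_le (inf_le_left.trans h.QS) hzx⟩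
  have hN : Subgroup.zpowers x ≤ Nm (Q ⊓ cj g Q) := hzx.trans ((self_le_Nm S).trans h.Nm_S_le)
  have h1 := card_sup hN
  have h2 : Subgroup.zpowers x ⊓ (Q ⊓ cj g Q) = ⊥ := by
    by_contra h0
    have h3 : Nat.card (Subgroup.zpowers x ⊓ (Q ⊓ cj g Q) : Subgroup G) ∣ 3 := by
      rw [← hcz]
      exact Subgroup.card_dvd_of_le inf_le_left
    rcases (Nat.dvd_prime Nat.prime_three).1 h3 with h4 | h4
    · exact h0 (Subgroup.card_eq_one.1 h4)
    · have h5 : Subgroup.zpowers x ⊓ (Q ⊓ cj g Q) = Subgroup.zpowers x :=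
        Subgroup.eq_of_le_of_card_ge inf_le_left (by rw [h4, hcz])
      apply hxZ
      have h6 : Subgroup.zpowers x ≤ Q ⊓ cj g Q := by
        rw [← h5]
        exact inf_le_right
      exact h6 (Subgroup.mem_zpowers x)
  rw [h2, Subgroup.card_bot, mul_one, hcz, hL.cz] at h1
  rw [sup_comm, h1]

/-- (K4a) -/
theorem isConj_of_order (h : Conf432 A Q S g) (hN : Nat.card (Nm S) = 432) {z : G} (hz : z ∈ Q ⊓ cj g Q) (hz1 : z ≠ 1)
    {x : G} (hx : orderOf x = 3) : IsConj z x := by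
  have hp : IsPGroup 3 (Subgroup.zpowers x) := IsPGroup.of_card (n := 1) (by rw [Nat.card_zpowers, hx]; norm_num)
  obtain ⟨y, hy⟩ := h.conj_le hp
  have hyS : y * x * y⁻¹ ∈ S := hy (conj_mem_cj.2 (Subgroup.mem_zpowers x))
  have hy1 : y * x * y⁻¹ ≠ 1 := by
    intro h0
    rw [← orderOf_conj' y x, h0, orderOf_one] at hx
    omega
  have h1 : IsConj z (y * x * y⁻¹) := by
    by_cases hyZ : y * x * y⁻¹ ∈ Q ⊓ cj g Q
    · refine h.isConj_of_cj hz hz1 (n := 1) ?_ hy1
      rw [cj_one]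
      exact hyZ.1
    · obtain ⟨h2, h3⟩ := h.line_card hyS hyZ
      obtain ⟨n, -, hn⟩ := h.line_mem hN le_sup_left h3 h2
      refine h.isConj_of_cj hz hz1 (n := n) ?_ hy1
      rw [hn]
      exact Subgroup.mem_sup_right (Subgroup.mem_zpowers _)
  refine h1.trans ?_
  rw [isConj_iff]
  exact ⟨y⁻¹, by group⟩

theorem card_cent_of_isConj {x y : G} (h : IsConj x y) :
    Nat.card (Subgroup.centralizer {x}) = Nat.card (Subgroup.centralizer {y}) := by
  obtain ⟨c, rfl⟩ := isConj_iff.1 h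
  have e : Subgroup.centralizer {c * x * c⁻¹} = cj c (Subgroup.centralizer {x}) := by
    ext y
    rw [mem_cj, Subgroup.mem_centralizer_singleton_iff, Subgroup.mem_centralizer_singleton_iff]
    constructor
    · intro h0
      have e1 : c⁻¹ * y * c * x = c⁻¹ * (y * (c * x * c⁻¹)) * c := by group
      rw [e1, h0]
      group
    · intro h0
      have e1 : y * (c * x * c⁻¹) = c * (c⁻¹ * y * c * x) * c⁻¹ := by group
      rw [e1, h0]
      group
  rw [e, card_cj]

theorem S_le_cent (h : Conf432 A Q S g) {z : G} (hz : z ∈ Q ⊓ cj g Q) : S ≤ Subgroup.centralizer {z} := by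
  intro s hs
  rw [Subgroup.mem_centralizer_singleton_iff]
  exact (h.lines.cent hz hs).symm

theorem K4a (h : Conf432 A Q S g) (hN : Nat.card (Nm S) = 432) {x : G} (hx : orderOf x = 3) :
    27 ∣ Nat.card (Subgroup.centralizer {x}) := by
  obtain ⟨z, hz, hz1⟩ := h.exists_z
  rw [← card_cent_of_isConj (h.isConj_of_order hN hz hz1 hx), ← h.cardS]
  exact Subgroup.card_dvd_of_le (h.S_le_cent hz)

theorem S_not_comm (h : Conf432 A Q S g) : ¬ ∀ x ∈ S, ∀ y ∈ S, x * y = y * x := by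
  intro h0
  have h1 : S ≤ Q := by
    intro s hs
    exact h.mem_of_cent fun q hq => h0 q (h.QS hq) s hs
  have := Subgroup.card_le_of_le h1
  rw [h.cardS, h.cardQ] at this
  omega

/-- subgroups of order 9 of `S` contain `Z` -/
theorem Z_le_of_nine (h : Conf432 A Q S g) {E : Subgroup G} (hE : Nat.card E = 9) (hES : E ≤ S) : Q ⊓ cj g Q ≤ E := by
  have : Fact (Nat.Prime 3) := ⟨Nat.prime_three⟩
  have hEc : ∀ x ∈ E, ∀ y ∈ E, x * y = y * x := by
    have h1 := IsPGroup.isMulCommutative_of_card_eq_prime_sq (p := 3) (G := E) (by rw [hE]; norm_num)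
    intro x hx y hy
    exact congrArg Subtype.val (h1.is_comm.comm ⟨x, hx⟩ ⟨y, hy⟩)
  by_contra hcon
  have hZ := h.lines
  have h1 : E ⊓ (Q ⊓ cj g Q) = ⊥ := by
    by_contra h0
    have h3 : Nat.card (E ⊓ (Q ⊓ cj g Q) : Subgroup G) ∣ 3 := by
      rw [← hZ.cz]
      exact Subgroup.card_dvd_of_le inf_le_right
    rcases (Nat.dvd_prime Nat.prime_three).1 h3 with h4 | h4
    · exact h0 (Subgroup.card_eq_one.1 h4)
    · have h5 : E ⊓ (Q ⊓ cj g Q) = Q ⊓ cj g Q :=
        Subgroup.eq_of_le_of_card_ge inf_le_right (by rw [h4, hZ.cz])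
      apply hcon
      rw [← h5]
      exact inf_le_left
  have h2 := card_sup (hES.trans ((self_le_Nm S).trans h.Nm_S_le))
  rw [h1, Subgroup.card_bot, mul_one, hE, hZ.cz] at h2
  have h3 : E ⊔ (Q ⊓ cj g Q) = S :=
    Subgroup.eq_of_le_of_card_ge (sup_le hES (inf_le_left.trans h.QS)) (by rw [h2, h.cardS])
  apply h.S_not_comm
  have key : ∀ y ∈ E, S ≤ Subgroup.centralizer {y} := by
    intro y hy
    rw [← h3]
    refine sup_le ?_ ?_
    · intro x hx
      rw [Subgroup.mem_centralizer_singleton_iff]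
      exact hEc x hx y hy
    · intro x hx
      rw [Subgroup.mem_centralizer_singleton_iff]
      exact hZ.cent hx (hES hy)
  intro x hx y hy
  have hx' : S ≤ Subgroup.centralizer {x} := by
    rw [← h3]
    refine sup_le ?_ ?_
    · intro w hw
      rw [Subgroup.mem_centralizer_singleton_iff]
      exact (Subgroup.mem_centralizer_singleton_iff.1 (key w hw hx)).symm
    · intro w hw
      rw [Subgroup.mem_centralizer_singleton_iff]
      exact hZ.cent hw hx
  exact (Subgroup.mem_centralizer_singleton_iff.1 (hx' hy)).symm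

/-- (K4b) -/
theorem cent_nine (h : Conf432 A Q S g) (hN : Nat.card (Nm S) = 432) {E : Subgroup G} (hE : Nat.card E = 9) :
    Subgroup.centralizer (E : Set G) = E := by
  have hp : IsPGroup 3 E := IsPGroup.of_card (n := 2) (by rw [hE]; norm_num)
  obtain ⟨y, hy⟩ := h.conj_le hp
  have h9 : Nat.card (cj y E) = 9 := by rw [card_cj, hE]
  obtain ⟨n, -, hn⟩ := h.line_mem hN (h.Z_le_of_nine h9 hy) hy h9
  have h1 : E = cj (y⁻¹ * n) Q := by rw [cj_mul, hn, cj_inv_cj]
  rw [h1]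
  exact h.cent_cj _

theorem K4b (h : Conf432 A Q S g) (hN : Nat.card (Nm S) = 432) {x : G} (hx : x ≠ 1) (h3 : ¬ 3 ∣ orderOf x) :
    ¬ 9 ∣ Nat.card (Subgroup.centralizer {x}) := by
  intro h9
  have : Fact (Nat.Prime 3) := ⟨Nat.prime_three⟩
  obtain ⟨E, hE⟩ := Sylow.exists_subgroup_card_pow_prime (G := Subgroup.centralizer {x}) 3 (n := 2)
    (by norm_num; exact h9)
  set E' := E.map (Subgroup.centralizer {x}).subtype with hE'
  have hc : Nat.card E' = 9 := by
    rw [hE', Subgroup.card_map_of_injective (Subgroup.subtype_injective _), hE]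
    norm_num
  have h1 := h.cent_nine hN hc
  have h2 : x ∈ E' := by
    rw [← h1, Subgroup.mem_centralizer_iff]
    rintro _ ⟨y, -, rfl⟩
    exact Subgroup.mem_centralizer_singleton_iff.1 y.2
  have h4 : x ^ 9 = 1 := by
    have : (⟨x, h2⟩ : E') ^ 9 = 1 := by
      rw [← hc]
      exact pow_card_eq_one'
    exact congrArg Subtype.val this
  have h5 := orderOf_dvd_of_pow_eq_one h4
  have h6 : orderOf x ∣ 3 ^ 2 := h5
  obtain ⟨k, hk, hk'⟩ := (Nat.dvd_prime_pow Nat.prime_three).1 h6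
  rcases Nat.eq_zero_or_pos k with rfl | hk0
  · rw [pow_zero, orderOf_eq_one_iff] at hk'
    exact hx hk'
  · apply h3
    rw [hk']
    exact dvd_pow_self _ hk0.ne'

/-! ### counting -/

theorem sylow_count (h : Conf432 A Q S g) : (Nm S).index % 3 = 1 := by
  have : Fact (Nat.Prime 3) := ⟨Nat.prime_three⟩
  have hS : ¬ 3 ∣ S.index := by
    intro h0
    apply h.sylow
    obtain ⟨k, hk⟩ := h0
    rw [← S.card_mul_index, h.cardS, hk]
    exact ⟨k, by ring⟩
  have h1 := card_sylow_modEq_one 3 G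
  rw [Sylow.card_eq_index_normalizer (h.S3.toSylow hS)] at h1
  exact h1

theorem mod_of_432 (h : Conf432 A Q S g) (hN : Nat.card (Nm S) = 432) : Nat.card G / 27 % 3 = 1 := by
  have h1 := (Nm S).card_mul_index
  have h2 := h.sylow_count
  rw [hN] at h1
  omega

theorem mod_of_216 (h : Conf432 A Q S g) (hN : Nat.card (Nm S) = 216) : Nat.card G / 27 % 3 = 2 := by
  have h1 := (Nm S).card_mul_index
  have h2 := h.sylow_count
  rw [hN] at h1
  omega

theorem N_of_one (h : Conf432 A Q S g) (hm : Nat.card G / 27 % 3 = 1) : Nat.card (Nm S) = 432 := by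
  rcases h.cardN with h1 | h1
  · have := h.mod_of_216 h1
    omega
  · exact h1

theorem N_of_two (h : Conf432 A Q S g) (hm : Nat.card G / 27 % 3 = 2) : Nat.card (Nm S) = 216 := by
  rcases h.cardN with h1 | h1
  · exact h1
  · have := h.mod_of_432 h1
    omega

end Conf432

end

end Cfsg.Agent.H399
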