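import Cfsg.Agent.H399.KillB

/-!
# Consequences of the configuration `3²:GL₂(3)`, third part
-/

set_option autoImplicit false
set_option linter.unusedSectionVars false
set_option linter.unnecessarySeqFocus false

open Pointwise

namespace Cfsg.Agent.H399

variable {G : Type*} [Group G]

theorem exists_conj_le_of_sylow {p : ℕ} [Fact p.Prime] [Finite G] {H S T : Subgroup G} (hS : S ≤ H) (hT : T ≤ H)
    (hSp : IsPGroup p S) (hTp : IsPGroup p T) (hSi : ¬ p ∣ S.relIndex H) : ∃ x ∈ H, cj x T ≤ S := by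
  have h2 : IsPGroup p (T.subgroupOf H) := hTp.comap_of_injective _ H.subtype_injective
  obtain ⟨P, hP⟩ := h2.exists_le_sylow
  have h3 : ¬ p ∣ ((P : Subgroup H).map H.subtype).relIndex H := by
    rw [Subgroup.relIndex, Subgroup.subgroupOf, Subgroup.comap_map_eq_self_of_injective H.subtype_injective]
    exact P.not_dvd_index
  obtain ⟨x, hx, hx'⟩ := exists_conj_of_sylow hS (Subgroup.map_subtype_le (P : Subgroup H)) hSp (P.2.map _) hSi h3
  refine ⟨x, hx, ?_⟩
  rw [← hx', cj_le_cj]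
  have := Subgroup.map_mono (f := H.subtype) hP
  rwa [Subgroup.subgroupOf_map_subtype, inf_of_le_left hT] at this

/-- index of the centraliser of an element of order 3 in a group normalising it -/
theorem relIndex_cent_le [Finite G] {N : Subgroup G} {z : G} (hz3 : z ^ 3 = 1) (hz1 : z ≠ 1)
    (hN : ∀ n ∈ N, n * z * n⁻¹ = z ∨ n * z * n⁻¹ = z⁻¹) : (Subgroup.centralizer {z}).relIndex N ≤ 2 := by
  by_cases hall : ∀ n ∈ N, n * z * n⁻¹ = z
  · have : N ≤ Subgroup.centralizer {z} := by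
      intro n hn
      rw [Subgroup.mem_centralizer_singleton_iff, ← mul_inv_eq_iff_eq_mul]
      exact hall n hn
    rw [Subgroup.relIndex_eq_one.2 this]
    norm_num
  push Not at hall
  obtain ⟨k, hk, hkz⟩ := hall
  have hkz' : k * z * k⁻¹ = z⁻¹ := (hN k hk).resolve_left hkz
  have hzz : z ≠ z⁻¹ := fun h0 => hz1 (eq_one_of_inv hz3 h0)
  have h3 : (Subgroup.centralizer {z}).relIndex N = 2 := by
    rw [Subgroup.relIndex, Subgroup.index_eq_two_iff]
    refine ⟨⟨k, hk⟩, fun b => ?_⟩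
    rw [Subgroup.mem_subgroupOf, Subgroup.mem_subgroupOf, Subgroup.mem_centralizer_singleton_iff,
      Subgroup.mem_centralizer_singleton_iff, Subgroup.coe_mul]
    rcases hN b b.2 with h4 | h4
    · right
      have hbz : (b : G) * z = z * b := by rw [← mul_inv_eq_iff_eq_mul, h4]
      refine ⟨hbz, fun h5 => ?_⟩
      apply hzz
      have h6 : b * k * z * (b * k)⁻¹ = z := by rw [h5, mul_inv_cancel_right]
      have h7 : b * k * z * (b * k)⁻¹ = (b : G) * (k * z * k⁻¹) * (b : G)⁻¹ := by group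
      rw [h7, hkz'] at h6
      have h8 : (b : G) * z⁻¹ * (b : G)⁻¹ = (b * z * (b : G)⁻¹)⁻¹ := by group
      rw [h8, h4] at h6
      exact h6.symm
    · left
      refine ⟨?_, fun h5 => ?_⟩
      · rw [← mul_inv_eq_iff_eq_mul]
        have h7 : b * k * z * (b * k)⁻¹ = (b : G) * (k * z * k⁻¹) * (b : G)⁻¹ := by group
        have h8 : (b : G) * z⁻¹ * (b : G)⁻¹ = (b * z * (b : G)⁻¹)⁻¹ := by group
        rw [h7, hkz', h8, h4, inv_inv]
      · apply hzz
        rw [← h4, h5, mul_inv_cancel_right]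
  exact h3.le

/-- the size of a conjugacy class -/
theorem ncard_class [Finite G] (z : G) : {y : G | ∃ x, x * z * x⁻¹ = y}.ncard = (Subgroup.centralizer {z}).index := by
  let _ : MulAction G G := MulAction.compHom G (MulAut.conj : G →* MulAut G)
  have h1 := MulAction.index_stabilizer G z
  have h2 : MulAction.stabilizer G z = Subgroup.centralizer {z} := by
    ext x
    rw [MulAction.mem_stabilizer_iff, Subgroup.mem_centralizer_singleton_iff, ← mul_inv_eq_iff_eq_mul]
    rfl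
  rw [h2] at h1
  rw [h1]
  rfl

section

variable [Finite G] {A Q S : Subgroup G} {g : G}

namespace Conf432

theorem inv_Z (h : Conf432 A Q S g) {z : G} (hz : z ∈ Q ⊓ cj g Q) (hz1 : z ≠ 1) {n : G} (hn : n ∈ Nm S) :
    n * z * n⁻¹ = z ∨ n * z * n⁻¹ = z⁻¹ := by
  refine inv_or_eq h.lines.cz hz hz1 (Nm_conj (h.Nm_S_le hn) hz) ?_
  intro h0
  apply hz1
  have e : z = n⁻¹ * (n * z * n⁻¹) * n := by group
  rw [e, h0]
  group

/-- (K5) -/
theorem K5 (h : Conf432 A Q S g) (hN : Nat.card (Nm S) = 432) : 5616 < Nat.card G := by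
  obtain ⟨z, hz, hz1⟩ := h.exists_z
  have hz3 : z ^ 3 = 1 := h.exp z (h.QS hz.1)
  have h1 := relIndex_cent_le hz3 hz1 fun n hn => h.inv_Z hz hz1 hn
  have h2 := card_inf_mul_relIndex (Nm S) (Subgroup.centralizer {z})
  rw [hN] at h2
  have h3 : 216 ≤ Nat.card (Subgroup.centralizer {z} ⊓ Nm S : Subgroup G) := by
    by_contra h4
    push Not at h4
    have h5 : Nat.card (Subgroup.centralizer {z} ⊓ Nm S : Subgroup G) * (Subgroup.centralizer {z}).relIndex (Nm S) ≤
      215 * 2 := Nat.mul_le_mul (by omega) h1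
    omega
  have h4 : 216 ≤ Nat.card (Subgroup.centralizer {z}) := h3.trans (Subgroup.card_le_of_le inf_le_left)
  have h5 := (Subgroup.centralizer {z}).card_mul_index
  have h6 : 26 < (Subgroup.centralizer {z}).index := by
    by_contra h7
    push Not at h7
    rw [← ncard_class] at h7
    have hsub : (S : Set G) \ {1} ⊆ {y : G | ∃ x, x * z * x⁻¹ = y} := by
      rintro s ⟨hs, hs1⟩
      have ho : orderOf s = 3 := by
        rcases (Nat.dvd_prime Nat.prime_three).1 (orderOf_dvd_of_pow_eq_one (h.exp s hs)) with h1 | h1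
        · exact absurd (orderOf_eq_one_iff.1 h1) hs1
        · exact h1
      exact isConj_iff.1 (h.isConj_of_order hN hz hz1 ho)
    have hc : ((S : Set G) \ {1}).ncard = 26 := by
      rw [Set.ncard_sdiff_singleton_of_mem S.one_mem]
      have : (S : Set G).ncard = 27 := by
        rw [← h.cardS]
        rfl
      rw [this]
    have heq := Set.eq_of_subset_of_ncard_le hsub (by rw [hc]; exact h7) (Set.toFinite _)
    have hn : S.Normal := by
      constructor
      intro s hs x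
      by_cases hs1 : s = 1
      · rw [hs1, mul_one, mul_inv_cancel]
        exact S.one_mem
      · have h8 : s ∈ {y : G | ∃ x, x * z * x⁻¹ = y} := by
          rw [← heq]
          exact ⟨hs, hs1⟩
        obtain ⟨y, rfl⟩ := h8
        have h9 : x * (y * z * y⁻¹) * x⁻¹ ∈ {y : G | ∃ x, x * z * x⁻¹ = y} := ⟨x * y, by group⟩
        rw [← heq] at h9
        exact h9.1
    rcases h.simple.eq_bot_or_eq_top_of_normal S hn with h8 | h8
    · have := h.cardS
      rw [h8, Subgroup.card_bot] at this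
      omega
    · have h9 := h.SA
      rw [h8, top_le_iff] at h9
      exact h.max.1 h9
  rw [← h5]
  calc 5616 < 216 * 27 := by norm_num
    _ ≤ Nat.card (Subgroup.centralizer {z}) * (Subgroup.centralizer {z}).index := Nat.mul_le_mul h4 h6

/-- (K-cyc) -/
theorem Kcyc (h : Conf432 A Q S g) (hN : Nat.card (Nm S) = 216) {P : Subgroup G} {x : G} (hP : Nat.card P = 27)
    (hx : x ∈ Subgroup.normalizer (P : Set G)) (h8 : orderOf x = 8) : False := by
  have : Fact (Nat.Prime 2) := ⟨Nat.prime_two⟩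
  obtain ⟨y, hy⟩ := h.conj_eq hP
  set x' := y * x * y⁻¹ with hx'
  have hxN : x' ∈ Nm S := by
    rw [← hy, ← cj_Nm]
    exact conj_mem_cj.2 hx
  have ho : orderOf x' = 8 := by rw [hx', orderOf_conj', h8]
  have hzN : Subgroup.zpowers x' ≤ Nm S := by rwa [Subgroup.zpowers_le]
  have hc8 : Nat.card (Subgroup.zpowers x') = 8 := by rw [Nat.card_zpowers, ho]
  have hi : ¬ 2 ∣ (Subgroup.zpowers x').relIndex (Nm S) := by
    have h1 := card_mul_relIndex hzN
    rw [hc8, hN] at h1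
    omega
  obtain ⟨D, hDN, hDA, hD4, hD2⟩ := h.four
  have hDp : IsPGroup 2 D := IsPGroup.of_card (n := 2) (by rw [hD4]; norm_num)
  have hzp : IsPGroup 2 (Subgroup.zpowers x') := IsPGroup.of_card (n := 3) (by rw [hc8]; norm_num)
  obtain ⟨c, hc, hcD⟩ := exists_conj_le_of_sylow hzN hDN hzp hDp hi
  have h1 : ((cj c D : Subgroup G) : Set G) ⊆ {1, x' ^ 4} := by
    intro d hd
    have hd' := hcD hd
    rw [Subgroup.mem_zpowers_iff] at hd'
    obtain ⟨k, rfl⟩ := hd'
    have hd2 := hD2 _ (mem_cj.1 hd)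
    have h2 : x' ^ k * x' ^ k = 1 := by
      have e : x' ^ k * x' ^ k = c * (c⁻¹ * x' ^ k * c * (c⁻¹ * x' ^ k * c)) * c⁻¹ := by group
      rw [e, hd2]
      group
    rw [← zpow_add] at h2
    have h3 : (8 : ℤ) ∣ k + k := by
      rw [← orderOf_dvd_iff_zpow_eq_one, ho] at h2
      exact_mod_cast h2
    obtain ⟨m, hm⟩ : ∃ m, k = 4 * m := ⟨k / 4, by omega⟩
    have h4 : x' ^ (8 : ℤ) = 1 := by
      have := pow_orderOf_eq_one x'
      rw [ho] at this
      exact_mod_cast this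
    rcases Int.even_or_odd' m with ⟨n, hn | hn⟩
    · left
      rw [hm, hn]
      have e : (4 : ℤ) * (2 * n) = 8 * n := by ring
      rw [e, zpow_mul, h4, one_zpow]
    · right
      rw [hm, hn]
      have e : (4 : ℤ) * (2 * n + 1) = 8 * n + 4 := by ring
      rw [e, zpow_add, zpow_mul, h4, one_zpow, one_mul, Set.mem_singleton_iff]
      exact_mod_cast rfl
  have h2 : ((cj c D : Subgroup G) : Set G).ncard = 4 := by
    rw [← hD4, ← card_cj c D]
    rfl
  have h3 := Set.ncard_le_ncard h1 (Set.toFinite _)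
  have h4 := Set.ncard_insert_le (1 : G) {x' ^ 4}
  rw [Set.ncard_singleton] at h4
  omega

theorem Q_le_Nm (h : Conf432 A Q S g) : A ≤ Nm Q := by
  have := h.norm
  rw [Nm, this]

theorem orbit_two (h : Conf432 A Q S g) (hN : Nat.card (Nm S) = 216) {n : G} (hn : n ∈ Nm S) :
    cj n Q = Q ∨ cj n Q = cj g Q := by
  have h1 := h.orb_card
  rw [hN] at h1
  have h2 : (orb S Q).ncard = 2 := by omega
  have hsub : ({Q, cj g Q} : Set (Subgroup G)) ⊆ orb S Q := by
    rintro X (rfl | rfl)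
    · exact ⟨1, Subgroup.one_mem _, cj_one _⟩
    · exact ⟨g, h.gS, rfl⟩
  have hne : Q ≠ cj g Q := fun h0 => h.gQ h0.symm
  have heq := Set.eq_of_subset_of_ncard_le hsub (by rw [h2, Set.ncard_pair hne]) (Set.toFinite _)
  have h3 : cj n Q ∈ orb S Q := ⟨n, hn, rfl⟩
  rw [← heq] at h3
  exact h3

/-- the diagonal action of the fours group -/
theorem exists_d (h : Conf432 A Q S g) (hN : Nat.card (Nm S) = 216) {q q' : G} (hq : q ∈ Q)
    (hqZ : q ∉ Q ⊓ cj g Q) (hq' : q' ∈ cj g Q) (hqZ' : q' ∉ Q ⊓ cj g Q) :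
    ∃ d ∈ Nm S, d ∈ Nm Q ∧ d ∈ Nm (cj g Q) ∧ d * q * d⁻¹ * q ∈ Q ⊓ cj g Q ∧ d * q' * d⁻¹ * q'⁻¹ ∈ Q ⊓ cj g Q := by
  have hL := h.lines
  set Q' := cj g Q with hQ'
  set Z := Q ⊓ Q' with hZ
  obtain ⟨D, hDN, hDA, hD4, hD2⟩ := h.four
  have hDQ : D ≤ Nm Q := hDA.trans h.Q_le_Nm
  have hDQ' : D ≤ Nm Q' := by
    rw [le_Nm']
    intro d hd
    have h1 := h.orbit_two hN (Subgroup.mul_mem _ (hDN hd) h.gS)
    rw [cj_mul] at h1
    rcases h1 with h1 | h1
    · exfalso
      have h2 : cj d Q = Q := cj_of_mem_Nm (hDQ hd)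
      have h3 : cj d Q = cj d (cj g Q) := by rw [h1, h2]
      rw [cj_inj] at h3
      exact h.gQ h3.symm
    · exact h1
  have hDZ : D ≤ Nm Z := inf_le_Nm hDQ hDQ'
  have hZc : ∀ z ∈ Z, ∀ s ∈ S, z * s = s * z := fun z hz s hs => hL.cent hz hs
  have hqS := h.QS hq
  have hqS' := hL.le' hq'
  -- the intersection of the two kernels is trivial
  have hker : ∀ d ∈ D, d * q * d⁻¹ * q⁻¹ ∈ Z → d * q' * d⁻¹ * q'⁻¹ ∈ Z → d = 1 := by
    intro d hd h1 h2
    set z1 := d * q * d⁻¹ * q⁻¹ with hz1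
    set z2 := d * q' * d⁻¹ * q'⁻¹ with hz2
    set c0 := q * q' * q⁻¹ * q'⁻¹ with hc0
    have hc0Z : c0 ∈ Z := hL.comm_mem hqS hqS'
    have hQgen : Z ⊔ Subgroup.zpowers q = Q := by
      refine eq_of_prime_relIndex Nat.prime_three le_sup_left (sup_le hL.zle ?_) hL.idx ?_
      · rwa [Subgroup.zpowers_le]
      · exact fun h0 => hqZ (h0 (Subgroup.mem_sup_right (Subgroup.mem_zpowers _)))
    have hQgen' : Z ⊔ Subgroup.zpowers q' = Q' := by
      refine eq_of_prime_relIndex Nat.prime_three le_sup_left (sup_le hL.zle' ?_) hL.symm.idx ?_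
      · rwa [Subgroup.zpowers_le]
      · exact fun h0 => hqZ' (h0 (Subgroup.mem_sup_right (Subgroup.mem_zpowers _)))
    have hc01 : c0 ≠ 1 := by
      intro h0
      apply hqZ
      rw [hZ, h.mem_Z_iff]
      refine ⟨hqS, ?_⟩
      have hqq : q * q' = q' * q := by
        rw [hc0, mul_inv_eq_one, mul_inv_eq_iff_eq_mul] at h0
        exact h0
      have h3 : S ≤ Subgroup.centralizer {q} := by
        rw [← hL.sup, ← hQgen']
        refine sup_le ?_ (sup_le ?_ ?_)
        · intro y hy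
          rw [Subgroup.mem_centralizer_singleton_iff]
          exact h.comm y hy q hq
        · intro y hy
          rw [Subgroup.mem_centralizer_singleton_iff]
          exact hZc y hy q hqS
        · rw [Subgroup.zpowers_le, Subgroup.mem_centralizer_singleton_iff]
          exact hqq.symm
      intro s hs
      exact Subgroup.mem_centralizer_singleton_iff.1 (h3 hs)
    have hdc : d * c0 * d⁻¹ = c0 := by
      have e : d * c0 * d⁻¹ = (z1 * q) * (z2 * q') * (z1 * q)⁻¹ * (z2 * q')⁻¹ := by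
        rw [hc0, hz1, hz2]
        group
      have a1 : z1 * q = q * z1 := hZc z1 h1 q hqS
      have a2 : z1 * (z2 * q') = (z2 * q') * z1 := hZc z1 h1 _ (S.mul_mem (hL.le (hL.zle h2)) hqS')
      have a3 : z2 * q = q * z2 := hZc z2 h2 q hqS
      have a4 : z2 * (q * q' * q⁻¹) = (q * q' * q⁻¹) * z2 :=
        hZc z2 h2 _ (S.mul_mem (S.mul_mem hqS hqS') (S.inv_mem hqS))
      rw [e, hc0]
      calc (z1 * q) * (z2 * q') * (z1 * q)⁻¹ * (z2 * q')⁻¹
          = q * (z1 * (z2 * q')) * (z1⁻¹ * q⁻¹) * (z2 * q')⁻¹ := by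
            have : (z1 * q)⁻¹ = z1⁻¹ * q⁻¹ := by rw [a1, mul_inv_rev]
            rw [this, a1]
            group
        _ = (q * z2) * q' * q⁻¹ * (z2 * q')⁻¹ := by
            rw [a2]
            group
        _ = (z2 * (q * q' * q⁻¹)) * (z2 * q')⁻¹ := by
            rw [← a3]
            group
        _ = q * q' * q⁻¹ * q'⁻¹ := by
            have a5 : z2 * q' = q' * z2 := hZc z2 h2 q' hqS'
            have : (z2 * q')⁻¹ = z2⁻¹ * q'⁻¹ := by rw [a5, mul_inv_rev]
            rw [this, a4]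
            group
    have hdZ : ∀ z ∈ Z, d * z * d⁻¹ = z := by
      intro z hz
      rw [← eq_of_card_three hL.cz hc0Z hc01, Subgroup.mem_zpowers_iff] at hz
      obtain ⟨k, rfl⟩ := hz
      rw [← conj_zpow, hdc]
    have hsq := hD2 d hd
    have hz1' : z1 = 1 := by
      have e1 : d * z1 * d⁻¹ = z1 := hdZ z1 h1
      have e2 : d * q * d⁻¹ = z1 * q := by
        rw [hz1]
        group
      have e3 : (d * d) * q * (d * d)⁻¹ = z1 * z1 * q := by
        calc (d * d) * q * (d * d)⁻¹ = d * (d * q * d⁻¹) * d⁻¹ := by group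
          _ = d * (z1 * q) * d⁻¹ := by rw [e2]
          _ = (d * z1 * d⁻¹) * (d * q * d⁻¹) := by group
          _ = z1 * z1 * q := by rw [e1, e2]; group
      rw [hsq] at e3
      have e4 : z1 * z1 = 1 := by
        have : z1 * z1 * q = q := by rw [← e3]; group
        exact mul_eq_right.1 this
      have h4 : z1 ^ 3 = 1 := h.exp z1 (hL.le (hL.zle h1))
      have h5 := sq_mem (Y := ⊥) h4 (by rw [Subgroup.mem_bot]; exact e4)
      exact Subgroup.mem_bot.1 h5
    have hdq : q * d = d * q := by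
      have : d * q * d⁻¹ * q⁻¹ = 1 := hz1'
      rw [mul_inv_eq_one, mul_inv_eq_iff_eq_mul] at this
      exact this.symm
    have hdQ : d ∈ Q := by
      refine h.mem_of_cent ?_
      have h3 : Q ≤ Subgroup.centralizer {d} := by
        rw [← hQgen]
        refine sup_le ?_ ?_
        · intro y hy
          rw [Subgroup.mem_centralizer_singleton_iff, eq_comm, ← mul_inv_eq_iff_eq_mul]
          exact hdZ y hy
        · rw [Subgroup.zpowers_le, Subgroup.mem_centralizer_singleton_iff]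
          exact hdq
      intro s hs
      exact Subgroup.mem_centralizer_singleton_iff.1 (h3 hs)
    have h5 := sq_mem (Y := ⊥) (h.exp d (h.QS hdQ)) (by rw [Subgroup.mem_bot]; exact hsq)
    exact Subgroup.mem_bot.1 h5
  -- signs
  have hs1 : ∀ d ∈ D, d * q * d⁻¹ * q⁻¹ ∈ Z ∨ d * q * d⁻¹ * q ∈ Z := by
    intro d hd
    rcases hL.eq.tri hL.zle hL.idx hq hqZ (Nm_conj (hDQ hd) hq) with h1 | h1 | h1
    · exact absurd ((Nm_conj_iff (hDZ hd)).1 h1) hqZ
    · exact Or.inl h1
    · exact Or.inr h1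
  have hs2 : ∀ d ∈ D, d * q' * d⁻¹ * q'⁻¹ ∈ Z ∨ d * q' * d⁻¹ * q' ∈ Z := by
    intro d hd
    rcases hL.eq'.tri hL.zle' hL.symm.idx hq' hqZ' (Nm_conj (hDQ' hd) hq') with h1 | h1 | h1
    · exact absurd ((Nm_conj_iff (hDZ hd)).1 h1) hqZ'
    · exact Or.inl h1
    · exact Or.inr h1
  -- an element of D acting trivially on Q'/Z
  have hex : ∃ d ∈ D, d ≠ 1 ∧ d * q' * d⁻¹ * q'⁻¹ ∈ Z := by
    obtain ⟨d1, d2, h1, h2, h3⟩ : ∃ d1 d2 : D, d1 ≠ 1 ∧ d2 ≠ 1 ∧ d1 ≠ d2 := by
      have : Fintype D := Fintype.ofFinite D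
      have hc : 2 < Fintype.card D := by
        rw [← Nat.card_eq_fintype_card, hD4]
        norm_num
      obtain ⟨a, b, c, hab, hac, hbc⟩ := Fintype.two_lt_card_iff.1 hc
      by_cases ha : a = 1
      · refine ⟨b, c, ?_, ?_, hbc⟩
        · rintro rfl
          exact hab ha
        · rintro rfl
          exact hac ha
      · by_cases hb : b = 1
        · refine ⟨a, c, ha, ?_, hac⟩
          rintro rfl
          exact hbc hb
        · exact ⟨a, b, ha, hb, hab⟩
    by_contra hcon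
    push Not at hcon
    have k1 := (hs2 d1 d1.2).resolve_left (hcon d1 d1.2 (fun h0 => h1 (Subtype.ext h0)))
    have k2 := (hs2 d2 d2.2).resolve_left (hcon d2 d2.2 (fun h0 => h2 (Subtype.ext h0)))
    have k3 : (d1 : G) * d2 ≠ 1 := by
      intro h0
      apply h3
      have h4 := hD2 d2 d2.2
      ext1
      have : (d1 : G) * d2 = (d2 : G) * d2 := by rw [h0, h4]
      exact mul_right_cancel this
    apply hcon (d1 * d2) (D.mul_mem d1.2 d2.2) k3
    have k4 := Nm_conj (hDZ d1.2) k2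
    have e : (d1 : G) * d2 * q' * ((d1 : G) * d2)⁻¹ * q'⁻¹ =
        (d1 * (d2 * q' * (d2 : G)⁻¹ * q') * (d1 : G)⁻¹) * ((q' * (d1 * q' * (d1 : G)⁻¹ * q') * q'⁻¹)⁻¹) := by
      group
    rw [e]
    refine Z.mul_mem k4 (Z.inv_mem ?_)
    rw [← hZc _ k1 q' hqS', mul_inv_cancel_right]
    exact k1
  obtain ⟨d, hd, hd1, hd2⟩ := hex
  refine ⟨d, hDN hd, hDQ hd, hDQ' hd, ?_, hd2⟩
  exact (hs1 d hd).resolve_left fun h0 => hd1 (hker d hd h0 hd2)

/-- (K9) -/
theorem K9 (h : Conf432 A Q S g) (hN : Nat.card (Nm S) = 216) {x t : G} {E : Subgroup G} (hx : orderOf x = 3)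
    (hx27 : ¬ 27 ∣ Nat.card (Subgroup.centralizer {x})) (hE : Nat.card E = 9) (ht1 : t ≠ 1) (ht3 : ¬ 3 ∣ orderOf t)
    (ht : t ∈ Subgroup.centralizer (E : Set G)) (hconj : ∀ x ∈ E, ∀ y ∈ E, x ≠ 1 → y ≠ 1 → IsConj x y) : False := by
  obtain ⟨z, hz, hz1⟩ := h.exists_z
  have hL := h.lines
  -- conjugate E into S
  have hp : IsPGroup 3 E := IsPGroup.of_card (n := 2) (by rw [hE]; norm_num)
  obtain ⟨y, hy⟩ := h.conj_le hp
  have h9 : Nat.card (cj y E) = 9 := by rw [card_cj, hE]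
  have hZE := h.Z_le_of_nine h9 hy
  have hEz : ∀ e ∈ cj y E, e ≠ 1 → IsConj z e := by
    intro e he he1
    have hz' := hZE hz
    rw [mem_cj] at he hz'
    have h1 : y⁻¹ * z * y ≠ 1 := by
      intro h0
      apply hz1
      have e : z = y * (y⁻¹ * z * y) * y⁻¹ := by group
      rw [e, h0]
      group
    have h2 : y⁻¹ * e * y ≠ 1 := by
      intro h0
      apply he1
      have e' : e = y * (y⁻¹ * e * y) * y⁻¹ := by group
      rw [e', h0]
      group
    have h3 := hconj _ hz' _ he h1 h2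
    refine IsConj.trans (b := y⁻¹ * z * y) ?_ (h3.trans ?_)
    · rw [isConj_iff]
      exact ⟨y⁻¹, by group⟩
    · rw [isConj_iff]
      exact ⟨y, by group⟩
  have hEQ : ∀ n, cj y E ≠ cj n Q := by
    intro n h0
    have h1 := h.cent_cj n
    rw [← h0, ← cj_centralizer, cj_inj] at h1
    rw [h1] at ht
    have h4 : t ^ 9 = 1 := by
      have : (⟨t, ht⟩ : E) ^ 9 = 1 := by
        rw [← hE]
        exact pow_card_eq_one'
      exact congrArg Subtype.val this
    have h5 := orderOf_dvd_of_pow_eq_one h4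
    have h6 : orderOf t ∣ 3 ^ 2 := h5
    obtain ⟨k, hk, hk'⟩ := (Nat.dvd_prime_pow Nat.prime_three).1 h6
    rcases Nat.eq_zero_or_pos k with rfl | hk0
    · rw [pow_zero, orderOf_eq_one_iff] at hk'
      exact ht1 hk'
    · apply ht3
      rw [hk']
      exact dvd_pow_self _ hk0.ne'
  -- conjugate x into S
  have hpx : IsPGroup 3 (Subgroup.zpowers x) := IsPGroup.of_card (n := 1) (by rw [Nat.card_zpowers, hx]; norm_num)
  obtain ⟨w, hw⟩ := h.conj_le hpx
  set x' := w * x * w⁻¹ with hx'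
  have hxS : x' ∈ S := hw (conj_mem_cj.2 (Subgroup.mem_zpowers x))
  have hx1 : x' ≠ 1 := by
    intro h0
    rw [← orderOf_conj' w x, ← hx', h0, orderOf_one] at hx
    omega
  have hxz : ¬ IsConj z x' := by
    intro h0
    apply hx27
    have h1 : IsConj z x := by
      refine h0.trans ?_
      rw [isConj_iff]
      exact ⟨w⁻¹, by rw [hx']; group⟩
    rw [← card_cent_of_isConj h1, ← h.cardS]
    exact Subgroup.card_dvd_of_le (h.S_le_cent hz)
  have hxZ : x' ∉ Q ⊓ cj g Q := by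
    intro h0
    apply hxz
    refine h.isConj_of_cj hz hz1 (n := 1) ?_ hx1
    rw [cj_one]
    exact h0.1
  obtain ⟨h2, h3⟩ := h.line_card hxS hxZ
  set X := (Q ⊓ cj g Q) ⊔ Subgroup.zpowers x' with hX
  have hxX : x' ∈ X := Subgroup.mem_sup_right (Subgroup.mem_zpowers _)
  have hXQ : ∀ n, X ≠ cj n Q := by
    intro n h0
    exact hxz (h.isConj_of_cj hz hz1 (n := n) (h0 ▸ hxX) hx1)
  obtain ⟨q, q', hq, hqZ, hq', hqZ'⟩ := h.exists_qq
  set P := (Q ⊓ cj g Q) ⊔ Subgroup.zpowers (q * q') with hP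
  set M := (Q ⊓ cj g Q) ⊔ Subgroup.zpowers (q * q'⁻¹) with hM
  obtain ⟨d, hdS, hdQ, hdQ', hd1, hd2⟩ := h.exists_d hN hq hqZ hq' hqZ'
  have hqS := h.QS hq
  have hqS' := hL.le' hq'
  have hdZ : d ∈ Nm (Q ⊓ cj g Q) := (inf_le_Nm (A := Subgroup.zpowers d) (by rwa [Subgroup.zpowers_le])
    (by rwa [Subgroup.zpowers_le])) (Subgroup.mem_zpowers d)
  have cases' : ∀ X : Subgroup G, Q ⊓ cj g Q ≤ X → X ≤ S → Nat.card X = 9 → (∀ n, X ≠ cj n Q) → X = P ∨ X = M := by
    intro X k1 k2 k3 k4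
    rcases hL.cases hq hqZ hq' hqZ' k1 k2 k3 with k5 | k5 | k5 | k5
    · exact absurd k5 (by have := k4 1; rwa [cj_one] at this)
    · exact absurd k5 (k4 g)
    · exact Or.inl k5
    · exact Or.inr k5
  -- d maps P to M
  have hdP : cj d P ≤ M := by
    have e0 : cj d P = (Q ⊓ cj g Q) ⊔ Subgroup.zpowers (d * (q * q') * d⁻¹) := by
      rw [hP, cj_sup, cj_of_mem_Nm hdZ]
      congr 1
      rw [cj_eq_map, MonoidHom.map_zpowers]
      rfl
    rw [e0]
    refine sup_le le_sup_left ?_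
    rw [Subgroup.zpowers_le]
    have e1 : d * (q * q') * d⁻¹ * (q * q'⁻¹) ∈ Q ⊓ cj g Q := by
      have e1 : d * (q * q') * d⁻¹ * (q * q'⁻¹) = (d * q * d⁻¹ * q) * ((q⁻¹ * (d * q' * d⁻¹ * q'⁻¹) * q) *
        (q⁻¹ * q' * q⁻¹⁻¹ * q'⁻¹)) := by group
      rw [e1]
      refine Subgroup.mul_mem _ hd1 (Subgroup.mul_mem _ ?_ (hL.comm_mem (Subgroup.inv_mem _ hqS) hqS'))
      rw [mul_assoc, hL.cent hd2 hqS, inv_mul_cancel_left]
      exact hd2
    have e3 : d * (q * q') * d⁻¹ = (d * (q * q') * d⁻¹ * (q * q'⁻¹)) * (q * q'⁻¹)⁻¹ := by group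
    rw [e3]
    exact Subgroup.mul_mem _ (Subgroup.mem_sup_left e1)
      (Subgroup.inv_mem _ (Subgroup.mem_sup_right (Subgroup.mem_zpowers _)))
  have hdS' : ∀ Y : Subgroup G, Y ≤ S → cj d Y ≤ S := by
    intro Y hY
    rw [← cj_of_mem_Nm hdS, cj_le_cj]
    exact hY
  have hdE : cj d (cj y E) = P ∨ cj d (cj y E) = M := by
    refine cases' _ ?_ (hdS' _ hy) (by rw [card_cj, h9]) ?_
    · rw [← cj_of_mem_Nm hdZ, cj_le_cj]
      exact hZE
    · intro n h0
      rw [cj_eq_iff, ← cj_mul] at h0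
      exact hEQ _ h0
  have hE' := cases' (cj y E) hZE hy h9 hEQ
  have hX' := cases' X le_sup_left h3 h2 hXQ
  have hXE : X ≠ cj y E := by
    intro h0
    exact hxz (hEz x' (h0 ▸ hxX) hx1)
  -- so cj d (cj y E) = X
  have hfin : cj d (cj y E) = X := by
    rcases hE' with h4 | h4
    · have h5 : X = M := by
        rcases hX' with h5 | h5
        · exact absurd (h5.trans h4.symm) hXE
        · exact h5
      rw [h5, h4]
      refine Subgroup.eq_of_le_of_card_ge hdP ?_
      rw [card_cj, ← h4, h9, ← h5, h2]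
    · have h5 : X = P := by
        rcases hX' with h5 | h5
        · exact h5
        · exact absurd (h5.trans h4.symm) hXE
      have h6 : cj d P = M := by
        refine Subgroup.eq_of_le_of_card_ge hdP ?_
        rw [card_cj, ← h4, h9, ← h5, h2]
      rcases hdE with h7 | h7
      · rw [h7, h5]
      · exfalso
        have h8 : cj d (cj y E) = cj d P := by rw [h7, h6]
        exact hXE (by rw [h5, (cj_inj).1 h8])
  apply hxz
  rw [← hfin, mem_cj] at hxX
  have h8 : d⁻¹ * x' * d ≠ 1 := by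
    intro h0
    apply hx1
    have e : x' = d * (d⁻¹ * x' * d) * d⁻¹ := by group
    rw [e, h0]
    group
  refine (hEz _ hxX h8).trans ?_
  rw [isConj_iff]
  exact ⟨d, by group⟩

end Conf432

end

end Cfsg.Agent.H399
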