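import Cfsg.Agent.H399.Graph

/-!
# Local structure: `V_A = N_A × Y_A`, `|K_A : Q_A| = 2`, `|A : K_A| = 24`
-/

set_option autoImplicit false
set_option linter.unusedSectionVars false
set_option linter.unnecessarySeqFocus false

open Pointwise

namespace Cfsg.Agent.H399

variable {G : Type*} [Group G]

/-- The subgroup generated by the Sylow 3-subgroups. -/
def MM (X : Subgroup G) : Subgroup G := ⨆ P : {P : Subgroup G // IsSyl X P}, (P : Subgroup G)

theorem cj_MM (x : G) (X : Subgroup G) : cj x (MM X) = MM (cj x X) := by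
  have key : ∀ (x : G) (X : Subgroup G), cj x (MM X) ≤ MM (cj x X) := by
    intro x X
    rw [cj_le_iff]
    refine iSup_le fun P => ?_
    rw [← cj_le_cj (x := x), cj_cj_inv]
    exact le_iSup (fun P : {P : Subgroup G // IsSyl (cj x X) P} => (P : Subgroup G)) ⟨_, P.2.cjBy x⟩
  refine le_antisymm (key x X) ?_
  have := key x⁻¹ (cj x X)
  rw [cj_inv_cj, cj_le_iff, inv_inv] at this
  exact this

theorem le_MM {X P : Subgroup G} (h : IsSyl X P) : P ≤ MM X :=
  le_iSup (fun P : {P : Subgroup G // IsSyl X P} => (P : Subgroup G)) ⟨P, h⟩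

theorem MM_le (X : Subgroup G) : MM X ≤ X := iSup_le fun P => P.2.1

theorem le_Nm_MM (X : Subgroup G) : X ≤ Nm (MM X) := by
  rw [le_Nm']
  intro x hx
  rw [cj_MM, cj_of_mem hx]

theorem MM_eq [Finite G] {X S : Subgroup G} (h : IsSyl X S) : MM X = ncl X S := by
  have : Fact (Nat.Prime 3) := ⟨Nat.prime_three⟩
  refine le_antisymm (iSup_le fun P => ?_) (ncl_le (le_MM h) (le_Nm_MM X))
  obtain ⟨x, hx, hx'⟩ := exists_conj_of_sylow P.2.1 h.1 P.2.2.1 h.2.1 P.2.2.2 h.2.2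
  rw [← hx']
  exact cj_le_ncl hx

/-- `Y(X) = C_V(M)` -/
def YY (X : Subgroup G) : Subgroup G := VV X ⊓ Subgroup.centralizer (MM X : Set G)

theorem mem_YY {X : Subgroup G} {x : G} : x ∈ YY X ↔ x ∈ VV X ∧ ∀ m ∈ MM X, m * x = x * m := by
  rw [YY, Subgroup.mem_inf, Subgroup.mem_centralizer_iff]
  rfl

theorem YY_le (X : Subgroup G) : YY X ≤ VV X := inf_le_left

theorem cj_centralizer (x : G) (X : Subgroup G) :
    cj x (Subgroup.centralizer (X : Set G)) = Subgroup.centralizer (cj x X : Set G) := by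
  ext y
  rw [mem_cj, Subgroup.mem_centralizer_iff, Subgroup.mem_centralizer_iff]
  constructor
  · intro h z hz
    have h1 := h _ (mem_cj.1 hz)
    have h2 : z * y = x * (x⁻¹ * z * x * (x⁻¹ * y * x)) * x⁻¹ := by group
    rw [h2, h1]
    group
  · intro h z hz
    have h1 := h (x * z * x⁻¹) (conj_mem_cj.2 hz)
    have h2 : z * (x⁻¹ * y * x) = x⁻¹ * (x * z * x⁻¹ * y) * x := by group
    rw [h2, h1]
    group

theorem cj_YY (x : G) (X : Subgroup G) : cj x (YY X) = YY (cj x X) := by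
  rw [YY, cj_inf, cj_VV, cj_centralizer, cj_MM, YY]

theorem le_Nm_YY (X : Subgroup G) : X ≤ Nm (YY X) := by
  rw [le_Nm']
  intro x hx
  rw [cj_YY, cj_of_mem hx]

section

variable [Finite G] {A B : Subgroup G}

theorem H2.MM_not_le (h : H2 A B) : ¬ MM A ≤ A ⊓ B := by
  intro h1
  exact h.S_not_le_K ((le_MM h.isSyl).trans (le_core h1 (le_Nm_MM A)))

theorem H2.MM_not_le_K (h : H2 A B) : ¬ MM A ≤ K A B := fun h1 => h.MM_not_le (h1.trans (K_le A B))

theorem H2.MM_sup (h : H2 A B) : MM A ⊔ (A ⊓ B) = A := h.sup_eq (MM_le A) (le_Nm_MM A) h.MM_not_le_K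

/-- A subgroup containing `S` and not contained in `C` contains `M`. -/
theorem H2.MM_le_of (h : H2 A B) {M : Subgroup G} (hS : SS A B ≤ M) (hM : M ≤ A) (hMC : ¬ M ≤ A ⊓ B) : MM A ≤ M := by
  rw [MM_eq h.isSyl]
  refine ncl_le' fun a ha => ?_
  obtain ⟨m, hm, hma⟩ := h.transitive_of h.S_le h.C_le_Nm_S h.S_not_le_K hS hM hMC a ha
  have h1 : cj a (SS A B) = cj m (SS A B) := by
    have h2 : a = m * (m⁻¹ * a) := by group
    rw [h2, cj_mul, cj_of_mem_Nm (h.C_le_Nm_S hma)]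
  rw [h1, cj_le_iff, cj_of_mem (M.inv_mem hm)]
  exact hS

theorem H2.YY_le_Z (h : H2 A B) : YY A ≤ ZZ A B := by
  intro x hx
  rw [mem_YY] at hx
  exact ⟨(h.V_le_Q.trans le_sup_left) hx.1, h.EA_V.exp x hx.1, fun y hy => (hx.2 y (le_MM h.isSyl hy)).symm⟩

theorem H2.cj_S_not_le (h : H2 A B) {a : G} (ha : a ∈ A) (haC : a ∉ A ⊓ B) : ¬ cj a (SS A B) ≤ A ⊓ B := by
  intro h1
  apply haC
  rw [← h.inf_Nm_S]
  refine ⟨ha, ?_⟩
  -- both `S` and its conjugate are Sylow in `C`, and `S` is normal in `C`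
  have : Fact (Nat.Prime 3) := ⟨Nat.prime_three⟩
  have h2 : ¬ 3 ∣ (SS A B).relIndex (A ⊓ B) := by
    intro h3
    have := h3.trans h.idx_S
    omega
  have h3 : ¬ 3 ∣ (cj a (SS A B)).relIndex (A ⊓ B) := by
    have h4 := card_mul_relIndex h1
    rw [card_cj, ← card_mul_relIndex h.S_le] at h4
    rwa [Nat.eq_of_mul_eq_mul_left Nat.card_pos h4]
  obtain ⟨c, hc, hc'⟩ := exists_conj_of_sylow h.S_le h1 h.S_three (isPGroup_cj a h.S_three) h2 h3
  have h5 : cj a (SS A B) = SS A B := by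
    rw [cj_eq_iff] at hc'
    rw [hc', cj_of_mem_Nm (h.C_le_Nm_S (Subgroup.inv_mem _ hc))]
  exact mem_Nm.2 h5

/-- `Z ∩ Z^a = Y` -/
theorem H2.Z_inf (h : H2 A B) {a : G} (ha : a ∈ A) (haC : a ∉ A ⊓ B) : ZZ A B ⊓ cj a (ZZ A B) = YY A := by
  apply le_antisymm
  · rintro x ⟨hx, hx'⟩
    have hx' : x ∈ cj a (ZZ A B) := hx'
    rw [mem_YY]
    refine ⟨h.Z_le_V hx, ?_⟩
    have h1 : MM A ≤ SS A B ⊔ cj a (SS A B) := by
      refine h.MM_le_of le_sup_left (sup_le (h.S_le.trans inf_le_left) ?_) ?_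
      · rw [cj_le_iff, cj_of_mem (A.inv_mem ha)]
        exact h.S_le.trans inf_le_left
      · exact fun h2 => h.cj_S_not_le ha haC (le_sup_right.trans h2)
    have h2 : SS A B ⊔ cj a (SS A B) ≤ Subgroup.centralizer {x} := by
      refine sup_le ?_ ?_
      · intro s hs
        rw [Subgroup.mem_centralizer_singleton_iff]
        exact (hx.2.2 s hs).symm
      · intro s hs
        rw [cj_OZ] at hx'
        rw [Subgroup.mem_centralizer_singleton_iff]
        exact (hx'.2.2 s hs).symm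
    intro m hm
    exact Subgroup.mem_centralizer_singleton_iff.1 (h2 (h1 hm))
  · refine le_inf h.YY_le_Z ?_
    rw [← cj_of_mem_Nm (le_Nm_YY A ha), cj_le_cj]
    exact h.YY_le_Z

theorem H2.Z_ne_cj (h : H2 A B) {a : G} (ha : a ∈ A) (haC : a ∉ A ⊓ B) : ¬ cj a (ZZ A B) ≤ ZZ A B := by
  intro h1
  have h2 : cj a (ZZ A B) = ZZ A B := Subgroup.eq_of_le_of_card_ge h1 (by rw [card_cj])
  rcases h.eq_or_eq (M := A ⊓ Nm (ZZ A B)) (le_inf inf_le_left h.C_le_Nm_Z) inf_le_left with h3 | h3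
  · apply haC
    rw [← h3]
    exact ⟨ha, mem_Nm.2 h2⟩
  · exact h.not_le_Nm_Z (h3.symm.le.trans inf_le_right)

theorem EA.le_Nm {V X Y : Subgroup G} (h : EA V) (hX : X ≤ V) (hY : Y ≤ V) : X ≤ Nm Y := by
  rw [H399.le_Nm]
  intro x hx y hy
  rw [h.comm x (hX hx) y (hY hy), mul_inv_cancel_right]
  exact hy

theorem H2.cj_V_le (_h : H2 A B) {a : G} (ha : a ∈ A) {X : Subgroup G} (hX : X ≤ VV A) : cj a X ≤ VV A := by
  rw [cj_le_iff, cj_of_mem_Nm ((le_Nm_VV A) (A.inv_mem ha))]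
  exact hX

theorem Mn.idx_Z (h : Mn A B) : (ZZ A B).relIndex (VV A) = 3 := by
  have h1 := card_mul_relIndex h.Z_le_V
  rw [h.card_V, mul_comm 3] at h1
  exact Nat.eq_of_mul_eq_mul_left Nat.card_pos h1

theorem Mn.exists_not (h : Mn A B) : ∃ a ∈ A, a ∉ A ⊓ B := by
  by_contra hcon
  push Not at hcon
  have h1 : A ≤ A ⊓ B := hcon
  have := h.idx
  rw [Subgroup.relIndex_eq_one.2 h1] at this
  omega

theorem Mn.idx_YZ (h : Mn A B) : (YY A).relIndex (ZZ A B) = 3 := by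
  obtain ⟨a, ha, haC⟩ := h.exists_not
  have h1 : cj a (ZZ A B) ≤ VV A := h.cj_V_le ha h.Z_le_V
  have h2 : ZZ A B ⊔ cj a (ZZ A B) = VV A :=
    eq_of_prime_relIndex Nat.prime_three le_sup_left (sup_le h.Z_le_V h1) h.idx_Z
      fun h3 => h.Z_ne_cj ha haC (le_sup_right.trans h3)
  have h3 := relIndex_sup_of_left (h.EA_V.le_Nm h.Z_le_V h1)
  have h4 : (cj a (ZZ A B)).relIndex (VV A) = 3 := by
    rw [← cj_of_mem_Nm (le_Nm_VV A ha), relIndex_cj, h.idx_Z]
  rw [h2, h4] at h3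
  rw [← h.Z_inf ha haC, inf_comm, Subgroup.inf_relIndex_right, ← h3]

theorem Mn.card_Z (h : Mn A B) : Nat.card (ZZ A B) = 3 * Nat.card (YY A) := by
  rw [← card_mul_relIndex h.YY_le_Z, h.idx_YZ, mul_comm]

/-- Every element of `V` outside `Y` lies in a conjugate of `Z`. -/
theorem Mn.cover (h : Mn A B) {v : G} (hv : v ∈ VV A) (hvY : v ∉ YY A) : ∃ a ∈ A, v ∈ cj a (ZZ A B) := by
  obtain ⟨φ, hφ⟩ := h.hom
  choose a ha hai using fun i : Fin 4 => hφ.trans i
  let f : Fin 4 × {z : G // z ∈ ZZ A B ∧ z ∉ YY A} → {v : G // v ∈ VV A ∧ v ∉ YY A} := fun p =>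
    ⟨a p.1 * p.2.1 * (a p.1)⁻¹, h.cj_V_le (ha p.1) h.Z_le_V (conj_mem_cj.2 p.2.2.1), fun hc =>
      p.2.2.2 (by
        have hc' : a p.1 * p.2.1 * (a p.1)⁻¹ ∈ cj (a p.1) (YY A) := by
          rwa [cj_of_mem_Nm (le_Nm_YY A (ha p.1))]
        exact conj_mem_cj.1 hc')⟩
  have hinj : Function.Injective f := by
    rintro ⟨i, z, hz, hzY⟩ ⟨j, w, hw, hwY⟩ hij
    have h0 : a i * z * (a i)⁻¹ = a j * w * (a j)⁻¹ := congrArg Subtype.val hij
    by_cases hi : i = j
    · subst hi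
      have : z = w := by
        have := mul_right_cancel h0
        exact mul_left_cancel this
      subst this
      rfl
    · exfalso
      apply hzY
      have hb : (a i)⁻¹ * a j ∈ A := A.mul_mem (A.inv_mem (ha i)) (ha j)
      have hbC : (a i)⁻¹ * a j ∉ A ⊓ B := by
        intro hc
        rw [hφ.stab ⟨_, hb⟩] at hc
        have h5 : φ ⟨(a i)⁻¹ * a j, hb⟩ = (φ ⟨a i, ha i⟩)⁻¹ * φ ⟨a j, ha j⟩ := by
          rw [← map_inv, ← map_mul]
          rfl
        rw [h5, Equiv.Perm.mul_apply, Equiv.Perm.inv_eq_iff_eq, hai, hai] at hc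
        exact hi hc.symm
      rw [← h.Z_inf hb hbC]
      refine ⟨hz, ?_⟩
      show z ∈ cj ((a i)⁻¹ * a j) (ZZ A B)
      rw [mem_cj]
      have : ((a i)⁻¹ * a j)⁻¹ * z * ((a i)⁻¹ * a j) = w := by
        have h6 : z = (a i)⁻¹ * (a i * z * (a i)⁻¹) * a i := by group
        rw [h6, h0]
        group
      rw [this]
      exact hw
  have hcard : Nat.card {v : G // v ∈ VV A ∧ v ∉ YY A} ≤ Nat.card (Fin 4 × {z : G // z ∈ ZZ A B ∧ z ∉ YY A}) := by
    have key : ∀ X : Subgroup G, YY A ≤ X → Nat.card {v : G // v ∈ X ∧ v ∉ YY A} + Nat.card (YY A) = Nat.card X := by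
      intro X hX
      classical
      have e : {v : G // v ∈ X ∧ v ∉ YY A} ⊕ YY A ≃ X := by
        refine (Equiv.sumCompl (fun v : X => (v : G) ∉ YY A)).symm.trans ?_ |>.symm
        refine Equiv.sumCongr ?_ ?_
        · exact (Equiv.subtypeSubtypeEquivSubtypeInter (fun v => v ∈ X) (fun v => v ∉ YY A))
        · exact ((Equiv.subtypeSubtypeEquivSubtypeInter (fun v => v ∈ X) (fun v => ¬ v ∉ YY A)).trans
            (Equiv.subtypeEquivRight (fun v => ⟨fun hh => not_not.1 hh.2, fun hh => ⟨hX hh, not_not.2 hh⟩⟩)))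
      rw [← Nat.card_congr e, Nat.card_sum]
    have h1 := key _ (YY_le A)
    have h2 := key _ h.YY_le_Z
    have h3 := h.card_V
    have h4 := h.card_Z
    rw [Nat.card_prod, Nat.card_fin]
    omega
  have hbij := (Function.Injective.bijective_of_nat_card_le hinj hcard)
  obtain ⟨⟨i, z, hz, hzY⟩, hiz⟩ := hbij.2 ⟨v, hv, hvY⟩
  refine ⟨a i, ha i, ?_⟩
  have : a i * z * (a i)⁻¹ = v := congrArg Subtype.val hiz
  rw [← this, conj_mem_cj]
  exact hz

end

end Cfsg.Agent.H399
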