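import Cfsg.Agent.H399.Local

/-!
# Local structure, second part: `|K_A : Q_A| = 2`, the signs
-/

set_option autoImplicit false
set_option linter.unusedSectionVars false
set_option linter.unnecessarySeqFocus false

open Pointwise

namespace Cfsg.Agent.H399

variable {G : Type*} [Group G]

theorem two_mul_mem {H L : Subgroup G} (h2 : H.relIndex L = 2) {a b : G} (ha : a ∈ L) (hb : b ∈ L) (haH : a ∉ H)
    (hbH : b ∉ H) : a * b ∈ H := by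
  have h3 : (H.subgroupOf L).index = 2 := h2
  have h4 := Subgroup.mul_mem_iff_of_index_two h3 (a := ⟨a, ha⟩) (b := ⟨b, hb⟩)
  have h5 : (⟨a, ha⟩ : L) * ⟨b, hb⟩ ∈ H.subgroupOf L :=
    h4.2 ⟨fun h => absurd h haH, fun h => absurd h hbH⟩
  exact h5

theorem Nm_conj {X : Subgroup G} {x y : G} (hx : x ∈ Nm X) (hy : y ∈ X) : x * y * x⁻¹ ∈ X := by
  have := conj_mem_cj (x := x).2 hy
  rwa [cj_of_mem_Nm hx] at this

theorem Nm_conj' {X : Subgroup G} {x y : G} (hx : x ∈ Nm X) (hy : y ∈ X) : x⁻¹ * y * x ∈ X := by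
  have := Nm_conj ((Nm X).inv_mem hx) hy
  rwa [inv_inv] at this

theorem Nm_conj_iff {X : Subgroup G} {x y : G} (hx : x ∈ Nm X) : x * y * x⁻¹ ∈ X ↔ y ∈ X := by
  refine ⟨fun h => ?_, Nm_conj hx⟩
  have := Nm_conj' hx h
  have e : x⁻¹ * (x * y * x⁻¹) * x = y := by group
  rwa [e] at this

section

variable [Finite G] {A B : Subgroup G}

/-- trichotomy for a subgroup of index 3 -/
theorem EA.tri {V Z : Subgroup G} (hV : EA V) (hZV : Z ≤ V) (hidx : Z.relIndex V = 3) {v w : G} (hv : v ∈ V)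
    (hvZ : v ∉ Z) (hw : w ∈ V) : w ∈ Z ∨ w * v⁻¹ ∈ Z ∨ w * v ∈ Z := by
  have h1 : Z ⊔ Subgroup.zpowers v = V := by
    refine eq_of_prime_relIndex Nat.prime_three le_sup_left (sup_le hZV ?_) hidx ?_
    · rw [Subgroup.zpowers_le]
      exact hv
    · intro h
      apply hvZ
      exact h (Subgroup.mem_sup_right (Subgroup.mem_zpowers v))
  have hv' : Subgroup.zpowers v ≤ V := by
    rw [Subgroup.zpowers_le]
    exact hv
  rw [← h1, mul_mem_sup_iff (hV.le_Nm hZV hv')] at hw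
  obtain ⟨z, hz, y, ⟨k, rfl⟩, rfl⟩ := hw
  have h3 : v ^ (3 : ℤ) = 1 := by
    have := hV.exp v hv
    exact_mod_cast this
  have h4 : v ^ k = v ^ (k % 3) := by
    conv_lhs => rw [← Int.emod_add_mul_ediv k 3, zpow_add, zpow_mul, h3, one_zpow, mul_one]
  have h5 : k % 3 = 0 ∨ k % 3 = 1 ∨ k % 3 = 2 := by omega
  simp only
  rw [h4]
  rcases h5 with h5 | h5 | h5 <;> rw [h5]
  · left
    simpa using hz
  · right; left
    simpa using hz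
  · right; right
    have : z * v ^ (2 : ℤ) * v = z * v ^ (3 : ℤ) := by
      rw [mul_assoc]
      congr 1
      group
    rw [this, h3, mul_one]
    exact hz

/-- The elements acting trivially on the coset `vZ`. -/
def Tv (V Z : Subgroup G) (v : G) : Subgroup G where
  carrier := {x | x ∈ Nm V ∧ x ∈ Nm Z ∧ x * v * x⁻¹ * v⁻¹ ∈ Z}
  one_mem' := ⟨Subgroup.one_mem _, Subgroup.one_mem _, by simp⟩
  mul_mem' := by
    rintro x y ⟨hx, hx', hx''⟩ ⟨hy, hy', hy''⟩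
    refine ⟨Subgroup.mul_mem _ hx hy, Subgroup.mul_mem _ hx' hy', ?_⟩
    have e : x * y * v * (x * y)⁻¹ * v⁻¹ = (x * (y * v * y⁻¹ * v⁻¹) * x⁻¹) * (x * v * x⁻¹ * v⁻¹) := by group
    rw [e]
    exact Z.mul_mem (Nm_conj hx' hy'') hx''
  inv_mem' := by
    rintro x ⟨hx, hx', hx''⟩
    refine ⟨Subgroup.inv_mem _ hx, Subgroup.inv_mem _ hx', ?_⟩
    have e : x⁻¹ * v * (x⁻¹)⁻¹ * v⁻¹ = x⁻¹ * (x * v * x⁻¹ * v⁻¹)⁻¹ * x := by group
    rw [e]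
    exact Nm_conj' hx' (Z.inv_mem hx'')

theorem EA.act_trivial {V Z : Subgroup G} (hV : EA V) (hZV : Z ≤ V) (hidx : Z.relIndex V = 3) {s : G}
    (hsV : s ∈ Nm V) (hsZ : s ∈ Nm Z) {m : ℕ} (hs : s ^ 3 ^ m = 1) {v : G} (hv : v ∈ V) :
    s * v * s⁻¹ * v⁻¹ ∈ Z := by
  by_cases hvZ : v ∈ Z
  · exact Z.mul_mem (Nm_conj hsZ hvZ) (Z.inv_mem hvZ)
  rcases hV.tri hZV hidx hv hvZ (Nm_conj hsV hv) with h | h | h
  · exact absurd ((Nm_conj_iff hsZ).1 h) hvZ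
  · exact h
  · have h1 : s ^ 2 ∈ Tv V Z v := by
      refine ⟨Subgroup.pow_mem _ hsV 2, Subgroup.pow_mem _ hsZ 2, ?_⟩
      have h2 := Nm_conj hsZ h
      have h3 : s ^ 2 * v * (s ^ 2)⁻¹ * v⁻¹ = (s * (s * v * s⁻¹ * v) * s⁻¹) * (s * v⁻¹ * s⁻¹ * v⁻¹) := by
        rw [pow_two]
        group
      rw [h3]
      refine Z.mul_mem h2 ?_
      have h4 : s * v⁻¹ * s⁻¹ * v⁻¹ = (v * (s * v * s⁻¹))⁻¹ := by group
      rw [h4, hV.comm v hv _ (Nm_conj hsV hv)]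
      exact Z.inv_mem h
    have h5 : s ∈ Tv V Z v := by
      refine mem_of_pow_mem (m := 3 ^ m) (n := 2) ?_ hs h1
      exact (by norm_num : Nat.Coprime 3 2).pow_left m
    exact h5.2.2

theorem H2.exists_pow (h : H2 A B) {s : G} (hs : s ∈ SS A B) : ∃ m : ℕ, s ^ 3 ^ m = 1 := by
  obtain ⟨m, hm⟩ := h.S_three ⟨s, hs⟩
  exact ⟨m, congrArg Subtype.val hm⟩

theorem H2.S_le_A (h : H2 A B) : SS A B ≤ A := h.S_le.trans inf_le_left

/-- `[V, S] ≤ Z` -/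
theorem Mn.comm_VS (h : Mn A B) {v s : G} (hv : v ∈ VV A) (hs : s ∈ SS A B) : s * v * s⁻¹ * v⁻¹ ∈ ZZ A B := by
  obtain ⟨m, hm⟩ := h.exists_pow hs
  exact h.EA_V.act_trivial h.Z_le_V h.idx_Z (le_Nm_VV A (h.S_le_A hs)) (h.C_le_Nm_Z (h.S_le hs)) hm hv

theorem Mn.exists_Z_not (h : Mn A B) : ∃ z ∈ ZZ A B, z ∉ YY A := by
  have h1 : ¬ ZZ A B ≤ YY A := by
    intro h1
    have h2 := h.idx_YZ
    rw [Subgroup.relIndex_eq_one.2 h1] at h2
    omega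
  obtain ⟨z, hz, hz'⟩ := SetLike.not_le_iff_exists.1 h1
  exact ⟨z, hz, hz'⟩

theorem H2.EA_Y (h : H2 A B) : EA (YY A) := h.EA_V.mono (YY_le A)

theorem sq_mem {Y : Subgroup G} {v : G} (h3 : v ^ 3 = 1) (h : v * v ∈ Y) : v ∈ Y := by
  have e : v = (v * v) * (v * v) := by
    have : v * v * (v * v) = v ^ 3 * v := by
      simp only [pow_succ, pow_zero, one_mul, mul_assoc]
    rw [this, h3, one_mul]
  rw [e]
  exact Y.mul_mem h h

/-- The element `k = u²`. -/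
theorem Mn.exists_k (h : Mn A B) : ∃ k ∈ K A B, k ∈ MM A ∧ ∀ z ∈ ZZ A B, k * z * k⁻¹ * z ∈ YY A := by
  obtain ⟨u, hu, huA, huK, hufix⟩ := h.exists_dt h.S_le h.C_le_Nm_S h.S_not_le_K
  rw [← MM_eq h.isSyl] at hu
  refine ⟨u * u, huK, Subgroup.mul_mem _ hu hu, ?_⟩
  intro z hz
  have hkA : u * u ∈ A := A.mul_mem huA huA
  have hkY := le_Nm_YY A hkA
  by_cases hzY : z ∈ YY A
  · exact Subgroup.mul_mem _ (Nm_conj hkY hzY) hzY
  have hkZ : u * u * z * (u * u)⁻¹ ∈ ZZ A B := Nm_conj (h.C_le_Nm_Z (K_le A B huK)) hz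
  rcases (h.EA_V.mono h.Z_le_V).tri h.YY_le_Z h.idx_YZ hz hzY hkZ with h1 | h1 | h1
  · exact absurd ((Nm_conj_iff hkY).1 h1) hzY
  · exfalso
    have hzV := h.Z_le_V hz
    have hyV : u * z * u⁻¹ ∈ VV A := Nm_conj (le_Nm_VV A huA) hzV
    have huC : u ∉ A ⊓ B := by
      have := hufix 1 A.one_mem
      simpa using this
    have hw : z * (u * z * u⁻¹) ∉ YY A := by
      intro hw
      apply hzY
      have h2 : u * z * u⁻¹ ∈ ZZ A B := by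
        have e : u * z * u⁻¹ = z⁻¹ * (z * (u * z * u⁻¹)) := by group
        rw [e]
        exact Subgroup.mul_mem _ (Subgroup.inv_mem _ hz) (h.YY_le_Z hw)
      have h3 : u * z * u⁻¹ ∈ YY A := by
        rw [← h.Z_inf huA huC]
        exact ⟨h2, conj_mem_cj.2 hz⟩
      exact (Nm_conj_iff (le_Nm_YY A huA)).1 h3
    obtain ⟨a, ha, haw⟩ := h.cover (h.EA_V.comm z hzV _ hyV ▸ Subgroup.mul_mem _ hyV hzV) hw
    have h4 : u * (z * (u * z * u⁻¹)) * u⁻¹ * (z * (u * z * u⁻¹))⁻¹ ∈ YY A := by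
      have e : u * (z * (u * z * u⁻¹)) * u⁻¹ * (z * (u * z * u⁻¹))⁻¹ =
          (u * z * u⁻¹) * (u * u * z * (u * u)⁻¹ * ((u * z * u⁻¹)⁻¹ * z⁻¹)) := by group
      have h5 : u * u * z * (u * u)⁻¹ ∈ VV A := h.Z_le_V hkZ
      rw [e, h.EA_V.comm _ (Subgroup.inv_mem _ hyV) _ (Subgroup.inv_mem _ hzV), ← mul_assoc (u * u * z * (u * u)⁻¹),
        ← mul_assoc, h.EA_V.comm _ hyV _ (Subgroup.mul_mem _ h5 (Subgroup.inv_mem _ hzV)), mul_inv_cancel_right]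
      exact h1
    apply hw
    have h6 : cj a (ZZ A B) ⊓ cj (u * a) (ZZ A B) = YY A := by
      have h7 := h.Z_inf (A.mul_mem (A.mul_mem (A.inv_mem ha) huA) ha) (hufix a ha)
      have h8 := congrArg (cj a) h7
      rw [cj_inf, ← cj_mul, cj_of_mem_Nm (le_Nm_YY A ha)] at h8
      have e : a * (a⁻¹ * u * a) = u * a := by group
      rwa [e] at h8
    have h9 : u * (z * (u * z * u⁻¹)) * u⁻¹ ∈ YY A := by
      rw [← h6]
      refine ⟨?_, ?_⟩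
      · have e : u * (z * (u * z * u⁻¹)) * u⁻¹ =
            (u * (z * (u * z * u⁻¹)) * u⁻¹ * (z * (u * z * u⁻¹))⁻¹) * (z * (u * z * u⁻¹)) := by group
        have h10 : YY A ≤ cj a (ZZ A B) := by
          rw [← h6]
          exact inf_le_left
        show _ ∈ cj a (ZZ A B)
        rw [e]
        exact Subgroup.mul_mem _ (h10 h4) haw
      · show _ ∈ cj (u * a) (ZZ A B)
        rw [cj_mul, conj_mem_cj]
        exact haw
    exact (Nm_conj_iff (le_Nm_YY A huA)).1 h9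
  · exact h1

theorem Mn.idx_QK (h : Mn A B) : (Op 3 A).relIndex (K A B) = 2 := by
  rcases h.idx_Q with h1 | h1
  · exfalso
    obtain ⟨k, hk, -, hk'⟩ := h.exists_k
    obtain ⟨z, hz, hzY⟩ := h.exists_Z_not
    have h2 : k ∈ Op 3 A := Subgroup.relIndex_eq_one.1 h1 hk
    have h3 := hk' z hz
    rw [← h.V_comm (h.Z_le_V hz) h2, mul_inv_cancel_right] at h3
    exact hzY (sq_mem hz.2.1 h3)
  · exact h1

theorem Mn.K_le_MM (h : Mn A B) : K A B ≤ MM A := by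
  obtain ⟨k, hk, hkM, hk'⟩ := h.exists_k
  obtain ⟨z, hz, hzY⟩ := h.exists_Z_not
  have hkQ : k ∉ Op 3 A := by
    intro h2
    have h3 := hk' z hz
    rw [← h.V_comm (h.Z_le_V hz) h2, mul_inv_cancel_right] at h3
    exact hzY (sq_mem hz.2.1 h3)
  have hQM : Op 3 A ≤ MM A := le_sup_left.trans (le_MM h.isSyl)
  intro x hx
  by_cases hxQ : x ∈ Op 3 A
  · exact hQM hxQ
  have h1 := two_mul_mem h.idx_QK (Subgroup.inv_mem _ hk) hx (fun h0 => hkQ (by simpa using Subgroup.inv_mem _ h0)) hxQ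
  have e : x = k * (k⁻¹ * x) := by group
  rw [e]
  exact Subgroup.mul_mem _ hkM (hQM h1)

/-- Elements of `K_A` outside `Q_A` invert `V / Y`. -/
theorem Mn.inv_V (h : Mn A B) {k v : G} (hk : k ∈ K A B) (hkQ : k ∉ Op 3 A) (hv : v ∈ VV A) :
    k * v * k⁻¹ * v ∈ YY A := by
  obtain ⟨k0, hk0, -, hk0'⟩ := h.exists_k
  obtain ⟨z0, hz0, hz0Y⟩ := h.exists_Z_not
  have hk0Q : k0 ∉ Op 3 A := by
    intro h2
    have h3 := hk0' z0 hz0
    rw [← h.V_comm (h.Z_le_V hz0) h2, mul_inv_cancel_right] at h3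
    exact hz0Y (sq_mem hz0.2.1 h3)
  -- for `z ∈ Z`
  have key : ∀ k ∈ K A B, k ∉ Op 3 A → ∀ z ∈ ZZ A B, k * z * k⁻¹ * z ∈ YY A := by
    intro k hk hkQ z hz
    have h1 := two_mul_mem h.idx_QK (Subgroup.inv_mem _ hk0) hk
      (fun h0 => hk0Q (by simpa using Subgroup.inv_mem _ h0)) hkQ
    have e : k = k0 * (k0⁻¹ * k) := by group
    have h2 : (k0⁻¹ * k) * z * (k0⁻¹ * k)⁻¹ = z := by
      rw [← h.V_comm (h.Z_le_V hz) h1, mul_inv_cancel_right]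
    have e2 : k * z * k⁻¹ * z = k0 * ((k0⁻¹ * k) * z * (k0⁻¹ * k)⁻¹) * k0⁻¹ * z := by group
    rw [e2, h2]
    exact hk0' z hz
  by_cases hvY : v ∈ YY A
  · exact Subgroup.mul_mem _ (Nm_conj (le_Nm_YY A (K_le_left A B hk)) hvY) hvY
  obtain ⟨a, ha, hva⟩ := h.cover hv hvY
  rw [mem_cj] at hva
  have h1 : a⁻¹ * k * a ∈ K A B := Nm_conj' (le_Nm_K A B ha) hk
  have h2 : a⁻¹ * k * a ∉ Op 3 A := by
    intro h2
    apply hkQ
    have := Nm_conj (le_Nm_Op 3 A ha) h2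
    have e : a * (a⁻¹ * k * a) * a⁻¹ = k := by group
    rwa [e] at this
  have h3 := key _ h1 h2 _ hva
  have h4 := Nm_conj (le_Nm_YY A ha) h3
  have e : a * (a⁻¹ * k * a * (a⁻¹ * v * a) * (a⁻¹ * k * a)⁻¹ * (a⁻¹ * v * a)) * a⁻¹ = k * v * k⁻¹ * v := by group
  rwa [e] at h4

theorem Mn.exists_KQ (h : Mn A B) : ∃ k ∈ K A B, k ∉ Op 3 A := by
  have h1 : ¬ K A B ≤ Op 3 A := by
    intro h1
    have h2 := h.idx_QK
    rw [Subgroup.relIndex_eq_one.2 h1] at h2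
    omega
  obtain ⟨z, hz, hz'⟩ := SetLike.not_le_iff_exists.1 h1
  exact ⟨z, hz, hz'⟩

theorem Mn.cent_Y (h : Mn A B) {k y : G} (hk : k ∈ K A B) (hy : y ∈ YY A) : k * y = y * k :=
  (mem_YY.1 hy).2 k (h.K_le_MM hk)

/-- `|K_A : L| = 6` -/
theorem Mn.idx_KK (h : Mn A B) : (K B A).relIndex (K A B) = 6 := by
  have h2 : (K B A).relIndex (K A B) = (K A B ⊓ K B A).relIndex (Op 3 A) * (Op 3 A).relIndex (K A B) := by
    rw [← Subgroup.inf_relIndex_left]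
    refine (Subgroup.relIndex_mul_relIndex _ _ _ ?_ h.Q_le).symm
    rw [h.L_eq]
    exact inf_le_left
  rw [h2, h.L_eq, h.idx_L, h.idx_QK]

theorem Mn.idx_KC' (h : Mn A B) : (K B A).relIndex (B ⊓ A) = 6 := by
  have h1 := h.toP3.symm.relIndex_N_dvd (K_le' B A) (C_le_Nm_K' B A) (h.toP3.not_le h.K_ne)
  rw [h.idx_KK] at h1
  rcases h.toP3.symm.relIndex_C with h2 | h2
  · rw [h2] at h1
    omega
  · exact h2

theorem Mn.idx_KC (h : Mn A B) : (K A B).relIndex (A ⊓ B) = 6 := h.symm.idx_KC'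

theorem Mn.idx_KA (h : Mn A B) : (K A B).relIndex A = 24 := by
  rw [← Subgroup.relIndex_mul_relIndex _ _ _ (K_le A B) inf_le_left, h.idx_KC, h.idx]

theorem Mn.card_A (h : Mn A B) : Nat.card A = 48 * Nat.card (Op 3 A) := by
  rw [← card_mul_relIndex (K_le_left A B), h.idx_KA, ← card_mul_relIndex h.Q_le, h.idx_QK]
  ring

theorem Mn.card_C (h : Mn A B) : Nat.card ↥(A ⊓ B) = 4 * Nat.card (SS A B) := by
  rw [← card_mul_relIndex (K_le A B), h.idx_KC, ← card_mul_relIndex h.Q_le, h.idx_QK, h.card_S]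
  ring

/-- Elements of `K_A` outside `Q_A` invert `Q_A / L`. -/
theorem Mn.inv_Q (h : Mn A B) {k q : G} (hk : k ∈ K A B) (hkQ : k ∉ Op 3 A) (hq : q ∈ Op 3 A) :
    k * q * k⁻¹ * q ∈ Op 3 A ⊓ Op 3 B := by
  have hkq : k * q * k⁻¹ * q ∈ Op 3 A := Subgroup.mul_mem _ (Nm_conj (le_Nm_Op 3 A (K_le_left A B hk)) hq) hq
  by_cases hqL : q ∈ Op 3 A ⊓ Op 3 B
  · refine ⟨hkq, Subgroup.mul_mem _ (Nm_conj (le_Nm_Op 3 B (K_le_right A B hk)) hqL.2) hqL.2⟩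
  rw [← h.L_eq] at hqL ⊢
  have hqK : q ∉ K B A := fun h0 => hqL ⟨h.Q_le hq, h0⟩
  refine ⟨h.Q_le hkq, ?_⟩
  have hL : ∀ x ∈ K A B, x ∈ K B A → x ∈ Op 3 A := by
    intro x hx hx'
    have : x ∈ K A B ⊓ K B A := ⟨hx, hx'⟩
    rw [h.L_eq] at this
    exact this.1
  refine h.toP3.symm.inverts (q := q) (t := k) ?_ ?_ ?_ hqK ?_ ?_ ?_
  · rw [inf_comm]
    exact h.Q_le_C hq
  · rw [inf_comm]
    exact K_le A B hk
  · -- `q ^ 3 ∈ L`
    have h1 := pow_relIndex_mem (H := Op 3 A ⊓ Op 3 B) (L := Op 3 A) ?_ hq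
    · rw [h.idx_L, ← h.L_eq] at h1
      exact h1.2
    · exact h.Q_le_C.trans (inf_le_Nm h.C_le_Nm_Q h.C_le_Nm_Q')
  · exact fun h0 => hkQ (hL k hk h0)
  · intro h0
    apply hkQ
    have h1 := hL _ (Subgroup.mul_mem _ hk (Subgroup.inv_mem _ (h.Q_le hq))) h0
    have := Subgroup.mul_mem _ h1 hq
    simpa using this
  · intro h0
    apply hkQ
    have h1 := hL _ (Subgroup.mul_mem _ hk (h.Q_le hq)) h0
    have := Subgroup.mul_mem _ h1 (Subgroup.inv_mem _ hq)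
    simpa using this

/-- Elements of `K_A` centralise `S / Q_A`. -/
theorem Mn.cent_SQ (h : Mn A B) {k s : G} (hk : k ∈ K A B) (hs : s ∈ SS A B) : k * s * k⁻¹ * s⁻¹ ∈ Op 3 A := by
  rw [SS, mul_mem_sup_iff (h.Q_le_C.trans h.C_le_Nm_Q')] at hs
  obtain ⟨q, hq, q', hq', rfl⟩ := hs
  have h1 := h.comm_mem hk hq'
  have e : k * (q * q') * k⁻¹ * (q * q')⁻¹ = (k * q * k⁻¹) * ((q' * k * q'⁻¹ * k⁻¹)⁻¹) * q⁻¹ := by group
  rw [e]
  exact Subgroup.mul_mem _ (Subgroup.mul_mem _ (Nm_conj (le_Nm_Op 3 A (K_le_left A B hk)) hq)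
    (Subgroup.inv_mem _ h1)) (Subgroup.inv_mem _ hq)

/-! ### `R = [V, S]` -/

/-- The elements of `Z` inverted by `K_A`. -/
def RR (A B : Subgroup G) : Subgroup G where
  carrier := {z | z ∈ ZZ A B ∧ ∀ k ∈ K A B, k ∉ Op 3 A → k * z * k⁻¹ = z⁻¹}
  one_mem' := ⟨Subgroup.one_mem _, by simp⟩
  mul_mem' := by
    rintro x y ⟨hx, hx'⟩ ⟨hy, hy'⟩
    refine ⟨Subgroup.mul_mem _ hx hy, fun k hk hkQ => ?_⟩
    have e : k * (x * y) * k⁻¹ = (k * x * k⁻¹) * (k * y * k⁻¹) := by group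
    rw [e, hx' k hk hkQ, hy' k hk hkQ, ← mul_inv_rev, hx.2.2 y (OZ_le _ hy)]
  inv_mem' := by
    rintro x ⟨hx, hx'⟩
    refine ⟨Subgroup.inv_mem _ hx, fun k hk hkQ => ?_⟩
    have e : k * x⁻¹ * k⁻¹ = (k * x * k⁻¹)⁻¹ := by group
    rw [e, hx' k hk hkQ]

theorem mem_RR {z : G} : z ∈ RR A B ↔ z ∈ ZZ A B ∧ ∀ k ∈ K A B, k ∉ Op 3 A → k * z * k⁻¹ = z⁻¹ := Iff.rfl

theorem RR_le : RR A B ≤ ZZ A B := fun _ h => h.1

theorem Mn.RR_inf_YY (h : Mn A B) : RR A B ⊓ YY A = ⊥ := by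
  rw [eq_bot_iff]
  rintro z ⟨hz, hzY⟩
  obtain ⟨k, hk, hkQ⟩ := h.exists_KQ
  have h1 := hz.2 k hk hkQ
  rw [h.cent_Y hk hzY, mul_inv_cancel_right] at h1
  have h2 : z * z ∈ (⊥ : Subgroup G) := by
    rw [Subgroup.mem_bot]
    nth_rewrite 1 [h1]
    exact inv_mul_cancel z
  exact sq_mem hz.1.2.1 h2

/-- `[V, S] ≤ R` -/
theorem Mn.comm_VS_RR (h : Mn A B) {v s : G} (hv : v ∈ VV A) (hs : s ∈ SS A B) : s * v * s⁻¹ * v⁻¹ ∈ RR A B := by
  have hcZ := h.comm_VS hv hs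
  refine ⟨hcZ, fun k hk hkQ => ?_⟩
  set c := s * v * s⁻¹ * v⁻¹ with hc
  have h1 := h.cent_SQ hk hs
  set q := k * s * k⁻¹ * s⁻¹ with hq
  have h2 := h.inv_V hk hkQ hv
  set y := k * v * k⁻¹ * v with hy
  have e1 : k * c * k⁻¹ = (q * s) * (y * v⁻¹) * (q * s)⁻¹ * (y * v⁻¹)⁻¹ := by
    rw [hc, hq, hy]
    group
  have hsy : s * y * s⁻¹ = y := by
    have := (mem_YY.1 h2).2 s (le_MM h.isSyl hs)
    rw [this, mul_inv_cancel_right]
  have hyV : y ∈ VV A := YY_le A h2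
  have hcV : c ∈ VV A := h.Z_le_V hcZ
  have e2 : s * (y * v⁻¹) * s⁻¹ = y * v⁻¹ * c⁻¹ := by
    have e3 : s * (y * v⁻¹) * s⁻¹ = (s * y * s⁻¹) * (v⁻¹ * c⁻¹) := by
      rw [hc]
      group
    rw [e3, hsy]
    exact (mul_assoc _ _ _).symm
  have h3 : y * v⁻¹ * c⁻¹ ∈ VV A :=
    Subgroup.mul_mem _ (Subgroup.mul_mem _ hyV (Subgroup.inv_mem _ hv)) (Subgroup.inv_mem _ hcV)
  have e4 : (q * s) * (y * v⁻¹) * (q * s)⁻¹ = y * v⁻¹ * c⁻¹ := by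
    have e5 : (q * s) * (y * v⁻¹) * (q * s)⁻¹ = q * (s * (y * v⁻¹) * s⁻¹) * q⁻¹ := by group
    rw [e5, e2, ← h.V_comm h3 h1, mul_inv_cancel_right]
  rw [e1, e4]
  have h4 := h.EA_V.comm _ (Subgroup.mul_mem _ hyV (Subgroup.inv_mem _ hv)) _ (Subgroup.inv_mem _ hcV)
  rw [h4, mul_inv_cancel_right]

theorem Mn.exists_comm_ne (h : Mn A B) {s : G} (hs : s ∈ SS A B) (hsQ : s ∉ Op 3 A) :
    ∃ v ∈ VV A, s * v * s⁻¹ * v⁻¹ ≠ 1 := by
  by_contra hcon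
  push Not at hcon
  apply hsQ
  refine h.mem_Q_of_cent hs fun v hv => ?_
  have := hcon v hv
  rw [mul_inv_eq_one, mul_inv_eq_iff_eq_mul] at this
  exact this.symm

theorem Mn.card_RR (h : Mn A B) : Nat.card (RR A B) = 3 := by
  have h1 := card_sup ((h.EA_V.mono h.Z_le_V).le_Nm (RR_le (A := A) (B := B)) h.YY_le_Z)
  rw [h.RR_inf_YY, Subgroup.card_bot, mul_one] at h1
  have h2 : Nat.card (RR A B ⊔ YY A : Subgroup G) ∣ Nat.card (ZZ A B) :=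
    Subgroup.card_dvd_of_le (sup_le RR_le h.YY_le_Z)
  rw [h1, h.card_Z] at h2
  have h3 : Nat.card (RR A B) ∣ 3 := Nat.dvd_of_mul_dvd_mul_right Nat.card_pos h2
  rcases (Nat.dvd_prime Nat.prime_three).1 h3 with h4 | h4
  · exfalso
    rw [Subgroup.card_eq_one] at h4
    obtain ⟨s, hs, hsQ⟩ := SetLike.not_le_iff_exists.1 (fun h0 : SS A B ≤ Op 3 A => h.Q_ne_Q (le_sup_right.trans h0))
    obtain ⟨v, hv, hv'⟩ := h.exists_comm_ne hs hsQ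
    have := h.comm_VS_RR hv hs
    rw [h4, Subgroup.mem_bot] at this
    exact hv' this
  · exact h4

end

end Cfsg.Agent.H399
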