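import Cfsg.Agent.H399.LocalC

/-!
# The case `|Y| = 1`: the critical distance is 1
-/

set_option autoImplicit false
set_option linter.unusedSectionVars false
set_option linter.unnecessarySeqFocus false

open Pointwise

namespace Cfsg.Agent.H399

variable {G : Type*} [Group G]

section

variable [Finite G] {A B : Subgroup G}

theorem Mn.idx_Z' (h : Mn A B) : (ZZ A B).relIndex (VV B) = 3 := by
  rw [ZZ_comm]
  exact h.symm.idx_Z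

theorem H2.Z_comm_S (_h : H2 A B) {z s : G} (hz : z ∈ ZZ A B) (hs : s ∈ SS A B) : z * s = s * z := hz.2.2 s hs

theorem H2.mem_Z_of (h : H2 A B) {v q : G} (hv : v ∈ VV B) (hq : q ∈ SS A B) (hqB : q ∉ Op 3 B)
    (hc : q * v = v * q) : v ∈ ZZ A B := by
  have hvS : v ∈ SS A B := by
    rw [SS_comm]
    exact (h.symm.V_le_Q.trans le_sup_left) hv
  refine ⟨hvS, h.symm.EA_V.exp v hv, ?_⟩
  have h1 : Op 3 B ⊔ Subgroup.zpowers q = SS A B := by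
    rw [SS_comm]
    refine h.symm.sup_eq_S ?_ ?_
    · rw [Subgroup.zpowers_le, SS_comm]
      exact hq
    · rw [Subgroup.zpowers_le]
      exact hqB
  have h2 : SS A B ≤ Subgroup.centralizer {v} := by
    rw [← h1]
    refine sup_le ?_ ?_
    · intro x hx
      rw [Subgroup.mem_centralizer_singleton_iff]
      exact (h.symm.V_comm hv hx).symm
    · rw [Subgroup.zpowers_le, Subgroup.mem_centralizer_singleton_iff]
      exact hc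
  intro y hy
  exact (Subgroup.mem_centralizer_singleton_iff.1 (h2 hy)).symm

theorem H2.exists_q (h : H2 A B) : ∃ q ∈ Op 3 A, q ∉ Op 3 B := by
  have h1 : ¬ Op 3 A ≤ Op 3 B := h.symm.Q_ne_Q
  obtain ⟨q, hq, hq'⟩ := SetLike.not_le_iff_exists.1 h1
  exact ⟨q, hq, hq'⟩

theorem Mn.sign_aux (h : Mn A B) {k v q : G} (hk : k ∈ K A B) (hkQ : k ∉ Op 3 A) (hv : v ∈ VV B) (hq : q ∈ Op 3 A) :
    (k * v * k⁻¹ * v ∈ ZZ A B → k * (q * v * q⁻¹ * v⁻¹) * k⁻¹ = q * v * q⁻¹ * v⁻¹) ∧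
    (k * v * k⁻¹ * v⁻¹ ∈ ZZ A B → k * (q * v * q⁻¹ * v⁻¹) * k⁻¹ = (q * v * q⁻¹ * v⁻¹)⁻¹) := by
  have hqS : q ∈ SS A B := Subgroup.mem_sup_left hq
  have hl := h.inv_Q hk hkQ hq
  set l := k * q * k⁻¹ * q with hldef
  have hvS : v ∈ SS A B := by
    rw [SS_comm]
    exact (h.symm.V_le_Q.trans le_sup_left) hv
  have hr : q * v * q⁻¹ * v⁻¹ ∈ ZZ A B := by
    have := h.symm.comm_VS hv (SS_comm A B ▸ hqS)
    rwa [ZZ_comm] at this
  set r := q * v * q⁻¹ * v⁻¹ with hrdef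
  have hqv : q⁻¹ * v * q = r⁻¹ * v := by
    have e1 : q⁻¹ * v * q = q⁻¹ * (r⁻¹ * q) * v * q⁻¹ * q := by
      rw [hrdef]
      group
    have e2 : r⁻¹ * q = q * r⁻¹ := h.Z_comm_S (Subgroup.inv_mem _ hr) hqS
    rw [e1, e2]
    group
  have hlS : l ∈ SS A B := Subgroup.mem_sup_left hl.1
  have hlv : ∀ w ∈ VV B, l * w * l⁻¹ = w := by
    intro w hw
    rw [← h.symm.V_comm hw hl.2, mul_inv_cancel_right]
  have hqvB : q⁻¹ * v * q ∈ VV B := by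
    have hqB : q ∈ B := (h.Q_le_C hq).2
    exact Nm_conj' (le_Nm_VV B hqB) hv
  constructor
  · intro hz
    set z := k * v * k⁻¹ * v with hzdef
    have e1 : k * r * k⁻¹ = (l * q⁻¹) * (z * v⁻¹) * (l * q⁻¹)⁻¹ * (z * v⁻¹)⁻¹ := by
      rw [hrdef, hldef, hzdef]
      group
    have hz1 : z * (l * q⁻¹) = (l * q⁻¹) * z :=
      h.Z_comm_S hz (Subgroup.mul_mem _ hlS (Subgroup.inv_mem _ hqS))
    have e2 : (l * q⁻¹) * (z * v⁻¹) * (l * q⁻¹)⁻¹ * (z * v⁻¹)⁻¹ =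
        z * ((l * q⁻¹) * v⁻¹ * (l * q⁻¹)⁻¹ * v) * z⁻¹ := by
      rw [← mul_assoc (l * q⁻¹) z, ← hz1]
      group
    have e3 : (l * q⁻¹) * v⁻¹ * (l * q⁻¹)⁻¹ * v = (l * (q⁻¹ * v * q) * l⁻¹)⁻¹ * v := by group
    have e4 : z * (v⁻¹ * r⁻¹⁻¹ * v) * z⁻¹ = r := by
      have h1 : v⁻¹ * r * v = r := by
        rw [mul_assoc, h.Z_comm_S hr hvS, inv_mul_cancel_left]
      rw [inv_inv, h1, ← h.Z_comm_S hr (OZ_le _ hz), mul_inv_cancel_right]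
    rw [e1, e2, e3, hlv _ hqvB, hqv, mul_inv_rev]
    exact e4
  · intro hz
    set z := k * v * k⁻¹ * v⁻¹ with hzdef
    have e1 : k * r * k⁻¹ = (l * q⁻¹) * (z * v) * (l * q⁻¹)⁻¹ * (z * v)⁻¹ := by
      rw [hrdef, hldef, hzdef]
      group
    have hz1 : z * (l * q⁻¹) = (l * q⁻¹) * z :=
      h.Z_comm_S hz (Subgroup.mul_mem _ hlS (Subgroup.inv_mem _ hqS))
    have e2 : (l * q⁻¹) * (z * v) * (l * q⁻¹)⁻¹ * (z * v)⁻¹ =
        z * ((l * q⁻¹) * v * (l * q⁻¹)⁻¹ * v⁻¹) * z⁻¹ := by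
      rw [← mul_assoc (l * q⁻¹) z, ← hz1]
      group
    have e3 : (l * q⁻¹) * v * (l * q⁻¹)⁻¹ * v⁻¹ = (l * (q⁻¹ * v * q) * l⁻¹) * v⁻¹ := by group
    rw [e1, e2, e3, hlv _ hqvB, hqv, mul_inv_cancel_right,
      ← h.Z_comm_S (Subgroup.inv_mem _ hr) (OZ_le _ hz), mul_inv_cancel_right]

theorem eq_one_of_inv {r : G} (h3 : r ^ 3 = 1) (h : r = r⁻¹) : r = 1 := by
  have h2 : r * r = 1 := by
    nth_rewrite 1 [h]
    exact inv_mul_cancel r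
  have h4 : r ^ 3 = r * r * r := by
    simp only [pow_succ, pow_zero, one_mul]
  rw [h4, h2, one_mul] at h3
  exact h3

theorem H2.commr_ne (h : H2 A B) {v q : G} (hv : v ∈ VV B) (hvZ : v ∉ ZZ A B) (hq : q ∈ Op 3 A) (hqB : q ∉ Op 3 B) :
    q * v * q⁻¹ * v⁻¹ ≠ 1 := by
  intro h1
  rw [mul_inv_eq_one, mul_inv_eq_iff_eq_mul] at h1
  exact hvZ (h.mem_Z_of hv (Subgroup.mem_sup_left hq) hqB h1)

/-- (S3a) -/
theorem Mn.sign_one (h : Mn A B) (h1 : Nat.card (YY A) = 1) {k v : G} (hk : k ∈ K A B) (hkQ : k ∉ Op 3 A)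
    (hv : v ∈ VV B) : k * v * k⁻¹ * v⁻¹ ∈ ZZ A B := by
  have hkZ := h.C_le_Nm_Z (K_le A B hk)
  by_cases hvZ : v ∈ ZZ A B
  · exact Subgroup.mul_mem _ (Nm_conj hkZ hvZ) (Subgroup.inv_mem _ hvZ)
  obtain ⟨q, hq, hqB⟩ := h.exists_q
  have hkB : k ∈ Nm (VV B) := le_Nm_VV B (K_le_right A B hk)
  rcases h.symm.EA_V.tri h.Z_le_V' h.idx_Z' hv hvZ (Nm_conj hkB hv) with h2 | h2 | h2
  · exact absurd ((Nm_conj_iff hkZ).1 h2) hvZ
  · exact h2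
  · exfalso
    have h3 := (h.sign_aux hk hkQ hv hq).1 h2
    have hqS : q ∈ SS B A := by
      rw [SS_comm]
      exact Subgroup.mem_sup_left hq
    have hr : q * v * q⁻¹ * v⁻¹ ∈ ZZ A B := by
      have := h.symm.comm_VS hv hqS
      rwa [ZZ_comm] at this
    have h4 := hr
    rw [← h.RR_eq_ZZ h1] at h4
    rw [h4.2 k hk hkQ] at h3
    exact h.commr_ne hv hvZ hq hqB (eq_one_of_inv hr.2.1 h3.symm)

/-- (S3b) -/
theorem Mn.sign_three (h : Mn A B) (h1 : Nat.card (YY A) = 3) {k v : G} (hk : k ∈ K A B) (hkQ : k ∉ Op 3 A)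
    (hv : v ∈ VV B) : k * v * k⁻¹ * v ∈ ZZ A B := by
  have hkZ := h.C_le_Nm_Z (K_le A B hk)
  by_cases hvZ : v ∈ ZZ A B
  · exact Subgroup.mul_mem _ (Nm_conj hkZ hvZ) hvZ
  obtain ⟨q, hq, hqB⟩ := h.exists_q
  have hkB : k ∈ Nm (VV B) := le_Nm_VV B (K_le_right A B hk)
  rcases h.symm.EA_V.tri h.Z_le_V' h.idx_Z' hv hvZ (Nm_conj hkB hv) with h2 | h2 | h2
  · exact absurd ((Nm_conj_iff hkZ).1 h2) hvZ
  · exfalso
    have h3 := (h.sign_aux hk hkQ hv hq).2 h2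
    have hqS : q ∈ SS B A := by
      rw [SS_comm]
      exact Subgroup.mem_sup_left hq
    have hr : q * v * q⁻¹ * v⁻¹ ∈ RR B A := h.symm.comm_VS_RR hv hqS
    have h5 : (q * v * q⁻¹ * v⁻¹) ^ 3 = 1 := hr.1.2.1
    rw [h.symm.RR_eq_YY (h.symm_card_YY h1)] at hr
    rw [h.cent_Y hk hr, mul_inv_cancel_right] at h3
    exact h.commr_ne hv hvZ hq hqB (eq_one_of_inv h5 h3)
  · exact h2

theorem H2.inf_Nm_Z (h : H2 A B) : A ⊓ Nm (ZZ A B) = A ⊓ B := by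
  rcases h.eq_or_eq (M := A ⊓ Nm (ZZ A B)) (le_inf inf_le_left h.C_le_Nm_Z) inf_le_left with h3 | h3
  · exact h3
  · exact absurd (h3.symm.le.trans inf_le_right) h.not_le_Nm_Z

/-- no critical pairs at distance 2 if `|Y| = 1` -/
theorem Mn.no_two (h1 : Nat.card (YY A) = 1) {X Y : Subgroup G} (hX : Mn A X) (hY : Mn A Y)
    (hXA : VV X ≤ Op 3 A) (hYA : VV Y ≤ Op 3 A) : VV X ≤ Op 3 Y := by
  by_contra hcon
  have e := RR_eq_RR hX.symm hY.symm hXA hYA hcon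
  rw [hX.symm.RR_eq_ZZ (hX.symm_card_YY h1), hY.symm.RR_eq_ZZ (hY.symm_card_YY h1), ZZ_comm X, ZZ_comm Y] at e
  have hC : A ⊓ X = A ⊓ Y := by rw [← hX.inf_Nm_Z, e, hY.inf_Nm_Z]
  have hK : K A X = K A Y := by rw [K, hC]
  obtain ⟨k, hk, hkQ⟩ := hX.exists_KQ
  apply hcon
  intro x hx
  refine hY.symm.mem_Q_of_cent (hXA.trans le_sup_right hx) fun y hy => ?_
  by_contra hne
  have hc : x * y * x⁻¹ * y⁻¹ ≠ 1 := by
    intro h0
    rw [mul_inv_eq_one, mul_inv_eq_iff_eq_mul] at h0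
    exact hne h0.symm
  have hx' := hX.sign_one h1 hk hkQ hx
  have hy' := hY.sign_one h1 (hK ▸ hk) hkQ hy
  rw [← e] at hy'
  have hcZ : x * y * x⁻¹ * y⁻¹ ∈ ZZ A X := by
    have := hY.symm.comm_VS hy (hXA.trans le_sup_right hx)
    rw [ZZ_comm, ← e] at this
    exact this
  have h2 : k * (x * y * x⁻¹ * y⁻¹) * k⁻¹ = (x * y * x⁻¹ * y⁻¹)⁻¹ := by
    have := hcZ
    rw [← hX.RR_eq_ZZ h1] at this
    exact this.2 k hk hkQ
  set z := k * x * k⁻¹ * x⁻¹ with hz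
  set z' := k * y * k⁻¹ * y⁻¹ with hz'
  have hQ : ∀ z ∈ ZZ A X, ∀ q ∈ Op 3 A, z * q = q * z := fun z hz q hq => hz.2.2 q (Subgroup.mem_sup_left hq)
  have h3 : k * (x * y * x⁻¹ * y⁻¹) * k⁻¹ = (z * x) * (z' * y) * (z * x)⁻¹ * (z' * y)⁻¹ := by
    rw [hz, hz']
    group
  have c1 : z * x = x * z := hQ z hx' x (hXA hx)
  have c2 : z * y = y * z := hQ z hx' y (hYA hy)
  have c3 : z' * x = x * z' := hQ z' hy' x (hXA hx)
  have c4 : z' * y = y * z' := hQ z' hy' y (hYA hy)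
  have c5 : z' * z = z * z' := hQ z' hy' z (hX.Z_le_Q hx')
  have h4 : (z * x) * (z' * y) * (z * x)⁻¹ * (z' * y)⁻¹ = x * y * x⁻¹ * y⁻¹ := by
    have hz1 : z * (x * (z' * y)) = (x * (z' * y)) * z := by
      rw [← mul_assoc, c1, mul_assoc, ← mul_assoc z, ← c5, mul_assoc z', c2]
      simp only [mul_assoc]
    have hz2 : z' * (x * y * x⁻¹) = (x * y * x⁻¹) * z' := by
      have h6 : x * y * x⁻¹ ∈ Op 3 A :=
        Subgroup.mul_mem _ (Subgroup.mul_mem _ (hXA hx) (hYA hy)) (Subgroup.inv_mem _ (hXA hx))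
      exact hQ z' hy' _ h6
    calc (z * x) * (z' * y) * (z * x)⁻¹ * (z' * y)⁻¹
        = (z * (x * (z' * y))) * (x⁻¹ * z⁻¹) * (y⁻¹ * z'⁻¹) := by group
      _ = ((x * (z' * y)) * z) * (x⁻¹ * z⁻¹) * (y⁻¹ * z'⁻¹) := by rw [hz1]
      _ = (x * z') * y * (z * x⁻¹ * z⁻¹) * (y⁻¹ * z'⁻¹) := by group
      _ = (z' * x) * y * x⁻¹ * (y⁻¹ * z'⁻¹) := by
        have : z * x⁻¹ * z⁻¹ = x⁻¹ := by
          rw [hQ z hx' x⁻¹ (Subgroup.inv_mem _ (hXA hx)), mul_inv_cancel_right]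
        rw [this, c3]
      _ = (z' * (x * y * x⁻¹)) * y⁻¹ * z'⁻¹ := by group
      _ = ((x * y * x⁻¹) * z') * y⁻¹ * z'⁻¹ := by rw [hz2]
      _ = (x * y * x⁻¹) * (z' * y⁻¹ * z'⁻¹) := by group
      _ = x * y * x⁻¹ * y⁻¹ := by
        have : z' * y⁻¹ * z'⁻¹ = y⁻¹ := by
          rw [hQ z' hy' y⁻¹ (Subgroup.inv_mem _ (hYA hy)), mul_inv_cancel_right]
        rw [this]
  rw [h3, h4] at h2
  exact hc (eq_one_of_inv hcZ.2.1 h2)

end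

end Cfsg.Agent.H399
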