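import Cfsg.Agent.H399.LocalD

/-!
# The case `|Y| = 1`: the critical distance is 1, second part
-/

set_option autoImplicit false
set_option linter.unusedSectionVars false
set_option linter.unnecessarySeqFocus false

open Pointwise

namespace Cfsg.Agent.H399

variable {G : Type*} [Group G]

theorem key_usu1 : ∀ σ : Equiv.Perm (Fin 4), (σ 0 = 0 ∧ σ ≠ 1 ∧ σ ^ 3 = 1) → ∀ τ : Equiv.Perm (Fin 4),
    (τ * τ = 1 ∧ ∀ j, τ j ≠ j) → ∃ i : Fin 3, (σ * σ * τ)⁻¹ * (τ * σ * τ) = σ ^ (i : ℕ) := by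
  decide +kernel

theorem key_usu2 : ∀ σ : Equiv.Perm (Fin 4), (σ 0 = 0 ∧ σ ≠ 1 ∧ σ ^ 3 = 1) → ∀ τ : Equiv.Perm (Fin 4),
    (τ * τ = 1 ∧ ∀ j, τ j ≠ j) → ∃ i : Fin 3, (σ * τ)⁻¹ * (τ * σ * σ * τ) = σ ^ (i : ℕ) := by
  decide +kernel

theorem Hom4.usu {A C : Subgroup G} {φ : ↥A →* Equiv.Perm (Fin 4)} (h : Hom4 A C φ) (hCA : C ≤ A) {s u : G}
    (hs : s ∈ C) (h3 : s ^ 3 ∈ core A C) (hsK : s ∉ core A C) (hu : u ∈ A) (hu2 : u * u ∈ core A C)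
    (hfix : ∀ a ∈ A, a⁻¹ * u * a ∉ C) :
    (∃ i : Fin 3, (s * s * u)⁻¹ * (u * s * u) * (s ^ (i : ℕ))⁻¹ ∈ core A C) ∧
    (∃ i : Fin 3, (s * u)⁻¹ * (u * s * s * u) * (s ^ (i : ℕ))⁻¹ ∈ core A C) := by
  have hsA := hCA hs
  have k1 : φ ⟨s, hsA⟩ 0 = 0 := (h.stab _).1 hs
  have k2 : φ ⟨s, hsA⟩ ≠ 1 := fun h0 => hsK ((h.ker ⟨s, hsA⟩).2 h0)
  have k3 : φ ⟨s, hsA⟩ ^ 3 = 1 := by
    rw [← map_pow]
    exact (h.ker ⟨s ^ 3, A.pow_mem hsA 3⟩).1 h3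
  have k4 : φ ⟨u, hu⟩ * φ ⟨u, hu⟩ = 1 := by
    rw [← map_mul]
    exact (h.ker ⟨u * u, A.mul_mem hu hu⟩).1 hu2
  have k5 : ∀ j, φ ⟨u, hu⟩ j ≠ j := by
    intro j hj
    obtain ⟨a, ha, haj⟩ := h.trans j
    apply hfix a ha
    have hmem : a⁻¹ * u * a ∈ A := A.mul_mem (A.mul_mem (A.inv_mem ha) hu) ha
    rw [h.stab ⟨_, hmem⟩]
    have e : φ ⟨a⁻¹ * u * a, hmem⟩ = (φ ⟨a, ha⟩)⁻¹ * φ ⟨u, hu⟩ * φ ⟨a, ha⟩ := by
      rw [← map_inv, ← map_mul, ← map_mul]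
      rfl
    rw [e, Equiv.Perm.mul_apply, Equiv.Perm.mul_apply, Equiv.Perm.inv_eq_iff_eq, haj, hj]
  obtain ⟨i, hi⟩ := key_usu1 _ ⟨k1, k2, k3⟩ _ ⟨k4, k5⟩
  obtain ⟨j, hj⟩ := key_usu2 _ ⟨k1, k2, k3⟩ _ ⟨k4, k5⟩
  refine ⟨⟨i, ?_⟩, ⟨j, ?_⟩⟩
  · have hmem : (s * s * u)⁻¹ * (u * s * u) * (s ^ (i : ℕ))⁻¹ ∈ A :=
      A.mul_mem (A.mul_mem (A.inv_mem (A.mul_mem (A.mul_mem hsA hsA) hu)) (A.mul_mem (A.mul_mem hu hsA) hu))
        (A.inv_mem (A.pow_mem hsA _))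
    rw [h.ker ⟨_, hmem⟩]
    have e : φ ⟨(s * s * u)⁻¹ * (u * s * u) * (s ^ (i : ℕ))⁻¹, hmem⟩ =
        (φ ⟨s, hsA⟩ * φ ⟨s, hsA⟩ * φ ⟨u, hu⟩)⁻¹ * (φ ⟨u, hu⟩ * φ ⟨s, hsA⟩ * φ ⟨u, hu⟩) *
          (φ ⟨s, hsA⟩ ^ (i : ℕ))⁻¹ := by
      rw [← map_pow, ← map_inv, ← map_mul, ← map_mul, ← map_mul, ← map_mul, ← map_inv, ← map_mul, ← map_mul]
      rfl
    rw [e, hi, mul_inv_cancel]
  · have hmem : (s * u)⁻¹ * (u * s * s * u) * (s ^ (j : ℕ))⁻¹ ∈ A :=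
      A.mul_mem (A.mul_mem (A.inv_mem (A.mul_mem hsA hu)) (A.mul_mem (A.mul_mem (A.mul_mem hu hsA) hsA) hu))
        (A.inv_mem (A.pow_mem hsA _))
    rw [h.ker ⟨_, hmem⟩]
    have e : φ ⟨(s * u)⁻¹ * (u * s * s * u) * (s ^ (j : ℕ))⁻¹, hmem⟩ =
        (φ ⟨s, hsA⟩ * φ ⟨u, hu⟩)⁻¹ * (φ ⟨u, hu⟩ * φ ⟨s, hsA⟩ * φ ⟨s, hsA⟩ * φ ⟨u, hu⟩) *
          (φ ⟨s, hsA⟩ ^ (j : ℕ))⁻¹ := by
      rw [← map_pow, ← map_inv, ← map_mul, ← map_mul, ← map_mul, ← map_mul, ← map_inv, ← map_mul, ← map_mul]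
      rfl
    rw [e, hj, mul_inv_cancel]

theorem shuffle {W : Subgroup G} (hW : ∀ x ∈ W, ∀ y ∈ W, x * y = y * x) {a b c d e f : G} (hb : b ∈ W)
    (hc : c ∈ W) (hd : d ∈ W) (he : e ∈ W) : (a * b) * (c * d) * (e * f) = (a * c * e) * (b * d * f) := by
  have h1 : b * c = c * b := hW b hb c hc
  have h2 : b * d * e = e * (b * d) := hW _ (W.mul_mem hb hd) e he
  calc (a * b) * (c * d) * (e * f) = a * (b * c) * d * e * f := by simp only [mul_assoc]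
    _ = a * c * (b * d * e) * f := by rw [h1]; simp only [mul_assoc]
    _ = (a * c * e) * (b * d * f) := by rw [h2]; simp only [mul_assoc]

theorem EA_ncl {A V : Subgroup G} (hV : EA V) (hc : ∀ a ∈ A, ∀ v ∈ V, ∀ w ∈ cj a V, v * w = w * v) :
    EA (ncl A V) := by
  have key : ∀ a ∈ A, ∀ y ∈ cj a V, ∀ z ∈ ncl A V, y * z = z * y := by
    intro a ha y hy z hz
    have h1 : ncl A V ≤ Subgroup.centralizer {y} := by
      refine ncl_le' fun b hb => ?_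
      intro w hw
      rw [Subgroup.mem_centralizer_singleton_iff]
      have h2 : a⁻¹ * w * a ∈ cj (a⁻¹ * b) V := by
        rw [cj_mul, mem_cj (X := cj b V)]
        have : a⁻¹⁻¹ * (a⁻¹ * w * a) * a⁻¹ = w := by group
        rw [this]
        exact hw
      have h3 := hc _ (A.mul_mem (A.inv_mem ha) hb) _ (mem_cj.1 hy) _ h2
      have e : y * w = a * (a⁻¹ * y * a * (a⁻¹ * w * a)) * a⁻¹ := by group
      have e' : w * y = a * (a⁻¹ * w * a * (a⁻¹ * y * a)) * a⁻¹ := by group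
      rw [e, e', h3]
    exact (Subgroup.mem_centralizer_singleton_iff.1 (h1 hz)).symm
  have h2 : ncl A V ≤ OZ (ncl A V) := by
    refine ncl_le' fun a ha y hy => ⟨cj_le_ncl ha hy, (hV.cjBy a).exp y hy, fun z hz => key a ha y hy z hz⟩
  exact (EA_OZ _).mono h2

theorem eq_of_card_three {R : Subgroup G} (hR : Nat.card R = 3) {c : G} (hc : c ∈ R) (hc1 : c ≠ 1) :
    Subgroup.zpowers c = R := by
  have : Finite R := Nat.finite_of_card_ne_zero (by rw [hR]; norm_num)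
  refine Subgroup.eq_of_le_of_card_ge (by rwa [Subgroup.zpowers_le]) ?_
  have h7 : Nat.card (Subgroup.zpowers c) ∣ Nat.card R :=
    Subgroup.card_dvd_of_le (by rwa [Subgroup.zpowers_le])
  rw [hR] at h7 ⊢
  rcases (Nat.dvd_prime Nat.prime_three).1 h7 with h8 | h8
  · rw [Nat.card_zpowers, orderOf_eq_one_iff] at h8
    exact absurd h8 hc1
  · rw [h8]

section

variable [Finite G] {A B : Subgroup G}

theorem H2.pow_three_mem (h : H2 A B) {s : G} (hs : s ∈ SS A B) : s ^ 3 ∈ Op 3 A := by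
  have := pow_relIndex_mem (H := Op 3 A) (L := SS A B) h.S_le_Nm_Q hs
  rwa [h.idx_QS] at this

theorem H2.V_le_B (h : H2 A B) : VV A ≤ B := h.V_le_Q.trans (h.Q_le_C.trans inf_le_right)

theorem Mn.Tv_le (h : Mn A B) (h1 : Nat.card (YY A) = 1) {v : G} (hv : v ∈ VV B) :
    K A B ⊔ SS A B ≤ Tv (VV B) (ZZ A B) v := by
  have hS : ∀ s ∈ SS A B, s ∈ Tv (VV B) (ZZ A B) v := by
    intro s hs
    refine ⟨le_Nm_VV B (h.S_le hs).2, h.C_le_Nm_Z (h.S_le hs), ?_⟩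
    have hs' : s ∈ SS B A := by
      rw [SS_comm]
      exact hs
    have := h.symm.comm_VS hv hs'
    rwa [ZZ_comm] at this
  refine sup_le ?_ hS
  intro k hk
  by_cases hkQ : k ∈ Op 3 A
  · exact hS k (Subgroup.mem_sup_left hkQ)
  · exact ⟨le_Nm_VV B (K_le_right A B hk), h.C_le_Nm_Z (K_le A B hk), h.sign_one h1 hk hkQ hv⟩

theorem H2.V_le_ncl (h : H2 A B) : VV A ≤ ncl A (VV B) := by
  rw [h.VV_eq]
  refine ncl_le (h.Z_le_V'.trans (le_ncl _ _)) (le_Nm_ncl _ _)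

/-- no quadratic action on `⟨V_B^A⟩` if the latter is abelian and `|Y| = 1`. -/
theorem Mn.no_quad (h : Mn A B) (h1 : Nat.card (YY A) = 1) (hW : EA (ncl A (VV B))) {s : G} (hs : s ∈ SS A B)
    (hsQ : s ∉ Op 3 A) (hq : ∀ w ∈ ncl A (VV B), s * (s * w * s⁻¹ * w⁻¹) * s⁻¹ = s * w * s⁻¹ * w⁻¹) : False := by
  obtain ⟨u, hu, huA, huK, hufix⟩ := h.exists_dt h.S_le h.C_le_Nm_S h.S_not_le_K
  obtain ⟨φ, hφ⟩ := h.hom
  have hsC := h.S_le hs
  have hsK : s ∉ K A B := fun h0 => hsQ (h.S_inf_K ⟨hs, h0⟩)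
  obtain ⟨⟨i, hi⟩, ⟨j, hj⟩⟩ := hφ.usu inf_le_left hsC (h.Q_le (h.pow_three_mem hs)) hsK huA huK hufix
  have huC : u ∉ A ⊓ B := by
    have := hufix 1 A.one_mem
    simpa using this
  set W := ncl A (VV B) with hWdef
  have hAW : A ≤ Nm W := le_Nm_ncl _ _
  have hsA : s ∈ A := hsC.1
  -- the key relation
  have key : ∀ v ∈ VV B, v * (u * v * u⁻¹)⁻¹ ∈ VV A := by
    intro v hv
    have hTv := h.Tv_le h1 hv
    have hvW : v ∈ W := le_ncl _ _ hv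
    set w := u * v * u⁻¹ with hwdef
    have hwW : w ∈ W := Nm_conj (hAW huA) hvW
    set p := s * w * s⁻¹ with hp
    have hpW : p ∈ W := Nm_conj (hAW hsA) hwW
    set r := s * s * w * (s * s)⁻¹ with hr
    have hrW : r ∈ W := Nm_conj (hAW (A.mul_mem hsA hsA)) hwW
    -- r * p * w = 1
    have h2 : r * p⁻¹ = p * w⁻¹ := by
      have e1 : s * (s * w * s⁻¹ * w⁻¹) * s⁻¹ = r * p⁻¹ := by
        rw [hr, hp]
        group
      rw [← e1, hq w hwW]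
    have h3 : r * p * w = 1 := by
      have e1 : r = p * w⁻¹ * p := by rw [← h2, inv_mul_cancel_right]
      have e2 : p * w⁻¹ * p * p * w = p ^ 3 := by
        have e3 : w⁻¹ * (p * p) = (p * p) * w⁻¹ := hW.comm _ (W.inv_mem hwW) _ (W.mul_mem hpW hpW)
        calc p * w⁻¹ * p * p * w = p * (w⁻¹ * (p * p)) * w := by simp only [mul_assoc]
          _ = p ^ 3 := by
            rw [e3]
            simp only [pow_succ, pow_zero, one_mul, mul_assoc, inv_mul_cancel, mul_one]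
      rw [e1, e2, hW.exp p hpW]
    -- conjugation by u
    set c := (s * s * u)⁻¹ * (u * s * u) with hc
    set d := (s * u)⁻¹ * (u * s * s * u) with hd
    have hcT : c ∈ Tv (VV B) (ZZ A B) v := by
      apply hTv
      have e : c = (c * (s ^ (i : ℕ))⁻¹) * s ^ (i : ℕ) := by group
      rw [e]
      exact Subgroup.mul_mem _ (Subgroup.mem_sup_left hi) (Subgroup.mem_sup_right (Subgroup.pow_mem _ hs _))
    have hdT : d ∈ Tv (VV B) (ZZ A B) v := by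
      apply hTv
      have e : d = (d * (s ^ (j : ℕ))⁻¹) * s ^ (j : ℕ) := by group
      rw [e]
      exact Subgroup.mul_mem _ (Subgroup.mem_sup_left hj) (Subgroup.mem_sup_right (Subgroup.pow_mem _ hs _))
    have huT : u * u ∈ Tv (VV B) (ZZ A B) v := hTv (Subgroup.mem_sup_left huK)
    have hVA : ∀ x ∈ A, ∀ z ∈ ZZ A B, x * z * x⁻¹ ∈ VV A := fun x hx z hz =>
      Nm_conj (le_Nm_VV A hx) (h.Z_le_V hz)
    have hssu : s * s * u ∈ A := A.mul_mem (A.mul_mem hsA hsA) huA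
    have hsu : s * u ∈ A := A.mul_mem hsA huA
    have e1 : u * p * u⁻¹ = ((s * s * u) * (c * v * c⁻¹ * v⁻¹) * (s * s * u)⁻¹) * r := by
      rw [hp, hr, hc, hwdef]
      group
    have e2 : u * r * u⁻¹ = ((s * u) * (d * v * d⁻¹ * v⁻¹) * (s * u)⁻¹) * p := by
      rw [hp, hr, hd, hwdef]
      group
    have e3 : u * w * u⁻¹ = ((u * u) * v * (u * u)⁻¹ * v⁻¹) * v := by
      rw [hwdef]
      group
    have hy1 := hVA _ hssu _ hcT.2.2
    have hy2 := hVA _ hsu _ hdT.2.2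
    have hy3 := h.Z_le_V huT.2.2
    set y1 := (s * s * u) * (c * v * c⁻¹ * v⁻¹) * (s * s * u)⁻¹
    set y2 := (s * u) * (d * v * d⁻¹ * v⁻¹) * (s * u)⁻¹
    set y3 := (u * u) * v * (u * u)⁻¹ * v⁻¹
    have h4 : (y2 * p) * (y1 * r) * (y3 * v) = 1 := by
      rw [← e1, ← e2, ← e3]
      have e4 : u * r * u⁻¹ * (u * p * u⁻¹) * (u * w * u⁻¹) = u * (r * p * w) * u⁻¹ := by group
      rw [e4, h3]
      group
    have hVW : VV A ≤ W := h.V_le_ncl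
    rw [shuffle hW.comm hpW (hVW hy1) hrW (hVW hy3)] at h4
    have h5 : p * r * v = v * w⁻¹ := by
      have e5 : w⁻¹ = r * p := by rw [← mul_eq_one_iff_inv_eq']; exact h3
      rw [e5, hW.comm r hrW p hpW]
      exact hW.comm _ (W.mul_mem hpW hrW) v hvW
    rw [h5] at h4
    rw [← mul_eq_one_iff_inv_eq.1 h4]
    exact Subgroup.inv_mem _ (Subgroup.mul_mem _ (Subgroup.mul_mem _ hy2 hy1) hy3)
  -- A normalises V_A V_B
  have hN : A ≤ Nm (VV A ⊔ VV B) := by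
    have h2 : u ∈ Nm (VV A ⊔ VV B) := by
      rw [mem_Nm]
      refine Subgroup.eq_of_le_of_card_ge ?_ (by rw [card_cj])
      rw [cj_sup, cj_of_mem_Nm (le_Nm_VV A huA)]
      refine sup_le le_sup_left ?_
      intro x hx
      have h3 := key _ (mem_cj.1 hx)
      have e : u * (u⁻¹ * x * u) * u⁻¹ = x := by group
      rw [e] at h3
      have e2 : x = (u⁻¹ * x * u * x⁻¹)⁻¹ * (u⁻¹ * x * u) := by group
      rw [e2]
      exact Subgroup.mul_mem _ (Subgroup.inv_mem _ (Subgroup.mem_sup_left h3)) (Subgroup.mem_sup_right (mem_cj.1 hx))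
    have h3 : A ⊓ B ≤ Nm (VV A ⊔ VV B) :=
      sup_le_Nm (inf_le_left.trans (le_Nm_VV A)) (inf_le_right.trans (le_Nm_VV B))
    rcases h.eq_or_eq (M := A ⊓ Nm (VV A ⊔ VV B)) (le_inf inf_le_left h3) inf_le_left with h4 | h4
    · exact absurd (h4 ▸ (⟨huA, h2⟩ : u ∈ A ⊓ Nm (VV A ⊔ VV B))) huC
    · exact h4.symm.le.trans inf_le_right
  -- contradiction
  have hcomm : ∀ q ∈ Op 3 A, ∀ x ∈ VV A ⊔ VV B, q * x * q⁻¹ * x⁻¹ ∈ ZZ A B := by
    intro q hq x hx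
    rw [mul_mem_sup_iff (h.V_le_B.trans (le_Nm_VV B))] at hx
    obtain ⟨a, ha, b, hb, rfl⟩ := hx
    have e1 : q * (a * b) * q⁻¹ * (a * b)⁻¹ = a * (q * b * q⁻¹ * b⁻¹) * a⁻¹ := by
      have e2 : q * a = a * q := (h.V_comm ha hq).symm
      calc q * (a * b) * q⁻¹ * (a * b)⁻¹ = (q * a) * (b * q⁻¹ * (a * b)⁻¹) := by simp only [mul_assoc]
        _ = a * (q * b * q⁻¹ * b⁻¹) * a⁻¹ := by
          rw [e2]
          group
    rw [e1]
    have hqS : q ∈ SS B A := by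
      rw [SS_comm]
      exact Subgroup.mem_sup_left hq
    have h2 := h.symm.comm_VS hb hqS
    rw [ZZ_comm] at h2
    exact Nm_conj (h.C_le_Nm_Z ((h.V_le_Q.trans h.Q_le_C) ha)) h2
  apply h.not_le_Nm_Z
  obtain ⟨q, hq, hqB⟩ := h.exists_q
  have hex : ∃ v ∈ VV B, v ∉ ZZ A B := by
    refine SetLike.not_le_iff_exists.1 fun h0 => ?_
    have := h.idx_Z'
    rw [Subgroup.relIndex_eq_one.2 h0] at this
    omega
  obtain ⟨v, hv, hvZ⟩ := hex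
  have hc := hcomm q hq v (Subgroup.mem_sup_right hv)
  have hc1 := h.commr_ne hv hvZ hq hqB
  have hZ : Nat.card (ZZ A B) = 3 := by rw [h.card_Z, h1]
  have hz := eq_of_card_three hZ hc hc1
  rw [le_Nm']
  intro a ha
  refine Subgroup.eq_of_le_of_card_ge ?_ (by rw [card_cj])
  rw [cj_le_iff]
  nth_rewrite 1 [← hz]
  rw [Subgroup.zpowers_le, mem_cj, inv_inv]
  have e : a * (q * v * q⁻¹ * v⁻¹) * a⁻¹ =
      (a * q * a⁻¹) * (a * v * a⁻¹) * (a * q * a⁻¹)⁻¹ * (a * v * a⁻¹)⁻¹ := by group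
  rw [e]
  exact hcomm _ (Nm_conj (le_Nm_Op 3 A ha) hq) _ (Nm_conj (hN ha) (Subgroup.mem_sup_right hv))

/-- In the case `|Y| = 1` the critical distance is 1. -/
theorem Mn.crit_one (h : Mn A B) (h1 : Nat.card (YY A) = 1) {n : ℕ} {X X1 Y' Y : Subgroup G}
    (hC : Crit A B n X X1 Y' Y) : n = 0 := by
  have hcard : ∀ {X : Subgroup G}, (∃ x, X = cj x A) → Nat.card (YY X) = 1 := by
    rintro X ⟨x, rfl⟩
    rw [← cj_YY, card_cj, h1]
  have hX := h.of_adj hC.adj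
  have hY := h.of_adj hC.adj'.symm
  match n, hC with
  | 0, _ => rfl
  | 1, hC =>
    exfalso
    obtain ⟨W, hW, rfl, hW'⟩ := hC.walk1
    have hY1 := h.of_adj hW
    apply hC.crit
    have hmin := hC.min 1 le_rfl
    refine Mn.no_two (hcard (hC.adj.symm.isV h.conj)) hX.symm hY1 (hmin _ _ ⟨X1, hC.adj, rfl, hC.adj.symm.isV h.conj⟩)
      (hmin _ _ ⟨X1, hW.symm, rfl, hC.adj.symm.isV h.conj⟩)
  | n + 2, hC =>
    exfalso
    obtain ⟨Y2, hY2, hY2'⟩ := hC.walk2.last h.conj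
    obtain ⟨h3, -, -, -⟩ := tv_aux hX.toH2 hY.toH2 (hC.min _ le_rfl _ _ hC.walk2)
      (hC.min _ le_rfl _ _ (hC.walk1.symm h.conj)) hC.crit
    obtain ⟨s, hsY, hsX⟩ := SetLike.not_le_iff_exists.1 h3
    have hsX1 : s ∈ Op 3 X1 := hC.min _ le_rfl _ _ (hC.walk1.symm h.conj) hsY
    have hEA : EA (ncl X (VV X1)) := by
      refine EA_ncl hX.symm.EA_V fun a ha v hv w hw => ?_
      rw [cj_VV] at hw
      have hadj : Adj A B X (cj a X1) := by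
        have := hC.adj.cjBy a
        rwa [cj_of_mem ha] at this
      have h4 := hC.min 2 (by omega) X1 (cj a X1) ⟨X, hC.adj.symm, cj a X1, hadj, rfl, hadj.symm.isV h.conj⟩
      exact ((h.of_adj hadj).symm.V_comm hw (h4 hv)).symm
    have hW : ncl X (VV X1) ≤ Op 3 Y2 := by
      refine ncl_le' fun a ha => ?_
      rw [cj_VV]
      have hadj : Adj A B X (cj a X1) := by
        have := hC.adj.cjBy a
        rwa [cj_of_mem ha] at this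
      exact hC.min (n + 2) le_rfl (cj a X1) Y2 ⟨X, hadj.symm, hY2⟩
    refine hX.no_quad (hcard (hC.adj.isV h.conj)) hEA (Subgroup.mem_sup_right hsX1) hsX fun w hw => ?_
    have hwY' : w ∈ Y' := ((h.of_adj hY2').Q_le_C (hW hw)).2
    have hadj : Adj A B Y' (cj w Y) := by
      have := hC.adj'.cjBy w
      rwa [cj_of_mem hwY'] at this
    have h4 := hC.min 2 (by omega) Y (cj w Y) ⟨Y', hC.adj'.symm, cj w Y, hadj, rfl, hadj.symm.isV h.conj⟩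
    have h5 : w * s⁻¹ * w⁻¹ ∈ VV (cj w Y) := by
      rw [← cj_VV, conj_mem_cj]
      exact Subgroup.inv_mem _ hsY
    have h6 := (h.of_adj hadj).symm.V_comm h5 (h4 hsY)
    calc s * (s * w * s⁻¹ * w⁻¹) * s⁻¹ = s * (s * (w * s⁻¹ * w⁻¹)) * s⁻¹ := by simp only [mul_assoc]
      _ = s * ((w * s⁻¹ * w⁻¹) * s) * s⁻¹ := by rw [h6]
      _ = s * w * s⁻¹ * w⁻¹ := by group

end

end Cfsg.Agent.H399
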