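import Cfsg.Agent.H399.LocalE
import Cfsg.Agent.H399.Defs

/-!
# Critical distance 1: the configuration `3²:GL₂(3)`
-/

set_option autoImplicit false
set_option linter.unusedSectionVars false
set_option linter.unnecessarySeqFocus false

open Pointwise

namespace Cfsg.Agent.H399

variable {G : Type*} [Group G]

/-- The subgroup generated by cubes and commutators -/
def DD (X : Subgroup G) : Subgroup G :=
  Subgroup.closure {z | (∃ x ∈ X, z = x ^ 3) ∨ ∃ x ∈ X, ∃ y ∈ X, z = x * y * x⁻¹ * y⁻¹}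

theorem le_Nm_DD (X : Subgroup G) {A : Subgroup G} (hA : A ≤ Nm X) : A ≤ Nm (DD X) := by
  rw [DD, Nm, Subgroup.le_normalizer_closure_iff]
  rintro a ha z hz
  apply Subgroup.subset_closure
  rcases hz with ⟨x, hx, rfl⟩ | ⟨x, hx, y, hy, rfl⟩
  · left
    refine ⟨a * x * a⁻¹, Nm_conj (hA ha) hx, ?_⟩
    rw [conj_pow]
  · right
    refine ⟨a * x * a⁻¹, Nm_conj (hA ha) hx, a * y * a⁻¹, Nm_conj (hA ha) hy, ?_⟩
    group

theorem EA_of_DD {X : Subgroup G} (h : DD X = ⊥) : EA X := by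
  constructor
  · intro x hx y hy
    have : x * y * x⁻¹ * y⁻¹ ∈ DD X := Subgroup.subset_closure (Or.inr ⟨x, hx, y, hy, rfl⟩)
    rw [h, Subgroup.mem_bot, mul_inv_eq_one, mul_inv_eq_iff_eq_mul] at this
    exact this
  · intro x hx
    have : x ^ 3 ∈ DD X := Subgroup.subset_closure (Or.inl ⟨x, hx, rfl⟩)
    rwa [h, Subgroup.mem_bot] at this

theorem DD_mono {X Y : Subgroup G} (h : X ≤ Y) : DD X ≤ DD Y := by
  apply Subgroup.closure_mono
  rintro z (⟨x, hx, rfl⟩ | ⟨x, hx, y, hy, rfl⟩)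
  · exact Or.inl ⟨x, h hx, rfl⟩
  · exact Or.inr ⟨x, h hx, y, h hy, rfl⟩

theorem DD_le (X : Subgroup G) : DD X ≤ X := by
  rw [DD, Subgroup.closure_le]
  rintro z (⟨x, hx, rfl⟩ | ⟨x, hx, y, hy, rfl⟩)
  · exact X.pow_mem hx 3
  · exact X.mul_mem (X.mul_mem (X.mul_mem hx hy) (X.inv_mem hx)) (X.inv_mem hy)

/-- central elementary abelian factors do not matter -/
theorem DD_eq {V L Q : Subgroup G} (hVQ : V ≤ Q) (hLQ : L ≤ Q) (hV : ∀ v ∈ V, v ^ 3 = 1)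
    (hc : ∀ v ∈ V, ∀ q ∈ Q, v * q = q * v) (hQ : V ⊔ L = Q) : DD Q = DD L := by
  refine le_antisymm ?_ (DD_mono hLQ)
  have hVL : V ≤ Nm L := by
    rw [le_Nm]
    intro v hv l hl
    rw [hc v hv l (hLQ hl), mul_inv_cancel_right]
    exact hl
  rw [DD, Subgroup.closure_le]
  rintro z (⟨x, hx, rfl⟩ | ⟨x, hx, y, hy, rfl⟩)
  · rw [← hQ, mul_mem_sup_iff hVL] at hx
    obtain ⟨v, hv, l, hl, rfl⟩ := hx
    have h1 : Commute v l := hc v hv l (hLQ hl)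
    rw [h1.mul_pow, hV v hv, one_mul]
    exact Subgroup.subset_closure (Or.inl ⟨l, hl, rfl⟩)
  · rw [← hQ, mul_mem_sup_iff hVL] at hx hy
    obtain ⟨v, hv, l, hl, rfl⟩ := hx
    obtain ⟨w, hw, m, hm, rfl⟩ := hy
    have e : v * l * (w * m) * (v * l)⁻¹ * (w * m)⁻¹ = l * m * l⁻¹ * m⁻¹ := by
      have h1 : l * w = w * l := (hc w hw l (hLQ hl)).symm
      have h2 : v * (w * (l * m)) = (w * (l * m)) * v :=
        hc v hv _ (Q.mul_mem (hVQ hw) (Q.mul_mem (hLQ hl) (hLQ hm)))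
      have h3 : w * (l * m * l⁻¹ * m⁻¹) * w⁻¹ = l * m * l⁻¹ * m⁻¹ := by
        rw [hc w hw _ (Q.mul_mem (Q.mul_mem (Q.mul_mem (hLQ hl) (hLQ hm)) (Q.inv_mem (hLQ hl)))
          (Q.inv_mem (hLQ hm))), mul_inv_cancel_right]
      calc v * l * (w * m) * (v * l)⁻¹ * (w * m)⁻¹
          = v * ((l * w) * m) * (l⁻¹ * v⁻¹) * (m⁻¹ * w⁻¹) := by group
        _ = (v * (w * (l * m))) * (l⁻¹ * v⁻¹) * (m⁻¹ * w⁻¹) := by rw [h1]; group
        _ = w * (l * m) * (v * l⁻¹ * v⁻¹) * (m⁻¹ * w⁻¹) := by rw [h2]; group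
        _ = w * (l * m * l⁻¹ * m⁻¹) * w⁻¹ := by
          rw [hc v hv _ (Q.inv_mem (hLQ hl)), mul_inv_cancel_right]
          group
        _ = l * m * l⁻¹ * m⁻¹ := h3
    rw [e]
    exact Subgroup.subset_closure (Or.inr ⟨l, hl, m, hm, rfl⟩)

theorem cube_eq_one {q q' : G} (h3 : q ^ 3 = 1) (h3' : q' ^ 3 = 1) {c : G} (hc : q' * q = c * (q * q'))
    (hcq : c * q = q * c) (hcq' : c * q' = q' * c) (hc3 : c ^ 3 = 1) : (q * q') ^ 3 = 1 := by
  have e1 : (q * q') ^ 3 = q * (q' * q) * (q' * q) * q' := by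
    simp only [pow_succ, pow_zero, one_mul, mul_assoc]
  have c1 : Commute c q := hcq
  have c2 : Commute c q' := hcq'
  rw [e1, hc]
  calc q * (c * (q * q')) * (c * (q * q')) * q'
      = (q * c) * (q * (q' * c) * (q * (q' * q'))) := by simp only [mul_assoc]
    _ = (c * q) * (q * (c * q') * (q * (q' * q'))) := by rw [← hcq, ← hcq']
    _ = c * (q * (q * c)) * (q' * q) * (q' * q') := by simp only [mul_assoc]
    _ = c * (q * (c * q)) * (c * (q * q')) * (q' * q') := by rw [← hcq, hc]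
    _ = c * ((q * c) * (q * c)) * q * (q' * q' * q') := by simp only [mul_assoc]
    _ = c * ((c * q) * (c * q)) * q * (q' * q' * q') := by rw [← hcq]
    _ = c * c * (q * c) * (q * q) * (q' * q' * q') := by simp only [mul_assoc]
    _ = c ^ 3 * q ^ 3 * q' ^ 3 := by
      rw [← hcq]
      simp only [pow_succ, pow_zero, one_mul, mul_assoc]
    _ = 1 := by rw [h3, h3', hc3]; simp

section

variable [Finite G] {A B : Subgroup G}

/-! ### facts valid for every critical distance -/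

theorem Mn.K_sup (h : Mn A B) : K A B ⊔ K B A = A ⊓ B := by
  refine le_antisymm (sup_le (K_le A B) (K_le' A B)) ?_
  have h1 : (K A B).relIndex (K A B ⊔ K B A) = (K A B).relIndex (K B A) := by
    rw [sup_comm]
    exact relIndex_sup_of_left ((K_le' A B).trans (C_le_Nm_K A B))
  rw [h.symm.idx_KK] at h1
  have h2 := card_mul_relIndex (le_sup_left : K A B ≤ K A B ⊔ K B A)
  have h3 := card_mul_relIndex (K_le A B)
  rw [h1, ← h.idx_KC, h3] at h2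
  exact (Subgroup.eq_of_le_of_card_ge (sup_le (K_le A B) (K_le' A B)) h2.le).symm.le

theorem Mn.sq_K (h : Mn A B) {k : G} (hk : k ∈ K A B) : k * k ∈ Op 3 A := by
  by_cases hkQ : k ∈ Op 3 A
  · exact Subgroup.mul_mem _ hkQ hkQ
  · exact two_mul_mem h.idx_QK hk hk hkQ hkQ

theorem Mn.sq_C (h : Mn A B) {x : G} (hx : x ∈ A ⊓ B) : x * x ∈ SS A B := by
  rw [← h.K_sup, mul_mem_sup_iff ((K_le A B).trans (C_le_Nm_K' A B))] at hx
  obtain ⟨k, hk, k', hk', rfl⟩ := hx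
  have e : k * k' * (k * k') = (k * k) * (k⁻¹ * k' * k * k'⁻¹) * (k' * k') := by group
  have h1 : k⁻¹ * k' * k * k'⁻¹ ∈ K A B ⊓ K B A := by
    constructor
    · have := Nm_conj (C_le_Nm_K A B (K_le' A B hk')) hk
      have e2 : k⁻¹ * k' * k * k'⁻¹ = k⁻¹ * (k' * k * k'⁻¹) := by group
      rw [e2]
      exact Subgroup.mul_mem _ (Subgroup.inv_mem _ hk) this
    · exact Subgroup.mul_mem _ (Nm_conj' (C_le_Nm_K' A B (K_le A B hk)) hk') (Subgroup.inv_mem _ hk')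
  rw [h.L_eq] at h1
  rw [e]
  refine Subgroup.mul_mem _ (Subgroup.mul_mem _ (Subgroup.mem_sup_left (h.sq_K hk)) (Subgroup.mem_sup_left h1.1)) ?_
  exact Subgroup.mem_sup_right (h.symm.sq_K hk')

/-- the Sylow 2-subgroups of `A ∩ B` are fours groups -/
theorem Mn.exists_four (h : Mn A B) : ∃ D : Subgroup G, D ≤ A ⊓ B ∧ Nat.card D = 4 ∧ ∀ d ∈ D, d * d = 1 := by
  have h2 : Fact (Nat.Prime 2) := ⟨Nat.prime_two⟩
  have h4 : 2 ^ 2 ∣ Nat.card ↥(A ⊓ B) := by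
    rw [h.card_C]
    exact Dvd.intro _ rfl
  obtain ⟨D, hD⟩ := Sylow.exists_subgroup_card_pow_prime 2 h4
  refine ⟨D.map (A ⊓ B).subtype, Subgroup.map_subtype_le _, ?_, ?_⟩
  · rw [Subgroup.card_map_of_injective (A ⊓ B).subtype_injective, hD]
    norm_num
  · rintro _ ⟨d, hd, rfl⟩
    show (d : G) * d = 1
    have h5 := h.sq_C d.2
    obtain ⟨m, hm⟩ := h.exists_pow h5
    have h6 : (d : G) ^ 4 = 1 := by
      have : (⟨d, hd⟩ : D) ^ 4 = 1 := by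
        have h7 : Nat.card D = 4 := by rw [hD]; norm_num
        rw [← h7]
        exact pow_card_eq_one'
      have := congrArg (fun x : D => ((x : ↥(A ⊓ B)) : G)) this
      simpa using this
    have h7 : (d : G) * d ∈ (⊥ : Subgroup G) := by
      refine mem_of_pow_mem (m := 3 ^ m) (n := 2) ?_ hm ?_
      · exact (by norm_num : Nat.Coprime 3 2).pow_left m
      · rw [Subgroup.mem_bot, ← h6]
        simp only [pow_succ, pow_zero, one_mul, mul_assoc]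
    rwa [Subgroup.mem_bot] at h7

theorem Mn.Nm_Q (h : Mn A B) : Nm (Op 3 A) = A := h.N _ (Op_le _ _) h.Q_ne (le_Nm_Op _ _)

theorem Mn.centralizer_Q_le (h : Mn A B) : Subgroup.centralizer (Op 3 A : Set G) ≤ Op 3 A := by
  intro x hx
  rw [Subgroup.mem_centralizer_iff] at hx
  refine h.cent_le h.two ?_ fun y hy => hx y hy
  rw [← h.Nm_Q, mem_Nm]
  refine Subgroup.eq_of_le_of_card_ge ?_ (by rw [card_cj])
  intro y hy
  rw [mem_cj] at hy
  have h1 := hx _ hy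
  have h2 : x⁻¹ * y * x = y := by
    have e : y = x * (x⁻¹ * y * x) * x⁻¹ := by group
    rw [← h1, mul_inv_cancel_right] at e
    exact e.symm
  rwa [h2] at hy

/-! ### `V_A ≰ Q_B` and `|Y| = 1` -/

theorem H2.not_le_symm (h : H2 A B) (hb : ¬ VV A ≤ Op 3 B) : ¬ VV B ≤ Op 3 A := by
  intro h1
  apply hb
  intro x hx
  refine h.symm.mem_Q_of_cent ?_ fun v hv => (h.V_comm hx (h1 hv)).symm
  exact Subgroup.mem_sup_right (h.V_le_Q hx)

theorem H2.V_sup_L (h : H2 A B) (hb : ¬ VV A ≤ Op 3 B) : VV A ⊔ (Op 3 A ⊓ Op 3 B) = Op 3 A := by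
  refine eq_of_prime_relIndex Nat.prime_three le_sup_right (sup_le h.V_le_Q inf_le_left) h.idx_L ?_
  exact fun h0 => hb (le_sup_left.trans (h0.trans inf_le_right))

theorem H2.EA_Q (h : H2 A B) (hb : ¬ VV A ≤ Op 3 B) : EA (Op 3 A) := by
  have key : ∀ {A B : Subgroup G}, H2 A B → ¬ VV A ≤ Op 3 B → DD (Op 3 A) = DD (Op 3 A ⊓ Op 3 B) := by
    intro A B h hb
    exact DD_eq h.V_le_Q inf_le_left h.EA_V.exp (fun v hv q hq => h.V_comm hv hq) (h.V_sup_L hb)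
  have h1 := key h hb
  have h2 := key h.symm (h.not_le_symm hb)
  rw [inf_comm, ← h1] at h2
  apply EA_of_DD
  refine h.U _ ((DD_le _).trans h.Q_le_C) (le_Nm_DD _ (le_Nm_Op 3 A)) ?_
  rw [← h2]
  exact le_Nm_DD _ (le_Nm_Op 3 B)

theorem H2.L_eq_Z (h : H2 A B) (hb : ¬ VV A ≤ Op 3 B) : Op 3 A ⊓ Op 3 B = ZZ A B := by
  refine le_antisymm ?_ (le_inf h.Z_le_Q h.Z_le_Q')
  have h1 := h.EA_Q hb
  have h2 := h.symm.EA_Q (h.not_le_symm hb)
  intro x hx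
  refine ⟨Subgroup.mem_sup_left hx.1, h1.exp x hx.1, ?_⟩
  have h3 : SS A B ≤ Subgroup.centralizer {x} := by
    refine sup_le ?_ ?_
    · intro y hy
      rw [Subgroup.mem_centralizer_singleton_iff]
      exact h1.comm y hy x hx.1
    · intro y hy
      rw [Subgroup.mem_centralizer_singleton_iff]
      exact h2.comm y hy x hx.2
  intro y hy
  exact (Subgroup.mem_centralizer_singleton_iff.1 (h3 hy)).symm

theorem Mn.b1_cardZ (h : Mn A B) (h1 : Nat.card (YY A) = 1) : Nat.card (ZZ A B) = 3 := by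
  rw [h.card_Z, h1]

theorem Mn.b1_cardQ (h : Mn A B) (h1 : Nat.card (YY A) = 1) (hb : ¬ VV A ≤ Op 3 B) : Nat.card (Op 3 A) = 9 := by
  have h2 := card_mul_relIndex (inf_le_left : Op 3 A ⊓ Op 3 B ≤ Op 3 A)
  rw [h.idx_L, h.L_eq_Z hb, h.b1_cardZ h1] at h2
  exact h2.symm

theorem Mn.b1_Q_eq (h : Mn A B) (h1 : Nat.card (YY A) = 1) (hb : ¬ VV A ≤ Op 3 B) : Op 3 A = VV A := by
  refine (Subgroup.eq_of_le_of_card_ge h.V_le_Q ?_).symm
  rw [h.b1_cardQ h1 hb, h.card_V, h.b1_cardZ h1]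

theorem Mn.b1_exp (h : Mn A B) (h1 : Nat.card (YY A) = 1) (hb : ¬ VV A ≤ Op 3 B) : ∀ x ∈ SS A B, x ^ 3 = 1 := by
  intro x hx
  have hx0 := hx
  rw [SS, mul_mem_sup_iff (h.Q_le_C.trans h.C_le_Nm_Q')] at hx
  obtain ⟨q, hq, q', hq', rfl⟩ := hx
  have e1 := h.EA_Q hb
  have e2 := h.symm.EA_Q (h.not_le_symm hb)
  have hqS : q ∈ SS A B := Subgroup.mem_sup_left hq
  have hqS' : q' ∈ SS A B := Subgroup.mem_sup_right hq'
  have hc : q' * q * q'⁻¹ * q⁻¹ ∈ ZZ A B := by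
    rw [h.b1_Q_eq h1 hb] at hq
    exact h.comm_VS hq hqS'
  refine cube_eq_one (e1.exp q hq) (e2.exp q' hq') (c := q' * q * q'⁻¹ * q⁻¹) (by group) (hc.2.2 q hqS)
    (hc.2.2 q' hqS') hc.2.1

theorem inv_or_eq {R : Subgroup G} (hR : Nat.card R = 3) {c d : G} (hc : c ∈ R) (hc1 : c ≠ 1) (hd : d ∈ R)
    (hd1 : d ≠ 1) : d = c ∨ d = c⁻¹ := by
  rw [← eq_of_card_three hR hc hc1] at hd
  obtain ⟨k, rfl⟩ := hd
  have h3 : c ^ (3 : ℤ) = 1 := by
    have h0 : orderOf c = 3 := by rw [← Nat.card_zpowers, eq_of_card_three hR hc hc1, hR]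
    have h1 := pow_orderOf_eq_one c
    rw [h0] at h1
    exact_mod_cast h1
  simp only at hd1 ⊢
  have h4 : c ^ k = c ^ (k % 3) := by
    conv_lhs => rw [← Int.emod_add_mul_ediv k 3, zpow_add, zpow_mul, h3, one_zpow, mul_one]
  have h5 : k % 3 = 0 ∨ k % 3 = 1 ∨ k % 3 = 2 := by omega
  rw [h4] at hd1 ⊢
  rcases h5 with h5 | h5 | h5 <;> rw [h5] at hd1 ⊢
  · simp at hd1
  · left
    simp
  · right
    rw [eq_comm, inv_eq_iff_mul_eq_one, ← h3]
    group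

theorem Mn.b1_trans (h : Mn A B) (h1 : Nat.card (YY A) = 1) (hb : ¬ VV A ≤ Op 3 B) :
    ∀ x ∈ Op 3 A, ∀ y ∈ Op 3 A, x ≠ 1 → y ≠ 1 → ∃ a ∈ A, a * x * a⁻¹ = y := by
  intro x hx y hy hx1 hy1
  rw [h.b1_Q_eq h1 hb] at hx hy
  have hY : YY A = ⊥ := Subgroup.card_eq_one.1 h1
  obtain ⟨a, ha, hxa⟩ := h.cover hx (by rw [hY, Subgroup.mem_bot]; exact hx1)
  obtain ⟨b, hb', hyb⟩ := h.cover hy (by rw [hY, Subgroup.mem_bot]; exact hy1)
  rw [mem_cj] at hxa hyb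
  have hx2 : a⁻¹ * x * a ≠ 1 := by
    intro h0
    apply hx1
    have e : x = a * (a⁻¹ * x * a) * a⁻¹ := by group
    rw [e, h0]
    group
  have hy2 : b⁻¹ * y * b ≠ 1 := by
    intro h0
    apply hy1
    have e : y = b * (b⁻¹ * y * b) * b⁻¹ := by group
    rw [e, h0]
    group
  rcases inv_or_eq (h.b1_cardZ h1) hxa hx2 hyb hy2 with h3 | h3
  · refine ⟨b * a⁻¹, A.mul_mem hb' (A.inv_mem ha), ?_⟩
    have e : b * a⁻¹ * x * (b * a⁻¹)⁻¹ = b * (a⁻¹ * x * a) * b⁻¹ := by group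
    rw [e, ← h3]
    group
  · obtain ⟨k, hk, hkQ⟩ := h.exists_KQ
    have h4 := hxa
    rw [← h.RR_eq_ZZ h1] at h4
    have h5 := h4.2 k hk hkQ
    refine ⟨b * k * a⁻¹, A.mul_mem (A.mul_mem hb' (K_le_left A B hk)) (A.inv_mem ha), ?_⟩
    have e : b * k * a⁻¹ * x * (b * k * a⁻¹)⁻¹ = b * (k * (a⁻¹ * x * a) * k⁻¹) * b⁻¹ := by group
    rw [e, h5, ← h3]
    group

end

end Cfsg.Agent.H399
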