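import Cfsg.Agent.H399.LocalF

/-!
# Critical distance 1, second part: the normaliser of `S`
-/

set_option autoImplicit false
set_option linter.unusedSectionVars false
set_option linter.unnecessarySeqFocus false

open Pointwise

namespace Cfsg.Agent.H399

variable {G : Type*} [Group G]

/-- orbit-stabiliser for the action on subgroups -/
theorem relIndex_Nm (N X : Subgroup G) : (N ⊓ Nm X).relIndex N = {Y : Subgroup G | ∃ x ∈ N, cj x X = Y}.ncard := by
  let _ : MulAction N (Subgroup G) := MulAction.compHom (Subgroup G) ((MulAut.conj : G →* MulAut G).comp N.subtype)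
  have h1 := MulAction.index_stabilizer N X
  have h2 : MulAction.stabilizer N X = (N ⊓ Nm X).subgroupOf N := by
    ext x
    rw [MulAction.mem_stabilizer_iff, Subgroup.mem_subgroupOf]
    constructor
    · intro h
      exact ⟨x.2, mem_Nm.2 h⟩
    · rintro ⟨-, h⟩
      exact mem_Nm.1 h
  rw [h2] at h1
  rw [Subgroup.relIndex, h1]
  congr 1
  ext Y
  constructor
  · rintro ⟨x, rfl⟩
    exact ⟨x, x.2, rfl⟩
  · rintro ⟨x, hx, rfl⟩
    exact ⟨⟨x, hx⟩, rfl⟩

/-- `3 ∣ |N(S) : S|` if `S` is not Sylow -/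
theorem three_dvd_of_not_sylow [Finite G] {S : Subgroup G} {n : ℕ} (hS : Nat.card S = 3 ^ n)
    (hdvd : 3 ^ (n + 1) ∣ Nat.card G) : 3 ^ (n + 1) ∣ Nat.card (Nm S) := by
  have : Fact (Nat.Prime 3) := ⟨Nat.prime_three⟩
  have h1 := Sylow.prime_dvd_card_quotient_normalizer hdvd hS
  have h2 := card_mul_relIndex (Subgroup.le_normalizer : S ≤ Nm S)
  rw [← h2, hS, pow_succ]
  exact Nat.mul_dvd_mul_left _ h1

theorem exists_not_mem_union {X P Q : Subgroup G} (h1 : ¬ X ≤ P) (h2 : ¬ X ≤ Q) : ∃ x ∈ X, x ∉ P ∧ x ∉ Q := by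
  obtain ⟨x, hx, hxP⟩ := SetLike.not_le_iff_exists.1 h1
  obtain ⟨y, hy, hyQ⟩ := SetLike.not_le_iff_exists.1 h2
  by_cases hxQ : x ∈ Q
  · by_cases hyP : y ∈ P
    · refine ⟨x * y, X.mul_mem hx hy, ?_, ?_⟩
      · intro h
        apply hxP
        have := P.mul_mem h (P.inv_mem hyP)
        rwa [mul_inv_cancel_right] at this
      · intro h
        apply hyQ
        have := Q.mul_mem (Q.inv_mem hxQ) h
        rwa [inv_mul_cancel_left] at this
    · exact ⟨y, hy, hyP, hyQ⟩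
  · exact ⟨x, hx, hxP, hxQ⟩

section

variable [Finite G] {A B : Subgroup G}

/-- `C` maps `S/Z = Q_A/Z × Q_B/Z` and there is an element acting as `diag(-1,1)`. -/
theorem Mn.b1_lines (h : Mn A B) (_h1 : Nat.card (YY A) = 1) (hb : ¬ VV A ≤ Op 3 B) :
    ∃ q q' k : G, q ∈ Op 3 A ∧ q ∉ ZZ A B ∧ q' ∈ Op 3 B ∧ q' ∉ ZZ A B ∧ k ∈ K A B ∧
      k * q * k⁻¹ * q ∈ ZZ A B ∧ k * q' * k⁻¹ * q'⁻¹ ∈ ZZ A B := by
  obtain ⟨q, hq, hqB⟩ := h.exists_q
  obtain ⟨q', hq', hqA⟩ := h.symm.exists_q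
  obtain ⟨k, hk, hkQ⟩ := h.exists_KQ
  refine ⟨q, q', k, hq, fun h0 => hqB (h.Z_le_Q' h0), hq', fun h0 => hqA (h.Z_le_Q h0), hk, ?_, ?_⟩
  · rw [← h.L_eq_Z hb]
    exact h.inv_Q hk hkQ hq
  · rw [← h.L_eq_Z hb]
    refine ⟨h.cent_SQ hk (Subgroup.mem_sup_right hq'), ?_⟩
    exact Subgroup.mul_mem _ (Nm_conj (le_Nm_Op 3 B (K_le_right A B hk)) hq') (Subgroup.inv_mem _ hq')

theorem Mn.b1_idxZ (h : Mn A B) (h1 : Nat.card (YY A) = 1) (hb : ¬ VV A ≤ Op 3 B) :
    (ZZ A B).relIndex (Op 3 A) = 3 := by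
  have h2 := card_mul_relIndex h.Z_le_Q
  rw [h.b1_cardQ h1 hb, h.b1_cardZ h1] at h2
  omega

/-- the orbit of `Q_A` under `N(S)` has 2 or 4 elements -/
theorem Mn.b1_orbit (h : Mn A B) (h1 : Nat.card (YY A) = 1) (hb : ¬ VV A ≤ Op 3 B) :
    {Y : Subgroup G | ∃ x ∈ Nm (SS A B), cj x (Op 3 A) = Y}.ncard = 2 ∨
    {Y : Subgroup G | ∃ x ∈ Nm (SS A B), cj x (Op 3 A) = Y}.ncard = 4 := by
  obtain ⟨q, q', k, hq, hqZ, hq', hqZ', hk, hkq, hkq'⟩ := h.b1_lines h1 hb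
  have h1' := h.symm_card_YY h1
  have hb' := h.not_le_symm hb
  set O := {Y : Subgroup G | ∃ x ∈ Nm (SS A B), cj x (Op 3 A) = Y} with hO
  set Z := ZZ A B with hZ
  have hZ3 : Nat.card Z = 3 := h.b1_cardZ h1
  have hL := h.L_eq_Z hb
  have hqS : q ∈ SS A B := Subgroup.mem_sup_left hq
  have hqS' : q' ∈ SS A B := Subgroup.mem_sup_right hq'
  have hcomm : ∀ x ∈ SS A B, ∀ y ∈ SS A B, x * y * x⁻¹ * y⁻¹ ∈ Z := by
    -- `S/Z` is abelian: write `y = a b`
    have key : ∀ x ∈ SS A B, ∀ y ∈ SS A B, x * y * x⁻¹ * y⁻¹ ∈ Op 3 A := by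
      intro x hx y hy
      rw [SS, mul_mem_sup_iff (h.Q_le_C.trans h.C_le_Nm_Q')] at hx hy
      have hQS := h.S_le_Nm_Q
      have hEB := h.symm.EA_Q hb'
      obtain ⟨a, ha, b, hb2, rfl⟩ := hx
      obtain ⟨c, hc, d, hd, rfl⟩ := hy
      have e : a * b * (c * d) * (a * b)⁻¹ * (c * d)⁻¹ =
          a * (b * c * b⁻¹) * ((b * d * b⁻¹ * d⁻¹)) * (d * a⁻¹ * d⁻¹) * c⁻¹ := by group
      have e2 : b * d * b⁻¹ * d⁻¹ = 1 := by
        rw [hEB.comm b hb2 d hd]
        group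
      rw [e, e2, mul_one]
      have hbN : b ∈ Nm (Op 3 A) := hQS (Subgroup.mem_sup_right hb2)
      have hdN : d ∈ Nm (Op 3 A) := hQS (Subgroup.mem_sup_right hd)
      exact Subgroup.mul_mem _ (Subgroup.mul_mem _ (Subgroup.mul_mem _ ha (Nm_conj hbN hc))
        (Nm_conj hdN (Subgroup.inv_mem _ ha))) (Subgroup.inv_mem _ hc)
    have key' : ∀ x ∈ SS A B, ∀ y ∈ SS A B, x * y * x⁻¹ * y⁻¹ ∈ Op 3 B := by
      intro x hx y hy
      rw [SS, mul_mem_sup_iff (h.Q_le_C.trans h.C_le_Nm_Q')] at hx hy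
      have hEA := h.EA_Q hb
      obtain ⟨a, ha, b, hb2, rfl⟩ := hx
      obtain ⟨c, hc, d, hd, rfl⟩ := hy
      have hSN : ∀ x ∈ SS A B, x ∈ Nm (Op 3 B) := fun x hx => h.C_le_Nm_Q' (h.S_le hx)
      have e : a * b * (c * d) * (a * b)⁻¹ * (c * d)⁻¹ =
          (a * b * a⁻¹) * (a * c * a⁻¹ * c⁻¹) * (c * (a * d * a⁻¹) * c⁻¹) * (c * (a * b⁻¹ * a⁻¹) * c⁻¹) *
            (c * d⁻¹ * c⁻¹) := by group
      have e2 : a * c * a⁻¹ * c⁻¹ = 1 := by
        rw [hEA.comm a ha c hc]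
        group
      rw [e, e2, mul_one]
      have haN := hSN a (Subgroup.mem_sup_left ha)
      have hcN := hSN c (Subgroup.mem_sup_left hc)
      exact Subgroup.mul_mem _ (Subgroup.mul_mem _ (Subgroup.mul_mem _ (Nm_conj haN hb2)
        (Nm_conj hcN (Nm_conj haN hd))) (Nm_conj hcN (Nm_conj haN (Subgroup.inv_mem _ hb2))))
        (Nm_conj hcN (Subgroup.inv_mem _ hd))
    intro x hx y hy
    rw [hZ, ← hL]
    exact ⟨key x hx y hy, key' x hx y hy⟩
  -- membership modulo Z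
  have hZS : Z ≤ SS A B := OZ_le _
  -- the four lines
  set P := Z ⊔ Subgroup.zpowers (q * q') with hP
  set M := Z ⊔ Subgroup.zpowers (q * q'⁻¹) with hM
  have hcases : ∀ X : Subgroup G, Z ≤ X → X ≤ SS A B → Nat.card X = 9 → X ≠ Op 3 A → X ≠ Op 3 B →
      X = P ∨ X = M := by
    intro X hZX hXS hX9 hXA hXB
    have hXA' : ¬ X ≤ Op 3 A := fun h0 => hXA (Subgroup.eq_of_le_of_card_ge h0 (by rw [hX9, h.b1_cardQ h1 hb]))
    have hXB' : ¬ X ≤ Op 3 B := fun h0 => hXB (Subgroup.eq_of_le_of_card_ge h0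
      (by rw [hX9, h.symm.b1_cardQ h1' hb']))
    obtain ⟨x, hx, hxA, hxB⟩ := exists_not_mem_union hXA' hXB'
    have hxS := hXS hx
    rw [SS, mul_mem_sup_iff (h.Q_le_C.trans h.C_le_Nm_Q')] at hxS
    obtain ⟨a, ha, b, hb2, rfl⟩ := hxS
    have haZ : a ∉ Z := fun h0 => hxB (Subgroup.mul_mem _ (h.Z_le_Q' h0) hb2)
    have hbZ : b ∉ Z := fun h0 => hxA (Subgroup.mul_mem _ ha (h.Z_le_Q h0))
    have hidx : Z.relIndex X = 3 := by
      have h2 := card_mul_relIndex hZX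
      rw [hX9, hZ3] at h2
      omega
    have haS : a ∈ SS A B := Subgroup.mem_sup_left ha
    have hbS : b ∈ SS A B := Subgroup.mem_sup_right hb2
    -- it is enough to find the elements
    have hPX : q * q' ∈ X → X = P := by
      intro h0
      refine (eq_of_prime_relIndex Nat.prime_three le_sup_left (sup_le hZX ?_) hidx ?_).symm
      · rwa [Subgroup.zpowers_le]
      · intro h2
        have h3 : q * q' ∈ Z := h2 (Subgroup.mem_sup_right (Subgroup.mem_zpowers _))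
        apply hqZ
        rw [hZ, ← hL]
        refine ⟨hq, ?_⟩
        have := Subgroup.mul_mem _ (h.Z_le_Q' h3) (Subgroup.inv_mem _ hq')
        rwa [mul_inv_cancel_right] at this
    have hMX : q * q'⁻¹ ∈ X → X = M := by
      intro h0
      refine (eq_of_prime_relIndex Nat.prime_three le_sup_left (sup_le hZX ?_) hidx ?_).symm
      · rwa [Subgroup.zpowers_le]
      · intro h2
        have h3 : q * q'⁻¹ ∈ Z := h2 (Subgroup.mem_sup_right (Subgroup.mem_zpowers _))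
        apply hqZ
        rw [hZ, ← hL]
        refine ⟨hq, ?_⟩
        have := Subgroup.mul_mem _ (h.Z_le_Q' h3) hq'
        rwa [inv_mul_cancel_right] at this
    have hZidx := h.b1_idxZ h1 hb
    have hZidx' : Z.relIndex (Op 3 B) = 3 := by
      have := h.symm.b1_idxZ h1' hb'
      rwa [ZZ_comm] at this
    have hca : a * q⁻¹ ∈ Z ∨ a * q ∈ Z := by
      rcases (h.EA_Q hb).tri h.Z_le_Q hZidx hq hqZ ha with h2 | h2 | h2
      · exact absurd h2 haZ
      · exact Or.inl h2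
      · exact Or.inr h2
    have hcb : b * q'⁻¹ ∈ Z ∨ b * q' ∈ Z := by
      rcases (h.symm.EA_Q hb').tri h.Z_le_Q' hZidx' hq' hqZ' hb2 with h2 | h2 | h2
      · exact absurd h2 hbZ
      · exact Or.inl h2
      · exact Or.inr h2
    have hZc : ∀ z ∈ Z, ∀ s ∈ SS A B, z * s = s * z := fun z hz s hs => hz.2.2 s hs
    rcases hca with hca | hca <;> rcases hcb with hcb | hcb
    · left
      apply hPX
      have e : q * q' = (a * q⁻¹)⁻¹ * ((a * b) * (b * q'⁻¹)⁻¹) := by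
        have h2 := hZc _ (Subgroup.inv_mem _ hca) _ (Subgroup.mul_mem _ haS hqS')
        have e1 : (a * b) * (b * q'⁻¹)⁻¹ = a * q' := by
          have h3 := hZc _ (Subgroup.inv_mem _ hcb) b hbS
          rw [mul_assoc, ← h3]
          group
        rw [e1]
        group
      rw [e]
      exact X.mul_mem (X.inv_mem (hZX hca)) (X.mul_mem hx (X.inv_mem (hZX hcb)))
    · right
      apply hMX
      have e : q * q'⁻¹ = (a * q⁻¹)⁻¹ * ((a * b) * (b * q')⁻¹) := by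
        have e1 : (a * b) * (b * q')⁻¹ = a * q'⁻¹ := by
          have h3 := hZc _ (Subgroup.inv_mem _ hcb) b hbS
          rw [mul_assoc, ← h3]
          group
        rw [e1]
        group
      rw [e]
      exact X.mul_mem (X.inv_mem (hZX hca)) (X.mul_mem hx (X.inv_mem (hZX hcb)))
    · right
      apply hMX
      have e1 : q⁻¹ * q' = (a * q)⁻¹ * ((a * b) * (b * q'⁻¹)⁻¹) := by
        have e1 : (a * b) * (b * q'⁻¹)⁻¹ = a * q' := by
          have h3 := hZc _ (Subgroup.inv_mem _ hcb) b hbS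
          rw [mul_assoc, ← h3]
          group
        rw [e1]
        group
      have h2 : q⁻¹ * q' ∈ X := by
        rw [e1]
        exact X.mul_mem (X.inv_mem (hZX hca)) (X.mul_mem hx (X.inv_mem (hZX hcb)))
      have e2 : q * q'⁻¹ = (q * q'⁻¹ * q⁻¹ * q'⁻¹⁻¹) * (q⁻¹ * q')⁻¹ := by group
      rw [e2]
      exact X.mul_mem (hZX (hcomm q hqS q'⁻¹ (Subgroup.inv_mem _ hqS'))) (X.inv_mem h2)
    · left
      apply hPX
      have e1 : q⁻¹ * q'⁻¹ = (a * q)⁻¹ * ((a * b) * (b * q')⁻¹) := by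
        have e1 : (a * b) * (b * q')⁻¹ = a * q'⁻¹ := by
          have h3 := hZc _ (Subgroup.inv_mem _ hcb) b hbS
          rw [mul_assoc, ← h3]
          group
        rw [e1]
        group
      have h2 : q⁻¹ * q'⁻¹ ∈ X := by
        rw [e1]
        exact X.mul_mem (X.inv_mem (hZX hca)) (X.mul_mem hx (X.inv_mem (hZX hcb)))
      have e2 : q * q' = (q * q' * q⁻¹ * q'⁻¹) * (q⁻¹ * q'⁻¹)⁻¹ := by group
      rw [e2]
      exact X.mul_mem (hZX (hcomm q hqS q' hqS')) (X.inv_mem h2)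
  -- the orbit
  have hsub : O ⊆ {Op 3 A, Op 3 B, P, M} := by
    rintro X ⟨x, hx, rfl⟩
    by_cases h2 : cj x (Op 3 A) = Op 3 A
    · exact Or.inl h2
    by_cases h3 : cj x (Op 3 A) = Op 3 B
    · exact Or.inr (Or.inl h3)
    have p1 : Z ≤ cj x (Op 3 A) := by
      have e : cj x Z = Z := cj_of_mem_Nm (Nm_le_Nm_OZ _ hx)
      rw [← e, cj_le_cj]
      exact h.Z_le_Q
    have p2 : cj x (Op 3 A) ≤ SS A B := by
      have e : cj x (SS A B) = SS A B := cj_of_mem_Nm hx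
      rw [← e, cj_le_cj]
      exact le_sup_left
    have p3 : Nat.card (cj x (Op 3 A)) = 9 := by rw [card_cj, h.b1_cardQ h1 hb]
    rcases hcases _ p1 p2 p3 h2 h3 with h4 | h4
    · exact Or.inr (Or.inr (Or.inl h4))
    · exact Or.inr (Or.inr (Or.inr h4))
  have hOA : Op 3 A ∈ O := ⟨1, Subgroup.one_mem _, cj_one _⟩
  have hOB : Op 3 B ∈ O := by
    obtain ⟨g, hg, hgS, -⟩ := h.exists_g
    exact ⟨g, mem_Nm.2 hgS, by rw [cj_Op, hg]⟩
  have hAB : Op 3 A ≠ Op 3 B := fun h0 => h.Q_ne_Q h0.symm.le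
  have hkN : k ∈ Nm (SS A B) := h.C_le_Nm_S (K_le A B hk)
  have hkO : ∀ X ∈ O, cj k X ∈ O := by
    rintro X ⟨x, hx, rfl⟩
    exact ⟨k * x, Subgroup.mul_mem _ hkN hx, by rw [cj_mul]⟩
  have hkZ : cj k Z = Z := cj_of_mem_Nm (h.C_le_Nm_Z (K_le A B hk))
  have hZc : ∀ z ∈ Z, ∀ s ∈ SS A B, z * s = s * z := fun z hz s hs => hz.2.2 s hs
  have hzpow : ∀ x : G, cj k (Subgroup.zpowers x) = Subgroup.zpowers (k * x * k⁻¹) := by
    intro x
    rw [cj_eq_map, MonoidHom.map_zpowers]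
    rfl
  have hle : ∀ x ∈ SS A B, ∀ y ∈ SS A B, y * x⁻¹ ∈ Z → Z ⊔ Subgroup.zpowers x ≤ Z ⊔ Subgroup.zpowers y := by
    intro x _ y _ hxy
    refine sup_le le_sup_left ?_
    rw [Subgroup.zpowers_le]
    have e : x = (y * x⁻¹)⁻¹ * y := by group
    rw [e]
    exact Subgroup.mul_mem _ (Subgroup.mem_sup_left (Subgroup.inv_mem _ hxy))
      (Subgroup.mem_sup_right (Subgroup.mem_zpowers _))
  have hPS : q * q' ∈ SS A B := Subgroup.mul_mem _ hqS hqS'
  have hMS : q * q'⁻¹ ∈ SS A B := Subgroup.mul_mem _ hqS (Subgroup.inv_mem _ hqS')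
  have hkPM : cj k P = M := by
    refine le_antisymm ?_ ?_
    all_goals
      rw [hP, hM, cj_sup, hkZ, hzpow]
    · have h2 : k * (q * q') * k⁻¹ ∈ SS A B := Nm_conj hkN hPS
      have e : k * (q * q') * k⁻¹ * (q * q'⁻¹) ∈ Z := by
        have e1 : k * (q * q') * k⁻¹ * (q * q'⁻¹) = (k * q * k⁻¹ * q) * ((q⁻¹ * (k * q' * k⁻¹ * q'⁻¹) * q) *
          (q⁻¹ * q' * q⁻¹⁻¹ * q'⁻¹)) := by group
        rw [e1]
        refine Z.mul_mem hkq (Z.mul_mem ?_ (hcomm _ (Subgroup.inv_mem _ hqS) _ hqS'))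
        rw [mul_assoc, hZc _ hkq' q hqS, inv_mul_cancel_left]
        exact hkq'
      refine sup_le le_sup_left ?_
      rw [Subgroup.zpowers_le]
      have e3 : k * (q * q') * k⁻¹ = (k * (q * q') * k⁻¹ * (q * q'⁻¹)) * (q * q'⁻¹)⁻¹ := by group
      rw [e3]
      exact Subgroup.mul_mem _ (Subgroup.mem_sup_left e)
        (Subgroup.inv_mem _ (Subgroup.mem_sup_right (Subgroup.mem_zpowers _)))
    · have e : k * (q * q') * k⁻¹ * (q * q'⁻¹) ∈ Z := by
        have e1 : k * (q * q') * k⁻¹ * (q * q'⁻¹) = (k * q * k⁻¹ * q) * ((q⁻¹ * (k * q' * k⁻¹ * q'⁻¹) * q) *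
          (q⁻¹ * q' * q⁻¹⁻¹ * q'⁻¹)) := by group
        rw [e1]
        refine Z.mul_mem hkq (Z.mul_mem ?_ (hcomm _ (Subgroup.inv_mem _ hqS) _ hqS'))
        rw [mul_assoc, hZc _ hkq' q hqS, inv_mul_cancel_left]
        exact hkq'
      refine sup_le le_sup_left ?_
      rw [Subgroup.zpowers_le]
      have e3 : q * q'⁻¹ = (k * (q * q') * k⁻¹)⁻¹ * (k * (q * q') * k⁻¹ * (q * q'⁻¹)) := by group
      rw [e3]
      exact Subgroup.mul_mem _ (Subgroup.inv_mem _ (Subgroup.mem_sup_right (Subgroup.mem_zpowers _)))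
        (Subgroup.mem_sup_left e)
  have hkMP : cj k M = P := by
    refine le_antisymm ?_ ?_
    all_goals
      rw [hP, hM, cj_sup, hkZ, hzpow]
    · have e : k * (q * q'⁻¹) * k⁻¹ * (q * q') ∈ Z := by
        have e1 : k * (q * q'⁻¹) * k⁻¹ * (q * q') = (k * q * k⁻¹ * q) * (q⁻¹ * (k * q' * k⁻¹ * q'⁻¹)⁻¹ * q *
          (q⁻¹ * (k * q' * k⁻¹ * q'⁻¹) * (k * q' * k⁻¹)⁻¹ * q * q')) := by group
        have e2 : q⁻¹ * (k * q' * k⁻¹ * q'⁻¹) * (k * q' * k⁻¹)⁻¹ * q * q' = q⁻¹ * q'⁻¹ * q⁻¹⁻¹ * q'⁻¹⁻¹ := by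
          have h4 := hZc _ hkq' (k * q' * k⁻¹)⁻¹ (Subgroup.inv_mem _ (Nm_conj hkN hqS'))
          rw [mul_assoc q⁻¹, h4]
          group
        rw [e1, e2]
        refine Z.mul_mem hkq (Z.mul_mem ?_ (hcomm _ (Subgroup.inv_mem _ hqS) _ (Subgroup.inv_mem _ hqS')))
        rw [mul_assoc, hZc _ (Z.inv_mem hkq') q hqS, inv_mul_cancel_left]
        exact Z.inv_mem hkq'
      refine sup_le le_sup_left ?_
      rw [Subgroup.zpowers_le]
      have e3 : k * (q * q'⁻¹) * k⁻¹ = (k * (q * q'⁻¹) * k⁻¹ * (q * q')) * (q * q')⁻¹ := by group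
      rw [e3]
      exact Subgroup.mul_mem _ (Subgroup.mem_sup_left e)
        (Subgroup.inv_mem _ (Subgroup.mem_sup_right (Subgroup.mem_zpowers _)))
    · have e : k * (q * q'⁻¹) * k⁻¹ * (q * q') ∈ Z := by
        have e1 : k * (q * q'⁻¹) * k⁻¹ * (q * q') = (k * q * k⁻¹ * q) * (q⁻¹ * (k * q' * k⁻¹ * q'⁻¹)⁻¹ * q *
          (q⁻¹ * (k * q' * k⁻¹ * q'⁻¹) * (k * q' * k⁻¹)⁻¹ * q * q')) := by group
        have e2 : q⁻¹ * (k * q' * k⁻¹ * q'⁻¹) * (k * q' * k⁻¹)⁻¹ * q * q' = q⁻¹ * q'⁻¹ * q⁻¹⁻¹ * q'⁻¹⁻¹ := by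
          have h4 := hZc _ hkq' (k * q' * k⁻¹)⁻¹ (Subgroup.inv_mem _ (Nm_conj hkN hqS'))
          rw [mul_assoc q⁻¹, h4]
          group
        rw [e1, e2]
        refine Z.mul_mem hkq (Z.mul_mem ?_ (hcomm _ (Subgroup.inv_mem _ hqS) _ (Subgroup.inv_mem _ hqS')))
        rw [mul_assoc, hZc _ (Z.inv_mem hkq') q hqS, inv_mul_cancel_left]
        exact Z.inv_mem hkq'
      refine sup_le le_sup_left ?_
      rw [Subgroup.zpowers_le]
      have e3 : q * q' = (k * (q * q'⁻¹) * k⁻¹)⁻¹ * (k * (q * q'⁻¹) * k⁻¹ * (q * q')) := by group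
      rw [e3]
      exact Subgroup.mul_mem _ (Subgroup.inv_mem _ (Subgroup.mem_sup_right (Subgroup.mem_zpowers _)))
        (Subgroup.mem_sup_left e)
  have hPmem : q * q' ∈ P := Subgroup.mem_sup_right (Subgroup.mem_zpowers _)
  have hMmem : q * q'⁻¹ ∈ M := Subgroup.mem_sup_right (Subgroup.mem_zpowers _)
  by_cases hPO : P ∈ O
  · right
    have hMO : M ∈ O := hkPM ▸ hkO P hPO
    have hO4 : O = {Op 3 A, Op 3 B, P, M} := by
      apply Set.Subset.antisymm hsub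
      rintro X (rfl | rfl | rfl | rfl)
      · exact hOA
      · exact hOB
      · exact hPO
      · exact hMO
    have hqB : q ∉ Op 3 B := fun h0 => hqZ (by rw [hZ, ← hL]; exact ⟨hq, h0⟩)
    have hqA' : q' ∉ Op 3 A := fun h0 => hqZ' (by rw [hZ, ← hL]; exact ⟨h0, hq'⟩)
    have n1 : Op 3 A ≠ P := by
      intro h0
      rw [← h0] at hPmem
      have := Subgroup.mul_mem _ (Subgroup.inv_mem _ hq) hPmem
      rw [inv_mul_cancel_left] at this
      exact hqA' this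
    have n2 : Op 3 A ≠ M := by
      intro h0
      rw [← h0] at hMmem
      have := Subgroup.mul_mem _ (Subgroup.inv_mem _ hq) hMmem
      rw [inv_mul_cancel_left, Subgroup.inv_mem_iff] at this
      exact hqA' this
    have n3 : Op 3 B ≠ P := by
      intro h0
      rw [← h0] at hPmem
      have := Subgroup.mul_mem _ hPmem (Subgroup.inv_mem _ hq')
      rw [mul_inv_cancel_right] at this
      exact hqB this
    have n4 : Op 3 B ≠ M := by
      intro h0
      rw [← h0] at hMmem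
      have := Subgroup.mul_mem _ hMmem hq'
      rw [inv_mul_cancel_right] at this
      exact hqB this
    have n5 : P ≠ M := by
      intro h0
      rw [← h0] at hMmem
      have h2 := P.mul_mem (P.inv_mem hMmem) hPmem
      have e : (q * q'⁻¹)⁻¹ * (q * q') = q' * q' := by group
      rw [e] at h2
      have h3 : q' ∈ P := sq_mem ((h.symm.EA_Q hb').exp q' hq') h2
      -- then `P ≥ Z ⊔ ⟨q'⟩ = Q_B` and has the same order
      obtain ⟨x, hx, hx'⟩ := hPO
      have h4 : Nat.card P = 9 := by rw [← hx', card_cj, h.b1_cardQ h1 hb]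
      apply n3
      have h5 : Op 3 B ≤ P := by
        have h6 : Z ⊔ Subgroup.zpowers q' = Op 3 B := by
          have hZidx' : Z.relIndex (Op 3 B) = 3 := by
            have := h.symm.b1_idxZ h1' hb'
            rwa [ZZ_comm] at this
          refine eq_of_prime_relIndex Nat.prime_three le_sup_left (sup_le h.Z_le_Q' ?_) hZidx' ?_
          · rwa [Subgroup.zpowers_le]
          · exact fun h0 => hqZ' (h0 (Subgroup.mem_sup_right (Subgroup.mem_zpowers _)))
        rw [← h6]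
        exact sup_le le_sup_left (by rwa [Subgroup.zpowers_le])
      exact Subgroup.eq_of_le_of_card_ge h5 (by rw [h4, h.symm.b1_cardQ h1' hb'])
    rw [hO4, Set.ncard_insert_of_notMem, Set.ncard_insert_of_notMem, Set.ncard_pair n5]
    · rintro (h0 | h0)
      · exact n3 h0
      · exact n4 h0
    · rintro (h0 | h0 | h0)
      · exact hAB h0
      · exact n1 h0
      · exact n2 h0
  · left
    have hMO : M ∉ O := fun h0 => hPO (hkMP ▸ hkO M h0)
    have hO2 : O = {Op 3 A, Op 3 B} := by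
      apply Set.Subset.antisymm
      · intro X hX
        rcases hsub hX with rfl | rfl | rfl | rfl
        · exact Or.inl rfl
        · exact Or.inr rfl
        · exact absurd hX hPO
        · exact absurd hX hMO
      · rintro X (rfl | rfl)
        · exact hOA
        · exact hOB
    rw [hO2, Set.ncard_pair hAB]

theorem Mn.b1_cardN (h : Mn A B) (h1 : Nat.card (YY A) = 1) (hb : ¬ VV A ≤ Op 3 B) :
    Nat.card (Nm (SS A B)) = 216 ∨ Nat.card (Nm (SS A B)) = 432 := by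
  have h2 := card_mul_relIndex (inf_le_left : Nm (SS A B) ⊓ Nm (Op 3 A) ≤ Nm (SS A B))
  rw [relIndex_Nm] at h2
  have h3 : Nm (SS A B) ⊓ Nm (Op 3 A) = A ⊓ B := by
    rw [h.Nm_Q, inf_comm, h.inf_Nm_S]
  rw [h3, h.card_C, h.card_S, h.b1_cardQ h1 hb] at h2
  rcases h.b1_orbit h1 hb with h4 | h4 <;> rw [h4] at h2 <;> omega

theorem Mn.conf432 (h : Mn A B) (h1 : Nat.card (YY A) = 1) (hb : ¬ VV A ≤ Op 3 B) (hs : IsSimpleGroup G)
    (hA : IsCoatom A) : ∃ g, Conf432 A (Op 3 A) (SS A B) g := by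
  obtain ⟨g, hg, hgS, -⟩ := h.exists_g
  have hcS : Nat.card (SS A B) = 27 := by rw [h.card_S, h.b1_cardQ h1 hb]
  have hcN := h.b1_cardN h1 hb
  refine ⟨g, ?_⟩
  constructor
  · exact hs
  · exact hA
  · rw [h.card_A, h.b1_cardQ h1 hb]
  · exact h.b1_cardQ h1 hb
  · exact (h.EA_Q hb).comm
  · refine le_antisymm h.centralizer_Q_le ?_
    intro x hx
    rw [Subgroup.mem_centralizer_iff]
    intro y hy
    exact (h.EA_Q hb).comm y hy x hx
  · exact h.Nm_Q
  · exact h.b1_trans h1 hb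
  · exact le_sup_left
  · exact h.S_le_A
  · exact hcS
  · exact h.b1_exp h1 hb
  · intro h0
    have h2 : 3 ^ (3 + 1) ∣ Nat.card (Nm (SS A B)) :=
      three_dvd_of_not_sylow (by rw [hcS]; norm_num) (by norm_num; exact h0)
    rcases hcN with h3 | h3 <;> rw [h3] at h2 <;> norm_num at h2
  · exact mem_Nm.2 hgS
  · intro h0
    have h2 : cj g (Op 3 A) = Op 3 A := h0
    rw [cj_Op, hg] at h2
    exact h.Q_ne_Q h2.le
  · have h2 : (cj g A).relIndex A = 4 := by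
      rw [hg, ← h.idx, inf_comm, Subgroup.inf_relIndex_right]
    exact h2
  · exact hcN
  · obtain ⟨D, hD, hD4, hD2⟩ := h.exists_four
    exact ⟨D, hD.trans h.C_le_Nm_S, hD.trans inf_le_left, hD4, hD2⟩

end

end Cfsg.Agent.H399
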