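import Cfsg.Agent.H399.LocalG

/-!
# Critical distance 2: `W_A = ⟨V_B^A⟩`
-/

set_option autoImplicit false
set_option linter.unusedSectionVars false
set_option linter.unnecessarySeqFocus false

open Pointwise

namespace Cfsg.Agent.H399

variable {G : Type*} [Group G]

/-- The situation for critical distance 2. -/
structure B2 (A B : Subgroup G) : Prop extends Mn A B where
  cardY : Nat.card (YY A) = 3
  swap : ∃ g, cj g A = B ∧ cj g B = A ∧ cj g (SS A B) = SS A B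
  leQ : VV B ≤ Op 3 A
  leQ' : VV A ≤ Op 3 B
  ncomm : ∀ a ∈ A, a ∉ A ⊓ B → ¬ VV B ≤ Op 3 (cj a B)

section

variable [Finite G] {A B : Subgroup G}

theorem Mn.YY_sup (h : Mn A B) (h3 : Nat.card (YY A) = 3) : YY A ⊔ YY B = ZZ A B := by
  refine Subgroup.eq_of_le_of_card_ge (sup_le h.YY_le_Z h.YY_le_Z') ?_
  have h1 := card_sup ((h.EA_V.mono h.Z_le_V).le_Nm h.YY_le_Z h.YY_le_Z')
  rw [h.YY_inf, Subgroup.card_bot, mul_one, h.card_YY, h3] at h1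
  rw [h1, h.card_Z, h3]

/-- the lines of `Z` invariant under `C` -/
theorem Mn.line_eq (h : Mn A B) (h3 : Nat.card (YY A) = 3) {R : Subgroup G} (hR : Nat.card R = 3)
    (hRZ : R ≤ ZZ A B) (hC : A ⊓ B ≤ Nm R) : R = YY A ∨ R = YY B := by
  obtain ⟨k, hk, hkQ⟩ := h.exists_KQ
  obtain ⟨r, hr, hr1⟩ : ∃ r ∈ R, r ≠ 1 := by
    by_contra hcon
    push Not at hcon
    have : R = ⊥ := by
      rw [eq_bot_iff]
      intro x hx
      rw [Subgroup.mem_bot]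
      exact hcon x hx
    rw [this, Subgroup.card_bot] at hR
    omega
  have hEZ : EA (ZZ A B) := h.EA_V.mono h.Z_le_V
  have hrZ := hRZ hr
  rw [← h.YY_sup h3, mul_mem_sup_iff (hEZ.le_Nm h.YY_le_Z h.YY_le_Z')] at hrZ
  obtain ⟨y, hy, y', hy', rfl⟩ := hrZ
  have h4 : k * (y * y') * k⁻¹ ∈ R := Nm_conj (hC (K_le A B hk)) hr
  have e1 : k * (y * y') * k⁻¹ = y * y'⁻¹ := by
    have e2 : k * y * k⁻¹ = y := by rw [h.cent_Y hk hy, mul_inv_cancel_right]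
    have e3 : k * y' * k⁻¹ = y'⁻¹ := (h.YY_le_RR hy').2 k hk hkQ
    calc k * (y * y') * k⁻¹ = (k * y * k⁻¹) * (k * y' * k⁻¹) := by group
      _ = y * y'⁻¹ := by rw [e2, e3]
  rw [e1] at h4
  have hyy : y * y' = y' * y := hEZ.comm y (h.YY_le_Z hy) y' (h.YY_le_Z' hy')
  have h5 : y * y ∈ R := by
    have := R.mul_mem hr h4
    have e : y * y' * (y * y'⁻¹) = y * y := by
      rw [hyy, mul_assoc y' y, ← mul_assoc y y, ← mul_assoc y' (y * y)]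
      have : y' * (y * y) = y * y * y' := by rw [← mul_assoc, ← hyy, mul_assoc, ← hyy, mul_assoc]
      rw [this, mul_inv_cancel_right]
    rwa [e] at this
  have h6 : y' * y' ∈ R := by
    have := R.mul_mem (R.inv_mem h4) hr
    have e : (y * y'⁻¹)⁻¹ * (y * y') = y' * y' := by group
    rwa [e] at this
  have h7 : y ∈ R := sq_mem (h.YY_le_Z hy).2.1 h5
  have h8 : y' ∈ R := sq_mem (h.YY_le_Z' hy').2.1 h6
  by_cases hy1 : y = 1
  · right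
    have hy'1 : y' ≠ 1 := by
      rintro rfl
      apply hr1
      rw [hy1, mul_one]
    rw [← eq_of_card_three hR h8 hy'1, eq_of_card_three (h.symm_card_YY h3) hy' hy'1]
  · left
    rw [← eq_of_card_three hR h7 hy1, eq_of_card_three h3 hy hy1]

theorem Mn.Nm_Y (h : Mn A B) (h3 : Nat.card (YY A) = 3) : Nm (YY A) = A := by
  refine h.N _ ((YY_le A).trans (h.V_le_Q.trans (Op_le _ _))) ?_ (le_Nm_YY A)
  rw [Ne, ← Subgroup.card_eq_one, h3]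
  norm_num

theorem Mn.exists_swap (h : Mn A B) (h3 : Nat.card (YY A) = 3) :
    ∃ g, cj g A = B ∧ cj g B = A ∧ cj g (SS A B) = SS A B := by
  obtain ⟨g, hg, hgS, hgC⟩ := h.exists_g
  refine ⟨g, hg, ?_, hgS⟩
  have hZ : cj g (ZZ A B) = ZZ A B := by rw [cj_OZ, hgS]
  have h4 : cj g (YY B) = YY A ∨ cj g (YY B) = YY B := by
    refine h.line_eq h3 ?_ ?_ ?_
    · rw [card_cj, h.symm_card_YY h3]
    · rw [← hZ, cj_le_cj]
      exact h.YY_le_Z'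
    · rw [← hgC, ← cj_Nm, cj_le_cj]
      exact inf_le_right.trans (le_Nm_YY B)
  rcases h4 with h4 | h4
  · have h5 := congrArg Nm h4
    rw [← cj_Nm, h.Nm_Y h3, h.symm.Nm_Y (h.symm_card_YY h3)] at h5
    exact h5
  · exfalso
    have h5 : cj g (YY A) = YY B := by rw [cj_YY, hg]
    rw [← h5, cj_inj] at h4
    have h6 := h.YY_inf
    rw [← h5, h4, inf_idem, ← Subgroup.card_eq_one, h3] at h6
    omega

theorem Adj.exists_eq (hs : ∃ g, cj g A = B ∧ cj g B = A ∧ cj g (SS A B) = SS A B) {X Y : Subgroup G}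
    (h : Adj A B X Y) : ∃ x, X = cj x A ∧ Y = cj x B := by
  obtain ⟨g, hg, hg', -⟩ := hs
  obtain ⟨x, ⟨rfl, rfl⟩ | ⟨rfl, rfl⟩⟩ := h
  · exact ⟨x, rfl, rfl⟩
  · exact ⟨x * g, by rw [cj_mul, hg], by rw [cj_mul, hg']⟩

theorem Mn.Nm_self (h : Mn A B) : Nm A = A := by
  refine h.N A le_rfl ?_ (self_le_Nm A)
  intro h0
  have h1 := h.Q_ne
  apply h1
  rw [eq_bot_iff, ← h0]
  exact Op_le _ _

/-- transitivity of `C` on the other cosets -/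
theorem Mn.exists_c (h : Mn A B) {a b : G} (ha : a ∈ A) (hb : b ∈ A) (haC : a ∉ A ⊓ B) (hbC : b ∉ A ⊓ B) :
    ∃ c ∈ A ⊓ B, cj (c * a) B = cj b B := by
  obtain ⟨φ, hφ⟩ := h.hom
  have ha0 : φ ⟨a, ha⟩ 0 ≠ 0 := fun h0 => haC ((hφ.stab ⟨a, ha⟩).2 h0)
  have hb0 : φ ⟨b, hb⟩ 0 ≠ 0 := fun h0 => hbC ((hφ.stab ⟨b, hb⟩).2 h0)
  have key : ∀ i j : Fin 4, i ≠ 0 → j ≠ 0 → ∃ σ : Equiv.Perm (Fin 4), Equiv.Perm.sign σ = 1 ∧ σ 0 = 0 ∧ σ i = j := by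
    decide +kernel
  obtain ⟨σ, h1, h2, h3⟩ := key _ _ ha0 hb0
  obtain ⟨c, hc, hc'⟩ := hφ.exists_alt σ h1
  refine ⟨c, ?_, ?_⟩
  · rw [hφ.stab ⟨c, hc⟩, hc', h2]
  · have hmem : b⁻¹ * (c * a) ∈ A := A.mul_mem (A.inv_mem hb) (A.mul_mem hc ha)
    have h4 : b⁻¹ * (c * a) ∈ A ⊓ B := by
      rw [hφ.stab ⟨_, hmem⟩]
      have e : φ ⟨b⁻¹ * (c * a), hmem⟩ = (φ ⟨b, hb⟩)⁻¹ * (σ * φ ⟨a, ha⟩) := by
        rw [← hc', ← map_inv, ← map_mul, ← map_mul]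
        rfl
      rw [e, Equiv.Perm.mul_apply, Equiv.Perm.mul_apply, Equiv.Perm.inv_eq_iff_eq, h3]
    have e : c * a = b * (b⁻¹ * (c * a)) := by group
    rw [e, cj_mul, cj_of_mem h4.2]

/-- In the case `|Y| = 3` we are in the situation `B2`. -/
theorem Mn.toB2 (h : Mn A B) (h3 : Nat.card (YY A) = 3) : B2 A B := by
  obtain ⟨n, X, X1, Y', Y, hC⟩ := h.exists_Crit
  obtain ⟨rfl, rfl⟩ := h.crit_three h3 hC
  have hsw := h.exists_swap h3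
  have hmin : ∀ X Y, Adj A B X Y → VV X ≤ Op 3 Y := fun X Y hXY =>
    hC.min 1 le_rfl X Y ⟨Y, hXY, rfl, hXY.symm.isV h.conj⟩
  have hAB : Adj A B A B := ⟨1, Or.inl ⟨(cj_one A).symm, (cj_one B).symm⟩⟩
  refine ⟨h, h3, hsw, hmin B A hAB.symm, hmin A B hAB, ?_⟩
  obtain ⟨x, hx1, hx2⟩ := hC.adj.symm.exists_eq hsw
  obtain ⟨y, hy1, hy2⟩ := hC.adj'.exists_eq hsw
  intro b hb hbC hcon
  -- `X = cj x B`, `Y = cj y B`, `x⁻¹ y ∈ A`
  have h4 : x⁻¹ * y ∈ A := by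
    rw [← h.Nm_self, mem_Nm, cj_mul, ← hy1, hx1, cj_inv_cj]
  have h5 : x⁻¹ * y ∉ A ⊓ B := by
    intro h5
    apply hC.crit
    have h6 : X = Y := by
      rw [hx2, hy2]
      have e : y = x * (x⁻¹ * y) := by group
      rw [e, cj_mul, cj_of_mem h5.2]
    rw [h6]
    exact (h.of_adj hC.adj'.symm).V_le_Q
  obtain ⟨c, hc, hc'⟩ := h.exists_c hb h4 hbC h5
  have h7 := cj_le_cj (x := c).2 hcon
  rw [cj_VV, cj_Op, cj_of_mem hc.2, ← cj_mul, hc'] at h7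
  have h8 := cj_le_cj (x := x).2 h7
  rw [cj_VV, cj_Op, ← cj_mul] at h8
  have e : x * (x⁻¹ * y) = y := by group
  rw [e, ← hx2, ← hy2] at h8
  exact hC.crit h8

theorem B2.symm (h : B2 A B) : B2 B A where
  toMn := h.toMn.symm
  cardY := h.toMn.symm_card_YY h.cardY
  swap := by
    obtain ⟨g, hg, hg', hgS⟩ := h.swap
    refine ⟨g, hg', hg, ?_⟩
    rw [SS_comm, hgS]
  leQ := h.leQ'
  leQ' := h.leQ
  ncomm := by
    intro b hb hbC hcon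
    obtain ⟨g, hg, hg', -⟩ := h.swap
    have h1 : g⁻¹ * b * g ∈ A := by
      rw [← mem_cj, hg]
      exact hb
    refine h.ncomm _ h1 ?_ ?_
    · intro h2
      apply hbC
      refine ⟨hb, ?_⟩
      have h3 : g⁻¹ * b * g ∈ B := h2.2
      rwa [← mem_cj, hg'] at h3
    · have h2 := cj_le_cj (x := g⁻¹).2 hcon
      rw [cj_VV, cj_Op, ← cj_mul] at h2
      have e1 : cj g⁻¹ A = B := by rw [← hg', cj_inv_cj]
      have e2 : cj (g⁻¹ * b) A = cj (g⁻¹ * b * g) B := by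
        rw [cj_mul (g⁻¹ * b) g, hg']
      rwa [e1, e2] at h2

/-! ### `W` -/

/-- `W_A` -/
abbrev WW (A B : Subgroup G) : Subgroup G := ncl A (VV B)

theorem B2.W_le (h : B2 A B) : WW A B ≤ Op 3 A := ncl_le h.leQ (le_Nm_Op 3 A)

theorem B2.V_le_W (h : B2 A B) : VV A ≤ WW A B := h.V_le_ncl

/-- `[Q_A, W_A] ≤ Y_A` -/
theorem B2.comm_QW (h : B2 A B) {q w : G} (hq : q ∈ Op 3 A) (hw : w ∈ WW A B) : q * w * q⁻¹ * w⁻¹ ∈ YY A := by
  have hYc : ∀ y ∈ YY A, ∀ q ∈ Op 3 A, y * q = q * y := fun y hy q hq => h.V_comm (YY_le A hy) hq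
  -- the subgroup of all `w` with this property
  let T : Subgroup G :=
    { carrier := {w | w ∈ Op 3 A ∧ ∀ q ∈ Op 3 A, q * w * q⁻¹ * w⁻¹ ∈ YY A}
      one_mem' := ⟨Subgroup.one_mem _, fun q _ => by simp⟩
      mul_mem' := by
        rintro x y ⟨hx, hx'⟩ ⟨hy, hy'⟩
        refine ⟨Subgroup.mul_mem _ hx hy, fun q hq => ?_⟩
        have e : q * (x * y) * q⁻¹ * (x * y)⁻¹ = (q * x * q⁻¹ * x⁻¹) * (x * (q * y * q⁻¹ * y⁻¹) * x⁻¹) := by group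
        rw [e, ← hYc _ (hy' q hq) x hx, mul_inv_cancel_right]
        exact Subgroup.mul_mem _ (hx' q hq) (hy' q hq)
      inv_mem' := by
        rintro x ⟨hx, hx'⟩
        refine ⟨Subgroup.inv_mem _ hx, fun q hq => ?_⟩
        have e : q * x⁻¹ * q⁻¹ * x⁻¹⁻¹ = x⁻¹ * (q * x * q⁻¹ * x⁻¹)⁻¹ * x := by group
        rw [e, mul_assoc, hYc _ (Subgroup.inv_mem _ (hx' q hq)) x hx, inv_mul_cancel_left]
        exact Subgroup.inv_mem _ (hx' q hq) }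
  have h1 : WW A B ≤ T := by
    refine ncl_le' fun a ha x hx => ?_
    rw [mem_cj] at hx
    have h2 : ∀ v ∈ VV B, ∀ q ∈ Op 3 A, q * v * q⁻¹ * v⁻¹ ∈ YY A := by
      intro v hv q hq
      have hqS : q ∈ SS B A := by
        rw [SS_comm]
        exact Subgroup.mem_sup_left hq
      have := h.toMn.symm.comm_VS_RR hv hqS
      rwa [h.toMn.symm.RR_eq_YY (h.toMn.symm_card_YY h.cardY)] at this
    refine ⟨?_, fun q hq => ?_⟩
    · have := Nm_conj (le_Nm_Op 3 A ha) (h.leQ hx)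
      have e : a * (a⁻¹ * x * a) * a⁻¹ = x := by group
      rwa [e] at this
    · have h3 := h2 _ hx _ (Nm_conj' (le_Nm_Op 3 A ha) hq)
      have h4 := Nm_conj (le_Nm_YY A ha) h3
      have e : a * (a⁻¹ * q * a * (a⁻¹ * x * a) * (a⁻¹ * q * a)⁻¹ * (a⁻¹ * x * a)⁻¹) * a⁻¹ = q * x * q⁻¹ * x⁻¹ := by
        group
      rwa [e] at h4
  exact (h1 hw).2 q hq

theorem B2.W_exp (h : B2 A B) {w : G} (hw : w ∈ WW A B) : w ^ 3 = 1 := by
  have hYc : ∀ y ∈ YY A, ∀ q ∈ Op 3 A, y * q = q * y := fun y hy q hq => h.V_comm (YY_le A hy) hq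
  let T : Subgroup G :=
    { carrier := {w | w ∈ WW A B ∧ w ^ 3 = 1}
      one_mem' := ⟨Subgroup.one_mem _, one_pow 3⟩
      mul_mem' := by
        rintro x y ⟨hx, hx'⟩ ⟨hy, hy'⟩
        refine ⟨Subgroup.mul_mem _ hx hy, ?_⟩
        have hc := h.comm_QW (h.W_le hy) hx
        refine cube_eq_one hx' hy' (c := y * x * y⁻¹ * x⁻¹) (by group) (hYc _ hc x (h.W_le hx))
          (hYc _ hc y (h.W_le hy)) (h.YY_le_Z hc).2.1
      inv_mem' := by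
        rintro x ⟨hx, hx'⟩
        exact ⟨Subgroup.inv_mem _ hx, by rw [inv_pow, hx', inv_one]⟩ }
  have h1 : WW A B ≤ T := by
    refine ncl_le' fun a ha x hx => ⟨cj_le_ncl ha hx, ?_⟩
    exact (h.symm.EA_V.cjBy a).exp x hx
  exact (h1 hw).2

theorem B2.exists_s (h : B2 A B) : ∃ s ∈ WW B A, s ∉ Op 3 A := by
  obtain ⟨b, hb, hbC⟩ := h.toMn.symm.exists_not
  have hbC' : b⁻¹ ∉ B ⊓ A := fun h0 => hbC (by simpa using (B ⊓ A).inv_mem h0)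
  have h1 := h.symm.ncomm b⁻¹ (B.inv_mem hb) hbC'
  have h2 : ¬ VV (cj b A) ≤ Op 3 A := by
    intro h3
    have h4 := cj_le_cj (x := b⁻¹).2 h3
    rw [cj_VV, cj_inv_cj, cj_Op] at h4
    exact h1 h4
  obtain ⟨s, hs, hs'⟩ := SetLike.not_le_iff_exists.1 h2
  refine ⟨s, cj_le_ncl hb ?_, hs'⟩
  rw [cj_VV]
  exact hs

/-- quadratic action of `s ∈ W_B` on `W_A / V_A`. -/
theorem B2.quad (h : B2 A B) {s w : G} (hs : s ∈ WW B A) (hw : w ∈ WW A B) :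
    s * (s * w * s⁻¹ * w⁻¹) * s⁻¹ * (s * w * s⁻¹ * w⁻¹)⁻¹ ∈ VV A := by
  have hwB : w ∈ B := (h.Q_le_C (h.W_le hw)).2
  have h1 : s * w * s⁻¹ * w⁻¹ ∈ WW B A := by
    have h2 : w * s⁻¹ * w⁻¹ ∈ WW B A := Nm_conj (le_Nm_ncl B (VV A) hwB) (Subgroup.inv_mem _ hs)
    have e : s * w * s⁻¹ * w⁻¹ = s * (w * s⁻¹ * w⁻¹) := by group
    rw [e]
    exact Subgroup.mul_mem _ hs h2
  have h3 := h.symm.comm_QW (h.symm.W_le hs) h1
  exact h.Z_le_V (h.YY_le_Z' h3)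

end

end Cfsg.Agent.H399
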