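import Cfsg.Agent.H399.LocalH

/-!
# Critical distance 2: the order of `A`
-/

set_option autoImplicit false
set_option linter.unusedSectionVars false
set_option linter.unnecessarySeqFocus false

open Pointwise

namespace Cfsg.Agent.H399

variable {G : Type*} [Group G]

theorem key_span : ∀ σ : Equiv.Perm (Fin 4), (σ 0 = 0 ∧ σ ≠ 1 ∧ σ ^ 3 = 1) → ∀ i j : Fin 4, (i ≠ 0 ∧ j ≠ 0 ∧ i ≠ j) →
    ∃ ρ : Equiv.Perm (Fin 4), Equiv.Perm.sign ρ = 1 ∧ ∃ b : Fin 4, ρ b = 0 ∧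
      ((ρ (σ b) = i ∧ ρ (σ (σ b)) = j) ∨ (ρ (σ (σ b)) = i ∧ ρ (σ b) = j)) := by
  decide +kernel

theorem Hom4.span {A C : Subgroup G} {φ : ↥A →* Equiv.Perm (Fin 4)} (h : Hom4 A C φ) (hCA : C ≤ A) {s : G}
    (hs : s ∈ C) (h3 : s ^ 3 ∈ core A C) (hsK : s ∉ core A C) {a x : G} (ha : a ∈ A) (hx : x ∈ A) (haC : a ∉ C)
    (hxC : x ∉ C) (hax : a⁻¹ * x ∉ C) :
    ∃ c ∈ A, ∃ b ∈ A, c * b ∈ C ∧ ((a⁻¹ * (c * (s * b)) ∈ C ∧ x⁻¹ * (c * (s * s * b)) ∈ C) ∨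
      (a⁻¹ * (c * (s * s * b)) ∈ C ∧ x⁻¹ * (c * (s * b)) ∈ C)) := by
  have hsA := hCA hs
  have k1 : φ ⟨s, hsA⟩ 0 = 0 := (h.stab _).1 hs
  have k2 : φ ⟨s, hsA⟩ ≠ 1 := fun h0 => hsK ((h.ker ⟨s, hsA⟩).2 h0)
  have k3 : φ ⟨s, hsA⟩ ^ 3 = 1 := by
    rw [← map_pow]
    exact (h.ker ⟨s ^ 3, A.pow_mem hsA 3⟩).1 h3
  have ha0 : φ ⟨a, ha⟩ 0 ≠ 0 := fun h0 => haC ((h.stab ⟨a, ha⟩).2 h0)
  have hx0 : φ ⟨x, hx⟩ 0 ≠ 0 := fun h0 => hxC ((h.stab ⟨x, hx⟩).2 h0)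
  have hax0 : φ ⟨a, ha⟩ 0 ≠ φ ⟨x, hx⟩ 0 := by
    intro h0
    apply hax
    have hmem : a⁻¹ * x ∈ A := A.mul_mem (A.inv_mem ha) hx
    rw [h.stab ⟨_, hmem⟩]
    have e : φ ⟨a⁻¹ * x, hmem⟩ = (φ ⟨a, ha⟩)⁻¹ * φ ⟨x, hx⟩ := by
      rw [← map_inv, ← map_mul]
      rfl
    rw [e, Equiv.Perm.mul_apply, Equiv.Perm.inv_eq_iff_eq, h0]
  obtain ⟨ρ, hρ, b0, hb0, hij⟩ := key_span _ ⟨k1, k2, k3⟩ _ _ ⟨ha0, hx0, hax0⟩
  obtain ⟨c, hc, hc'⟩ := h.exists_alt ρ hρ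
  obtain ⟨b, hb, hb'⟩ := h.trans b0
  have hsb : s * b ∈ A := A.mul_mem hsA hb
  have hssb : s * s * b ∈ A := A.mul_mem (A.mul_mem hsA hsA) hb
  have e1 : ∀ y, ∀ hy : y ∈ A, ∀ hm : y⁻¹ * (c * (s * b)) ∈ A, ρ (φ ⟨s, hsA⟩ b0) = φ ⟨y, hy⟩ 0 →
      y⁻¹ * (c * (s * b)) ∈ C := by
    intro y hy hm h5
    rw [h.stab ⟨_, hm⟩]
    have e : φ ⟨y⁻¹ * (c * (s * b)), hm⟩ = (φ ⟨y, hy⟩)⁻¹ * (ρ * (φ ⟨s, hsA⟩ * φ ⟨b, hb⟩)) := by
      rw [← hc', ← map_inv, ← map_mul, ← map_mul, ← map_mul]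
      rfl
    rw [e, Equiv.Perm.mul_apply, Equiv.Perm.mul_apply, Equiv.Perm.mul_apply, hb', Equiv.Perm.inv_eq_iff_eq, h5]
  have e2 : ∀ y, ∀ hy : y ∈ A, ∀ hm : y⁻¹ * (c * (s * s * b)) ∈ A, ρ (φ ⟨s, hsA⟩ (φ ⟨s, hsA⟩ b0)) = φ ⟨y, hy⟩ 0 →
      y⁻¹ * (c * (s * s * b)) ∈ C := by
    intro y hy hm h5
    rw [h.stab ⟨_, hm⟩]
    have e : φ ⟨y⁻¹ * (c * (s * s * b)), hm⟩ = (φ ⟨y, hy⟩)⁻¹ * (ρ * (φ ⟨s, hsA⟩ * φ ⟨s, hsA⟩ * φ ⟨b, hb⟩)) := by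
      rw [← hc', ← map_inv, ← map_mul, ← map_mul, ← map_mul, ← map_mul]
      rfl
    rw [e, Equiv.Perm.mul_apply, Equiv.Perm.mul_apply, Equiv.Perm.mul_apply, Equiv.Perm.mul_apply, hb',
      Equiv.Perm.inv_eq_iff_eq, h5]
  refine ⟨c, hc, b, hb, ?_, ?_⟩
  · have hm : c * b ∈ A := A.mul_mem hc hb
    rw [h.stab ⟨_, hm⟩]
    have e : φ ⟨c * b, hm⟩ = ρ * φ ⟨b, hb⟩ := by
      rw [← hc', ← map_mul]
      rfl
    rw [e, Equiv.Perm.mul_apply, hb', hb0]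
  · have m1 : ∀ y ∈ A, y⁻¹ * (c * (s * b)) ∈ A := fun y hy => A.mul_mem (A.inv_mem hy) (A.mul_mem hc hsb)
    have m2 : ∀ y ∈ A, y⁻¹ * (c * (s * s * b)) ∈ A := fun y hy => A.mul_mem (A.inv_mem hy) (A.mul_mem hc hssb)
    rcases hij with ⟨h5, h6⟩ | ⟨h5, h6⟩
    · exact Or.inl ⟨e1 a ha (m1 a ha) h5, e2 x hx (m2 x hx) h6⟩
    · exact Or.inr ⟨e2 a ha (m2 a ha) h5, e1 x hx (m1 x hx) h6⟩

section

variable [Finite G] {A B : Subgroup G}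

theorem B2.rel (h : B2 A B) {s w : G} (hs : s ∈ WW B A) (hw : w ∈ WW A B) :
    (s * s * w * (s * s)⁻¹) * (s * w * s⁻¹) * w ∈ VV A := by
  have hsA : s ∈ A := (h.symm.Q_le_C (h.symm.W_le hs)).2
  set p := s * w * s⁻¹ with hp
  have hpW : p ∈ WW A B := Nm_conj (le_Nm_ncl A (VV B) hsA) hw
  have h1 := h.quad hs hw
  have h2 : (p * p)⁻¹ * w⁻¹ * (p * p)⁻¹⁻¹ * w⁻¹⁻¹ ∈ YY A :=
    h.comm_QW (Subgroup.inv_mem _ (h.W_le (Subgroup.mul_mem _ hpW hpW))) (Subgroup.inv_mem _ hw)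
  have e : (s * s * w * (s * s)⁻¹) * p * w =
      (s * (s * w * s⁻¹ * w⁻¹) * s⁻¹ * (s * w * s⁻¹ * w⁻¹)⁻¹) *
        (p * p * p * ((p * p)⁻¹ * w⁻¹ * (p * p)⁻¹⁻¹ * w⁻¹⁻¹)) := by
    rw [hp]
    group
  have e3 : p * p * p = 1 := by
    rw [← h.W_exp hpW]
    simp only [pow_succ, pow_zero, one_mul]
  rw [e, e3, one_mul]
  exact Subgroup.mul_mem _ h1 (YY_le A h2)

theorem B2.span1 (h : B2 A B) {s : G} (hs : s ∈ WW B A) (a : G) (ha : a ∈ A) :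
    cj (s * s * a) (VV B) ≤ VV A ⊔ cj a (VV B) ⊔ cj (s * a) (VV B) := by
  intro r hr
  rw [cj_mul, mem_cj] at hr
  have h1 := h.rel hs (cj_le_ncl ha hr)
  set w := (s * s)⁻¹ * r * (s * s) with hw
  have e : s * s * w * (s * s)⁻¹ = r := by
    rw [hw]
    group
  rw [e] at h1
  have e2 : r = (r * (s * w * s⁻¹) * w) * (w⁻¹ * (s * w * s⁻¹)⁻¹) := by group
  rw [e2]
  refine Subgroup.mul_mem _ (Subgroup.mem_sup_left (Subgroup.mem_sup_left h1)) (Subgroup.mul_mem _ ?_ ?_)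
  · exact Subgroup.inv_mem _ (Subgroup.mem_sup_left (Subgroup.mem_sup_right hr))
  · refine Subgroup.inv_mem _ (Subgroup.mem_sup_right ?_)
    rw [cj_mul, conj_mem_cj]
    exact hr

theorem B2.span2 (h : B2 A B) {s : G} (hs : s ∈ WW B A) (a : G) (ha : a ∈ A) :
    cj (s * a) (VV B) ≤ VV A ⊔ cj a (VV B) ⊔ cj (s * s * a) (VV B) := by
  intro p hp
  rw [cj_mul, mem_cj] at hp
  have h1 := h.rel hs (cj_le_ncl ha hp)
  set w := s⁻¹ * p * s with hw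
  have e : s * w * s⁻¹ = p := by
    rw [hw]
    group
  rw [e] at h1
  have e2 : p = (s * s * w * (s * s)⁻¹)⁻¹ * ((s * s * w * (s * s)⁻¹) * p * w) * w⁻¹ := by group
  rw [e2]
  refine Subgroup.mul_mem _ (Subgroup.mul_mem _ ?_ (Subgroup.mem_sup_left (Subgroup.mem_sup_left h1))) ?_
  · refine Subgroup.inv_mem _ (Subgroup.mem_sup_right ?_)
    rw [cj_mul, conj_mem_cj]
    exact hp
  · exact Subgroup.inv_mem _ (Subgroup.mem_sup_left (Subgroup.mem_sup_right hp))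

theorem cj_V_eq {x y : G} (hxy : y⁻¹ * x ∈ A ⊓ B) : cj x (VV B) = cj y (VV B) := by
  have e : x = y * (y⁻¹ * x) := by group
  rw [e, cj_mul, cj_of_mem_Nm (le_Nm_VV B hxy.2)]

theorem B2.span (h : B2 A B) {a x : G} (ha : a ∈ A) (haC : a ∉ A ⊓ B) (hx : x ∈ A) :
    cj x (VV B) ≤ VV A ⊔ VV B ⊔ cj a (VV B) := by
  by_cases hxC : x ∈ A ⊓ B
  · rw [cj_of_mem_Nm (le_Nm_VV B hxC.2)]
    exact le_sup_right.trans le_sup_left
  by_cases hax : a⁻¹ * x ∈ A ⊓ B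
  · rw [cj_V_eq hax]
    exact le_sup_right
  obtain ⟨s, hs, hsQ⟩ := h.exists_s
  have hsQ' := h.symm.W_le hs
  have hsS : s ∈ SS A B := Subgroup.mem_sup_right hsQ'
  have hsK : s ∉ K A B := fun h0 => hsQ (h.S_inf_K ⟨hsS, h0⟩)
  obtain ⟨φ, hφ⟩ := h.hom
  obtain ⟨c, hc, b, hb, hcb, h1 | h1⟩ := hφ.span inf_le_left (h.S_le hsS) (h.Q_le (h.pow_three_mem hsS)) hsK ha hx haC
    hxC hax
  · have h2 := cj_le_cj (x := c).2 (h.span1 hs b hb)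
    rw [cj_sup, cj_sup, ← cj_mul, ← cj_mul, ← cj_mul, cj_of_mem_Nm (le_Nm_VV A hc), cj_V_eq h1.1, cj_V_eq h1.2,
      cj_of_mem_Nm (le_Nm_VV B hcb.2)] at h2
    exact h2
  · have h2 := cj_le_cj (x := c).2 (h.span2 hs b hb)
    rw [cj_sup, cj_sup, ← cj_mul, ← cj_mul, ← cj_mul, cj_of_mem_Nm (le_Nm_VV A hc), cj_V_eq h1.1, cj_V_eq h1.2,
      cj_of_mem_Nm (le_Nm_VV B hcb.2)] at h2
    exact h2

theorem B2.W_eq (h : B2 A B) {a : G} (ha : a ∈ A) (haC : a ∉ A ⊓ B) :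
    WW A B = VV A ⊔ VV B ⊔ cj a (VV B) :=
  le_antisymm (ncl_le' fun _ hx => h.span ha haC hx)
    (sup_le (sup_le h.V_le_W (le_ncl _ _)) (cj_le_ncl ha))

/-- noncommuting -/
theorem B2.ncomm' (h : B2 A B) {a : G} (ha : a ∈ A) (haC : a ∉ A ⊓ B) :
    ∃ v ∈ VV B, ∃ w ∈ cj a (VV B), v * w ≠ w * v := by
  by_contra hcon
  push Not at hcon
  apply h.ncomm a ha haC
  have h1 : H2 A (cj a B) := by
    have := h.toH2.cjBy a
    rwa [cj_of_mem ha] at this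
  intro v hv
  refine h1.symm.mem_Q_of_cent ?_ fun w hw => ?_
  · exact Subgroup.mem_sup_right (h.leQ hv)
  · rw [← cj_VV] at hw
    exact (hcon v hv w hw).symm

theorem B2.cardZ (h : B2 A B) : Nat.card (ZZ A B) = 9 := by rw [h.card_Z, h.cardY]

theorem B2.cardV (h : B2 A B) : Nat.card (VV A) = 27 := by rw [h.card_V, h.cardZ]

theorem H2.V_ne_V (h : H2 A B) : ¬ VV A ≤ VV B := by
  intro h0
  have h1 : VV A = VV B := Subgroup.eq_of_le_of_card_ge h0 (by rw [h.card_VV])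
  apply h.V_ne
  refine h.U _ (h.V_le_Q.trans h.Q_le_C) (le_Nm_VV A) ?_
  rw [h1]
  exact le_Nm_VV B

theorem Mn.V_inf_V (h : Mn A B) : VV A ⊓ VV B = ZZ A B :=
  eq_of_prime_relIndex' Nat.prime_three (le_inf h.Z_le_V h.Z_le_V') inf_le_left h.idx_Z
    fun h0 => h.V_ne_V (by rw [← h0]; exact inf_le_right)

/-- every subgroup between `V_A` and `W_A` is normalised by `Q_A` -/
theorem B2.Q_le_Nm (h : B2 A B) {X : Subgroup G} (h1 : VV A ≤ X) (h2 : X ≤ WW A B) : Op 3 A ≤ Nm X := by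
  rw [le_Nm]
  intro q hq x hx
  have e : q * x * q⁻¹ = (q * x * q⁻¹ * x⁻¹) * x := by group
  rw [e]
  exact X.mul_mem (h1 (YY_le A (h.comm_QW hq (h2 hx)))) hx

theorem B2.VV_le_W (_h : B2 A B) : VV B ≤ WW A B := le_ncl _ _

theorem B2.card_VV2 (h : B2 A B) : Nat.card (VV A ⊔ VV B : Subgroup G) = 81 := by
  have h1 := card_sup (h.V_le_B.trans (le_Nm_VV B))
  rw [h.V_inf_V, h.cardZ, h.cardV, h.symm.cardV] at h1
  omega

theorem B2.VV_comm (h : B2 A B) {v x : G} (hv : v ∈ VV B) (hx : x ∈ VV A ⊔ VV B) : x * v = v * x := by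
  have h1 : VV A ⊔ VV B ≤ Subgroup.centralizer {v} := by
    refine sup_le ?_ ?_
    · intro y hy
      rw [Subgroup.mem_centralizer_singleton_iff]
      exact h.V_comm hy (h.leQ hv)
    · intro y hy
      rw [Subgroup.mem_centralizer_singleton_iff]
      exact h.symm.EA_V.comm y hy v hv
  exact Subgroup.mem_centralizer_singleton_iff.1 (h1 hx)

theorem B2.cj_V_not_le (h : B2 A B) {a : G} (ha : a ∈ A) (haC : a ∉ A ⊓ B) : ¬ cj a (VV B) ≤ VV A ⊔ VV B := by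
  intro h0
  obtain ⟨v, hv, w, hw, hvw⟩ := h.ncomm' ha haC
  exact hvw (h.VV_comm hv (h0 hw)).symm

theorem B2.card_W (h : B2 A B) : Nat.card (WW A B) = 243 := by
  obtain ⟨a, ha, haC⟩ := h.exists_not
  have h1 : cj a (VV B) ≤ Nm (VV A ⊔ VV B) :=
    ((cj_le_ncl ha).trans h.W_le).trans (h.Q_le_Nm le_sup_left (sup_le h.V_le_W h.VV_le_W))
  have h2 := card_sup h1
  have h3 : (cj a (ZZ A B)).relIndex (cj a (VV B)) = 3 := by rw [relIndex_cj, h.idx_Z']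
  have h4 : cj a (ZZ A B) ≤ cj a (VV B) ⊓ (VV A ⊔ VV B) := by
    refine le_inf (cj_le_cj.2 h.Z_le_V') (le_trans ?_ le_sup_left)
    exact h.cj_V_le ha h.Z_le_V
  have h5 : cj a (VV B) ⊓ (VV A ⊔ VV B) = cj a (ZZ A B) := by
    refine eq_of_prime_relIndex' Nat.prime_three h4 inf_le_left h3 fun h0 => ?_
    apply h.cj_V_not_le ha haC
    rw [← h0]
    exact inf_le_right
  rw [h5, sup_comm, ← h.W_eq ha haC, card_cj, card_cj, h.cardZ, h.symm.cardV, h.card_VV2] at h2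
  omega

/-- `T_A = C_{Q_A}(W_A)` -/
abbrev TT (A B : Subgroup G) : Subgroup G := Op 3 A ⊓ Subgroup.centralizer (WW A B : Set G)

theorem B2.mem_TT (_h : B2 A B) {x : G} : x ∈ TT A B ↔ x ∈ Op 3 A ∧ ∀ w ∈ WW A B, w * x = x * w := by
  rw [Subgroup.mem_inf, Subgroup.mem_centralizer_iff]
  rfl

theorem B2.le_Nm_TT (_h : B2 A B) : A ≤ Nm (TT A B) := by
  refine inf_le_Nm (le_Nm_Op 3 A) ?_
  rw [le_Nm']
  intro a ha
  rw [cj_centralizer, cj_of_mem_Nm (le_Nm_ncl A (VV B) ha)]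

theorem B2.mem_L_of (h : B2 A B) {x : G} (hx : x ∈ Op 3 A) (hc : ∀ v ∈ VV B, v * x = x * v) : x ∈ Op 3 B := by
  refine h.symm.mem_Q_of_cent ?_ hc
  exact Subgroup.mem_sup_right hx

theorem B2.TT_le (h : B2 A B) {a : G} (ha : a ∈ A) : TT A B ≤ Op 3 (cj a B) := by
  intro x hx
  rw [h.mem_TT] at hx
  rw [← cj_Op, mem_cj]
  refine h.mem_L_of (Nm_conj' (le_Nm_Op 3 A ha) hx.1) fun v hv => ?_
  have h1 := hx.2 _ (cj_le_ncl (X := VV B) ha (conj_mem_cj.2 hv))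
  have e1 : v * (a⁻¹ * x * a) = a⁻¹ * (a * v * a⁻¹ * x) * a := by group
  rw [e1, h1]
  group

theorem B2.TT_le_Q' (h : B2 A B) : TT A B ≤ Op 3 B := by
  have := h.TT_le A.one_mem
  rwa [cj_one] at this

theorem B2.TT_eq (h : B2 A B) {a : G} (ha : a ∈ A) (haC : a ∉ A ⊓ B) :
    TT A B = (Op 3 A ⊓ Op 3 B) ⊓ Op 3 (cj a B) := by
  refine le_antisymm (le_inf (le_inf inf_le_left h.TT_le_Q') (h.TT_le ha)) ?_
  rintro x ⟨⟨hx1, hx2⟩, hx3⟩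
  replace hx3 : x ∈ Op 3 (cj a B) := hx3
  rw [h.mem_TT]
  refine ⟨hx1, ?_⟩
  have h1 : WW A B ≤ Subgroup.centralizer {x} := by
    rw [h.W_eq ha haC]
    refine sup_le (sup_le ?_ ?_) ?_
    · intro y hy
      rw [Subgroup.mem_centralizer_singleton_iff]
      exact h.V_comm hy hx1
    · intro y hy
      rw [Subgroup.mem_centralizer_singleton_iff]
      exact h.symm.V_comm hy hx2
    · intro y hy
      rw [Subgroup.mem_centralizer_singleton_iff]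
      rw [cj_VV] at hy
      exact (h.symm.toH2.cjBy a).V_comm hy hx3
  intro w hw
  exact Subgroup.mem_centralizer_singleton_iff.1 (h1 hw)

theorem B2.V_le_TT (h : B2 A B) : VV A ≤ TT A B := by
  intro x hx
  rw [h.mem_TT]
  exact ⟨h.V_le_Q hx, fun w hw => (h.V_comm hx (h.W_le hw)).symm⟩

theorem B2.V_not_le_TT (h : B2 A B) : ¬ VV B ≤ TT A B := by
  obtain ⟨a, ha, haC⟩ := h.exists_not
  obtain ⟨v, hv, w, hw, hvw⟩ := h.ncomm' ha haC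
  intro h0
  exact hvw ((h.mem_TT.1 (h0 hv)).2 w (cj_le_ncl ha hw)).symm

theorem B2.W_inf_TT (h : B2 A B) : WW A B ⊓ TT A B = VV A := by
  obtain ⟨a, ha, haC⟩ := h.exists_not
  have hidx2 : (VV A ⊔ VV B).relIndex (WW A B) = 3 := by
    have h2 := card_mul_relIndex (sup_le h.V_le_W h.VV_le_W)
    rw [h.card_VV2, h.card_W] at h2
    omega
  have hidx1 : (VV A).relIndex (VV A ⊔ VV B) = 3 := by
    have h2 := card_mul_relIndex (le_sup_left : VV A ≤ VV A ⊔ VV B)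
    rw [h.card_VV2, h.cardV] at h2
    omega
  have h1 : WW A B ⊓ Op 3 B = VV A ⊔ VV B := by
    refine eq_of_prime_relIndex' Nat.prime_three (le_inf (sup_le h.V_le_W h.VV_le_W) (sup_le h.leQ' h.symm.V_le_Q))
      inf_le_left hidx2 fun h0 => ?_
    obtain ⟨v, hv, w, hw, hvw⟩ := h.ncomm' ha haC
    have h3 : WW A B ≤ Op 3 B := by
      rw [← h0]
      exact inf_le_right
    exact hvw (h.symm.V_comm hv (h3 (cj_le_ncl ha hw)))
  refine le_antisymm ?_ (le_inf h.V_le_W h.V_le_TT)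
  have h2 : WW A B ⊓ TT A B ≤ VV A ⊔ VV B := by
    rw [← h1]
    exact inf_le_inf le_rfl h.TT_le_Q'
  have h3 : VV A ≤ (VV A ⊔ VV B) ⊓ TT A B := le_inf le_sup_left h.V_le_TT
  have h4 : (VV A ⊔ VV B) ⊓ TT A B = VV A := by
    refine eq_of_prime_relIndex' Nat.prime_three h3 inf_le_left hidx1 fun h0 => ?_
    apply h.V_not_le_TT
    exact le_sup_right.trans (h0.symm.le.trans inf_le_right)
  rw [← h4]
  exact le_inf h2 inf_le_right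

theorem B2.relIndex_TT_le (h : B2 A B) : (TT A B).relIndex (Op 3 A) ≤ 9 := by
  obtain ⟨a, ha, haC⟩ := h.exists_not
  rw [h.TT_eq ha haC]
  refine (Subgroup.relIndex_inf_le ..).trans ?_
  rw [h.idx_L]
  have h1 : H2 A (cj a B) := by
    have := h.toH2.cjBy a
    rwa [cj_of_mem ha] at this
  have h2 := h1.idx_L
  rw [inf_comm, Subgroup.inf_relIndex_right] at h2
  rw [h2]

theorem B2.W_sup_TT (h : B2 A B) : WW A B ⊔ TT A B = Op 3 A := by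
  refine Subgroup.eq_of_le_of_card_ge (sup_le h.W_le inf_le_left) ?_
  have h1 := card_sup (((h.W_le).trans (Op_le _ _)).trans h.le_Nm_TT)
  rw [h.W_inf_TT, h.cardV, h.card_W] at h1
  have h2 := card_mul_relIndex (C := TT A B) (A := Op 3 A) inf_le_left
  have h3 := h.relIndex_TT_le
  have h4 : Nat.card (TT A B) * (TT A B).relIndex (Op 3 A) ≤ Nat.card (TT A B) * 9 := Nat.mul_le_mul_left _ h3
  omega

theorem B2.idx_TT (h : B2 A B) : (TT A B).relIndex (Op 3 A) = 9 := by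
  have h1 := card_sup (((h.W_le).trans (Op_le _ _)).trans h.le_Nm_TT)
  rw [h.W_inf_TT, h.cardV, h.card_W, h.W_sup_TT] at h1
  have h2 := card_mul_relIndex (C := TT A B) (A := Op 3 A) inf_le_left
  have h3 : 0 < Nat.card (TT A B) := Nat.card_pos
  apply Nat.eq_of_mul_eq_mul_left h3
  omega

theorem B2.idx_TT_L (h : B2 A B) : (TT A B).relIndex (Op 3 A ⊓ Op 3 B) = 3 := by
  have h1 := Subgroup.relIndex_mul_relIndex (TT A B) (Op 3 A ⊓ Op 3 B) (Op 3 A)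
    (le_inf inf_le_left h.TT_le_Q') inf_le_left
  rw [h.idx_L, h.idx_TT] at h1
  omega

theorem B2.L_eq_TT (h : B2 A B) : VV B ⊔ TT A B = Op 3 A ⊓ Op 3 B := by
  rw [sup_comm]
  refine eq_of_prime_relIndex Nat.prime_three le_sup_left (sup_le (le_inf inf_le_left h.TT_le_Q')
    (le_inf h.leQ h.symm.V_le_Q)) h.idx_TT_L ?_
  exact fun h0 => h.V_not_le_TT (le_sup_right.trans h0)

theorem B2.DD_L (h : B2 A B) : DD (Op 3 A ⊓ Op 3 B) = DD (TT A B) := by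
  refine DD_eq (le_inf h.leQ h.symm.V_le_Q) (le_inf inf_le_left h.TT_le_Q') h.symm.EA_V.exp ?_ h.L_eq_TT
  intro v hv q hq
  exact h.symm.V_comm hv hq.2

theorem B2.EA_L (h : B2 A B) : EA (Op 3 A ⊓ Op 3 B) := by
  apply EA_of_DD
  have h1 := h.DD_L
  have h2 := h.symm.DD_L
  rw [inf_comm] at h2
  refine h.U _ ((DD_le _).trans (inf_le_left.trans h.Q_le_C)) ?_ ?_
  · rw [h1]
    exact le_Nm_DD _ h.le_Nm_TT
  · rw [h2]
    exact le_Nm_DD _ h.symm.le_Nm_TT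

theorem B2.TT_le_L (h : B2 A B) : TT A B ≤ Op 3 A ⊓ Op 3 B := le_inf inf_le_left h.TT_le_Q'

theorem B2.TT_inf (h : B2 A B) : TT A B ⊓ TT B A ≤ ZZ A B := by
  rintro x ⟨hx, hx'⟩
  have hxL := h.TT_le_L hx
  refine ⟨Subgroup.mem_sup_left hxL.1, h.EA_L.exp x hxL, ?_⟩
  have h1 : SS A B ≤ Subgroup.centralizer {x} := by
    rw [SS, ← h.W_sup_TT, ← h.symm.W_sup_TT]
    refine sup_le (sup_le ?_ ?_) (sup_le ?_ ?_)
    · intro y hy
      rw [Subgroup.mem_centralizer_singleton_iff]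
      exact (h.mem_TT.1 hx).2 y hy
    · intro y hy
      rw [Subgroup.mem_centralizer_singleton_iff]
      exact h.EA_L.comm y (h.TT_le_L hy) x hxL
    · intro y hy
      rw [Subgroup.mem_centralizer_singleton_iff]
      exact (h.symm.mem_TT.1 hx').2 y hy
    · intro y hy
      rw [Subgroup.mem_centralizer_singleton_iff]
      have := h.symm.TT_le_L hy
      rw [inf_comm] at this
      exact h.EA_L.comm y this x hxL
  intro y hy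
  exact (Subgroup.mem_centralizer_singleton_iff.1 (h1 hy)).symm

theorem B2.TT_eq_V (h : B2 A B) : TT A B = VV A := by
  refine (Subgroup.eq_of_le_of_card_ge h.V_le_TT ?_).symm
  have h1 : (TT A B ⊓ TT B A).relIndex (TT A B) ≤ 3 := by
    rw [inf_comm, Subgroup.inf_relIndex_right]
    have h2 := h.symm.idx_TT_L
    rw [inf_comm (Op 3 B)] at h2
    rw [← h2]
    refine Subgroup.relIndex_le_of_le_right h.TT_le_L ?_
    rw [h2]
    norm_num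
  have h2 := card_mul_relIndex (inf_le_left : TT A B ⊓ TT B A ≤ TT A B)
  have h3 : Nat.card (TT A B ⊓ TT B A : Subgroup G) ≤ 9 := by
    rw [← h.cardZ]
    exact Subgroup.card_le_of_le h.TT_inf
  rw [← h2, h.cardV]
  calc Nat.card (TT A B ⊓ TT B A : Subgroup G) * (TT A B ⊓ TT B A).relIndex (TT A B) ≤ 9 * 3 :=
      Nat.mul_le_mul h3 h1
    _ = 27 := by norm_num

theorem B2.W_eq_Q (h : B2 A B) : WW A B = Op 3 A := by
  rw [← h.W_sup_TT, h.TT_eq_V, sup_eq_left.2 h.V_le_W]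

theorem B2.card_Q (h : B2 A B) : Nat.card (Op 3 A) = 243 := by rw [← h.W_eq_Q, h.card_W]

theorem B2.card_S' (h : B2 A B) : Nat.card (SS A B) = 729 := by rw [h.card_S, h.card_Q]

theorem B2.card_A' (h : B2 A B) : Nat.card A = 11664 := by rw [h.card_A, h.card_Q]

theorem B2.card_C' (h : B2 A B) : Nat.card ↥(A ⊓ B) = 2916 := by rw [h.card_C, h.card_S']

theorem B2.L_eq_VV (h : B2 A B) : Op 3 A ⊓ Op 3 B = VV A ⊔ VV B := by
  rw [← h.L_eq_TT, h.TT_eq_V, sup_comm]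

end

end Cfsg.Agent.H399
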