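import Cfsg.Agent.H399.CaseTwo

/-!
# `Z = Ω₁(Z(S))` and `V = ⟨Z^A⟩`
-/

set_option autoImplicit false
set_option linter.unusedSectionVars false
set_option linter.unnecessarySeqFocus false

open Pointwise

namespace Cfsg.Agent.H399

variable {G : Type*} [Group G]

/-- `Ω₁(Z(S))` for the prime 3 -/
def OZ (S : Subgroup G) : Subgroup G where
  carrier := {x | x ∈ S ∧ x ^ 3 = 1 ∧ ∀ y ∈ S, x * y = y * x}
  one_mem' := ⟨S.one_mem, one_pow 3, fun y _ => by rw [one_mul, mul_one]⟩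
  mul_mem' := by
    rintro x y ⟨hx, hx3, hxc⟩ ⟨hy, hy3, hyc⟩
    refine ⟨S.mul_mem hx hy, ?_, fun z hz => ?_⟩
    · have h1 : Commute x y := hxc y hy
      rw [h1.mul_pow, hx3, hy3, one_mul]
    · rw [mul_assoc, hyc z hz, ← mul_assoc, hxc z hz, mul_assoc]
  inv_mem' := by
    rintro x ⟨hx, hx3, hxc⟩
    refine ⟨S.inv_mem hx, by rw [inv_pow, hx3, inv_one], fun y hy => ?_⟩
    rw [inv_mul_eq_iff_eq_mul, ← mul_assoc, hxc y hy, mul_assoc, mul_inv_cancel, mul_one]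

theorem mem_OZ {S : Subgroup G} {x : G} : x ∈ OZ S ↔ x ∈ S ∧ x ^ 3 = 1 ∧ ∀ y ∈ S, x * y = y * x := Iff.rfl

theorem OZ_le (S : Subgroup G) : OZ S ≤ S := fun _ hx => hx.1

theorem cj_OZ (x : G) (S : Subgroup G) : cj x (OZ S) = OZ (cj x S) := by
  ext y
  rw [mem_cj, mem_OZ, mem_OZ, mem_cj]
  refine and_congr_right fun _ => and_congr ?_ ?_
  · have : (x⁻¹ * y * x) ^ 3 = x⁻¹ * y ^ 3 * x := by
      have := conj_pow (i := 3) (a := x⁻¹) (b := y)
      simpa using this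
    rw [this]
    constructor
    · intro h
      have : y ^ 3 = x * (x⁻¹ * y ^ 3 * x) * x⁻¹ := by group
      rw [this, h]
      group
    · intro h
      rw [h]
      group
  · constructor
    · intro h z hz
      rw [mem_cj] at hz
      have := h _ hz
      have h1 : y * z = x * (x⁻¹ * y * x * (x⁻¹ * z * x)) * x⁻¹ := by group
      rw [h1, this]
      group
    · intro h z hz
      have h1 := h (x * z * x⁻¹) (conj_mem_cj.2 hz)
      have h2 : x⁻¹ * y * x * z = x⁻¹ * (y * (x * z * x⁻¹)) * x := by group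
      rw [h2, h1]
      group

theorem Nm_le_Nm_OZ (S : Subgroup G) : Nm S ≤ Nm (OZ S) := by
  rw [le_Nm']
  intro x hx
  rw [cj_OZ, cj_of_mem_Nm hx]

theorem OZ_ne_bot [Finite G] {S : Subgroup G} (h3 : IsPGroup 3 S) (hS : S ≠ ⊥) : OZ S ≠ ⊥ := by
  have : Fact (Nat.Prime 3) := ⟨Nat.prime_three⟩
  have : Nontrivial S := (Subgroup.nontrivial_iff_ne_bot S).2 hS
  have h1 : Nontrivial (Subgroup.center S) := h3.center_nontrivial
  obtain ⟨m, hm⟩ := IsPGroup.iff_card.1 (h3.to_subgroup (Subgroup.center S))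
  have hm0 : m ≠ 0 := by
    rintro rfl
    rw [pow_zero] at hm
    exact absurd (Finite.one_lt_card_iff_nontrivial.2 h1) (by rw [hm]; norm_num)
  obtain ⟨x, hx⟩ := exists_prime_orderOf_dvd_card' (G := Subgroup.center S) 3 (by
    rw [hm]
    exact dvd_pow_self _ hm0)
  intro h2
  have h4 : ((x : S) : G) ∈ OZ S := by
    refine ⟨x.1.2, ?_, fun y hy => ?_⟩
    · have h5 : x ^ 3 = 1 := by
        rw [← hx]
        exact pow_orderOf_eq_one x
      exact congrArg (fun z : Subgroup.center S => ((z : S) : G)) h5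
    · have h5 := Subgroup.mem_center_iff.1 x.2 ⟨y, hy⟩
      exact (congrArg Subtype.val h5).symm
  rw [h2, Subgroup.mem_bot] at h4
  have h6 : x = 1 := Subtype.ext (Subtype.ext h4)
  rw [h6, orderOf_one] at hx
  norm_num at hx

/-- elementary abelian 3-subgroups -/
structure EA (V : Subgroup G) : Prop where
  comm : ∀ x ∈ V, ∀ y ∈ V, x * y = y * x
  exp : ∀ x ∈ V, x ^ 3 = 1

theorem EA.mono {V W : Subgroup G} (h : EA V) (hW : W ≤ V) : EA W :=
  ⟨fun x hx y hy => h.comm x (hW hx) y (hW hy), fun x hx => h.exp x (hW hx)⟩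

theorem EA_OZ (S : Subgroup G) : EA (OZ S) :=
  ⟨fun _ hx y hy => hx.2.2 y hy.1, fun _ hx => hx.2.1⟩

theorem EA.cjBy {V : Subgroup G} (h : EA V) (x : G) : EA (cj x V) := by
  refine ⟨fun y hy z hz => ?_, fun y hy => ?_⟩
  · rw [mem_cj] at hy hz
    have h1 := h.comm _ hy _ hz
    have h2 : y * z = x * (x⁻¹ * y * x * (x⁻¹ * z * x)) * x⁻¹ := by group
    rw [h2, h1]
    group
  · rw [mem_cj] at hy
    have h1 := h.exp _ hy
    have h2 : y = x * (x⁻¹ * y * x) * x⁻¹ := by group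
    rw [h2, conj_pow, h1]
    group

theorem EA.isPGroup {V : Subgroup G} (h : EA V) : IsPGroup 3 V := by
  rintro ⟨x, hx⟩
  exact ⟨1, Subtype.ext (by simpa using h.exp x hx)⟩

/-- The set of Sylow 3-subgroups, as subgroups of `G`. -/
def IsSyl (X P : Subgroup G) : Prop := P ≤ X ∧ IsPGroup 3 P ∧ ¬ 3 ∣ P.relIndex X

theorem IsSyl.cjBy {X P : Subgroup G} (h : IsSyl X P) (x : G) : IsSyl (cj x X) (cj x P) :=
  ⟨cj_le_cj.2 h.1, isPGroup_cj x h.2.1, by rw [relIndex_cj]; exact h.2.2⟩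

/-- `V(X) = ⟨Ω₁Z(P) : P ∈ Syl₃(X)⟩` -/
def VV (X : Subgroup G) : Subgroup G := ⨆ P : {P : Subgroup G // IsSyl X P}, OZ (P : Subgroup G)

theorem cj_VV (x : G) (X : Subgroup G) : cj x (VV X) = VV (cj x X) := by
  have key : ∀ (x : G) (X : Subgroup G), cj x (VV X) ≤ VV (cj x X) := by
    intro x X
    rw [cj_le_iff]
    refine iSup_le fun P => ?_
    rw [← cj_le_cj (x := x), cj_cj_inv, cj_OZ]
    exact le_iSup (fun P : {P : Subgroup G // IsSyl (cj x X) P} => OZ (P : Subgroup G)) ⟨_, P.2.cjBy x⟩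
  refine le_antisymm (key x X) ?_
  have := key x⁻¹ (cj x X)
  rw [cj_inv_cj, cj_le_iff, inv_inv] at this
  exact this

theorem OZ_le_VV {X P : Subgroup G} (h : IsSyl X P) : OZ P ≤ VV X :=
  le_iSup (fun P : {P : Subgroup G // IsSyl X P} => OZ (P : Subgroup G)) ⟨P, h⟩

theorem le_Nm_VV (X : Subgroup G) : X ≤ Nm (VV X) := by
  rw [le_Nm']
  intro x hx
  rw [cj_VV, cj_of_mem hx]

theorem VV_eq [Finite G] {X S : Subgroup G} (h : IsSyl X S) : VV X = ncl X (OZ S) := by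
  have : Fact (Nat.Prime 3) := ⟨Nat.prime_three⟩
  refine le_antisymm (iSup_le fun P => ?_) (ncl_le (OZ_le_VV h) (le_Nm_VV X))
  obtain ⟨x, hx, hx'⟩ := exists_conj_of_sylow P.2.1 h.1 P.2.2.1 h.2.1 P.2.2.2 h.2.2
  rw [← hx', ← cj_OZ]
  exact cj_le_ncl hx

section

variable [Finite G] {A B : Subgroup G}

theorem H2.isSyl (h : H2 A B) : IsSyl A (SS A B) := ⟨h.S_le.trans inf_le_left, h.S_three, h.idx_SA⟩

theorem H2.isSyl' (h : H2 A B) : IsSyl B (SS A B) := by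
  rw [SS_comm]
  exact h.symm.isSyl

/-- `Z` -/
abbrev ZZ (A B : Subgroup G) : Subgroup G := OZ (SS A B)

theorem ZZ_comm (A B : Subgroup G) : ZZ A B = ZZ B A := by rw [ZZ, SS_comm]

theorem H2.Z_le_Q (h : H2 A B) : ZZ A B ≤ Op 3 A := by
  intro x hx
  refine h.cent_le h.two ((h.S_le (OZ_le _ hx)).1) fun y hy => ?_
  exact (hx.2.2 y (Subgroup.mem_sup_left hy)).symm

theorem H2.Z_le_Q' (h : H2 A B) : ZZ A B ≤ Op 3 B := by
  rw [ZZ_comm]
  exact h.symm.Z_le_Q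

theorem H2.S_ne (h : H2 A B) : SS A B ≠ ⊥ := fun h0 => h.Q_ne (by
  rw [eq_bot_iff, ← h0]
  exact le_sup_left)

theorem H2.Z_ne (h : H2 A B) : ZZ A B ≠ ⊥ := OZ_ne_bot h.S_three h.S_ne

theorem H2.C_le_Nm_Z (h : H2 A B) : A ⊓ B ≤ Nm (ZZ A B) := h.C_le_Nm_S.trans (Nm_le_Nm_OZ _)

theorem H2.not_le_Nm_Z (h : H2 A B) : ¬ A ≤ Nm (ZZ A B) := by
  intro h1
  obtain ⟨g, hg, hgS, -⟩ := h.exists_g
  apply h.Z_ne
  refine h.U _ (h.Z_le_Q.trans h.Q_le_C) h1 ?_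
  have h2 := cj_le_cj (x := g).2 h1
  rw [cj_Nm, cj_OZ, hgS] at h2
  exact hg.symm.le.trans h2

theorem H2.VV_eq (h : H2 A B) : VV A = ncl A (ZZ A B) := H399.VV_eq h.isSyl

theorem H2.Z_le_V (h : H2 A B) : ZZ A B ≤ VV A := OZ_le_VV h.isSyl

theorem H2.Z_le_V' (h : H2 A B) : ZZ A B ≤ VV B := OZ_le_VV h.isSyl'

theorem H2.V_le_OZ (h : H2 A B) : VV A ≤ OZ (Op 3 A) := by
  rw [h.VV_eq]
  refine ncl_le ?_ ((le_Nm_Op 3 A).trans (Nm_le_Nm_OZ _))
  intro x hx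
  exact ⟨h.Z_le_Q hx, hx.2.1, fun y hy => hx.2.2 y (Subgroup.mem_sup_left hy)⟩

theorem H2.V_le_Q (h : H2 A B) : VV A ≤ Op 3 A := h.V_le_OZ.trans (OZ_le _)

theorem H2.EA_V (h : H2 A B) : EA (VV A) := (EA_OZ _).mono h.V_le_OZ

theorem H2.V_comm (h : H2 A B) {v q : G} (hv : v ∈ VV A) (hq : q ∈ Op 3 A) : v * q = q * v :=
  (h.V_le_OZ hv).2.2 q hq

theorem H2.V_ne (h : H2 A B) : VV A ≠ ⊥ := fun h0 => h.Z_ne (by
  rw [eq_bot_iff, ← h0]
  exact h.Z_le_V)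

/-- The centraliser of `V_A` in `A` is in `K_A`. -/
theorem H2.cent_V_le_K (h : H2 A B) : A ⊓ Subgroup.centralizer (VV A : Set G) ≤ K A B := by
  by_contra hcon
  have h1 : A ≤ Nm (A ⊓ Subgroup.centralizer (VV A : Set G)) := by
    rw [le_Nm]
    rintro a ha x ⟨hxA, hx⟩
    refine ⟨A.mul_mem (A.mul_mem ha hxA) (A.inv_mem ha), Subgroup.mem_centralizer_iff.2 ?_⟩
    replace hx := Subgroup.mem_centralizer_iff.1 hx
    intro v hv
    have h2 : a⁻¹ * v * a ∈ VV A := by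
      have := le_Nm.1 (le_Nm_VV A) a⁻¹ (A.inv_mem ha) v hv
      simpa using this
    have h3 := hx _ h2
    have h4 : v * (a * x * a⁻¹) = a * (a⁻¹ * v * a * x) * a⁻¹ := by group
    rw [h4, h3]
    group
  have h2 := h.sup_eq inf_le_left h1 hcon
  apply h.not_le_Nm_Z
  refine h2.symm.le.trans (sup_le ?_ h.C_le_Nm_Z)
  rw [le_Nm]
  rintro x ⟨-, hx⟩ z hz
  replace hx := Subgroup.mem_centralizer_iff.1 hx
  rw [← hx z (h.Z_le_V hz), mul_inv_cancel_right]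
  exact hz

theorem H2.S_inf_K (h : H2 A B) : SS A B ⊓ K A B ≤ Op 3 A :=
  h.le_Q inf_le_right ((K_le A B).trans (inf_le_Nm h.C_le_Nm_S (C_le_Nm_K A B))) (h.S_three.to_le inf_le_left)

/-- An element of `S` centralising `V_A` lies in `Q_A`. -/
theorem H2.mem_Q_of_cent (h : H2 A B) {x : G} (hx : x ∈ SS A B) (hc : ∀ v ∈ VV A, v * x = x * v) : x ∈ Op 3 A := by
  exact h.S_inf_K ⟨hx, h.cent_V_le_K ⟨(h.S_le hx).1, Subgroup.mem_centralizer_iff.2 hc⟩⟩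

end

end Cfsg.Agent.H399
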