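import Cfsg.Agent.H399.Four

/-!
# Pairs of subgroups with intersection of index 4

`P3 A B`: `A`, `B` conjugate, `|A : A ∩ B| = 4`, no nontrivial subgroup of `A ∩ B` is normal in both and the actions
on the cosets are not 2-groups.
-/

set_option autoImplicit false
set_option linter.unusedSectionVars false
set_option linter.unnecessarySeqFocus false

open Pointwise

namespace Cfsg.Agent.H399

variable {G : Type*} [Group G]

/-- The core of `A ∩ B` in `A`. -/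
abbrev K (A B : Subgroup G) : Subgroup G := core A (A ⊓ B)

/-- The hypotheses. -/
structure P3 (A B : Subgroup G) : Prop where
  conj : ∃ g, cj g A = B
  idx : (A ⊓ B).relIndex A = 4
  U : ∀ X ≤ A ⊓ B, A ≤ Nm X → B ≤ Nm X → X = ⊥
  three : 3 ∣ (K A B).relIndex A
  three' : 3 ∣ (K B A).relIndex B

section

variable [Finite G] {A B : Subgroup G}

theorem P3.card_eq (h : P3 A B) : Nat.card B = Nat.card A := by
  obtain ⟨g, hg⟩ := h.conj
  rw [← hg, card_cj]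

theorem P3.symm (h : P3 A B) : P3 B A where
  conj := by
    obtain ⟨g, hg⟩ := h.conj
    exact ⟨g⁻¹, by rw [← hg, cj_inv_cj]⟩
  idx := by
    have h1 := card_mul_relIndex (inf_le_left : A ⊓ B ≤ A)
    have h2 := card_mul_relIndex (inf_le_left : B ⊓ A ≤ B)
    rw [h.idx] at h1
    rw [h.card_eq, inf_comm, ← h1] at h2
    have h3 : 0 < Nat.card ↥(A ⊓ B) := Nat.card_pos
    rw [inf_comm]
    exact Nat.eq_of_mul_eq_mul_left h3 h2
  U := by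
    intro X hX h1 h2
    exact h.U X (by rw [inf_comm]; exact hX) h2 h1
  three := h.three'
  three' := h.three

theorem P3.hom (h : P3 A B) : ∃ φ : ↥A →* Equiv.Perm (Fin 4), Hom4 A (A ⊓ B) φ :=
  exists_hom inf_le_left h.idx h.three

theorem P3.le_K (h : P3 A B) {N : Subgroup G} (hN : N ≤ A ⊓ B) (hC : A ⊓ B ≤ Nm N)
    (h3 : ¬ 3 ∣ (K A B).relIndex N) : N ≤ K A B := by
  obtain ⟨φ, hφ⟩ := h.hom
  exact hφ.le_core_of inf_le_left hN hC h3

theorem P3.three_dvd (h : P3 A B) {N : Subgroup G} (hN : N ≤ A ⊓ B) (hC : A ⊓ B ≤ Nm N)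
    (hK : ¬ N ≤ K A B) : 3 ∣ (K A B).relIndex N := by
  by_contra hcon
  exact hK (h.le_K hN hC hcon)

theorem P3.relIndex_A (h : P3 A B) : (K A B).relIndex A = 12 ∨ (K A B).relIndex A = 24 := by
  obtain ⟨φ, hφ⟩ := h.hom
  exact hφ.relIndex_A inf_le_left h.idx h.three

theorem P3.relIndex_C (h : P3 A B) : (K A B).relIndex (A ⊓ B) = 3 ∨ (K A B).relIndex (A ⊓ B) = 6 := by
  obtain ⟨φ, hφ⟩ := h.hom
  exact hφ.relIndex_C inf_le_left h.idx h.three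

theorem P3.relIndex_N_dvd (h : P3 A B) {N : Subgroup G} (hN : N ≤ A ⊓ B) (hC : A ⊓ B ≤ Nm N)
    (hK : ¬ N ≤ K A B) : (K A B).relIndex N ∣ (K A B).relIndex (A ⊓ B) := by
  obtain ⟨φ, hφ⟩ := h.hom
  exact (hφ.relIndex_N inf_le_left hN hC hK).2

theorem P3.relIndex_N (h : P3 A B) {N : Subgroup G} (hN : N ≤ A ⊓ B) (hC : A ⊓ B ≤ Nm N)
    (hK : ¬ N ≤ K A B) : (K A B).relIndex N = 3 ∨ (K A B).relIndex N = 6 := by
  have h1 := h.three_dvd hN hC hK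
  have h2 := h.relIndex_N_dvd hN hC hK
  have h3 := h.relIndex_C
  have h4 : (K A B).relIndex N ≤ 6 := Nat.le_of_dvd (by norm_num) (h2.trans (by rcases h3 with h3 | h3 <;> rw [h3] <;> norm_num))
  have h5 : (K A B).relIndex N ≠ 0 := by
    intro h0
    rw [h0, zero_dvd_iff] at h2
    omega
  omega

theorem P3.eq_or_eq (h : P3 A B) {M : Subgroup G} (hCM : A ⊓ B ≤ M) (hMA : M ≤ A) : M = A ⊓ B ∨ M = A := by
  obtain ⟨φ, hφ⟩ := h.hom
  exact hφ.eq_or_eq hCM hMA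

theorem P3.sup_eq (h : P3 A B) {N : Subgroup G} (hN : N ≤ A) (hA : A ≤ Nm N) (hNK : ¬ N ≤ K A B) :
    N ⊔ (A ⊓ B) = A := by
  obtain ⟨φ, hφ⟩ := h.hom
  exact hφ.sup_eq inf_le_left hN hA hNK

theorem P3.le_K_of_three (h : P3 A B) {N : Subgroup G} (hN : N ≤ A) (hA : A ≤ Nm N) (h3 : IsPGroup 3 N) :
    N ≤ K A B := by
  obtain ⟨φ, hφ⟩ := h.hom
  exact hφ.le_core_of_three inf_le_left h.idx hN hA h3

theorem P3.inf_Nm (h : P3 A B) {N : Subgroup G} (hN : N ≤ A ⊓ B) (hC : A ⊓ B ≤ Nm N)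
    (hNK : ¬ N ≤ K A B) : A ⊓ Nm N = A ⊓ B := by
  obtain ⟨φ, hφ⟩ := h.hom
  exact hφ.inf_Nm inf_le_left hN hC hNK

theorem P3.transitive_of (h : P3 A B) {N M : Subgroup G} (hN : N ≤ A ⊓ B) (hC : A ⊓ B ≤ Nm N)
    (hNK : ¬ N ≤ K A B) (hNM : N ≤ M) (hM : M ≤ A) (hMC : ¬ M ≤ A ⊓ B) : ∀ a ∈ A, ∃ m ∈ M, m⁻¹ * a ∈ A ⊓ B := by
  obtain ⟨φ, hφ⟩ := h.hom
  exact hφ.transitive_of inf_le_left hN hC hNK hNM hM hMC

theorem P3.exists_dt (h : P3 A B) {N : Subgroup G} (hN : N ≤ A ⊓ B) (hC : A ⊓ B ≤ Nm N)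
    (hNK : ¬ N ≤ K A B) : ∃ u ∈ ncl A N, u ∈ A ∧ u * u ∈ K A B ∧ ∀ a ∈ A, a⁻¹ * u * a ∉ A ⊓ B := by
  obtain ⟨φ, hφ⟩ := h.hom
  exact hφ.exists_dt' inf_le_left hN hC hNK

theorem P3.inverts (h : P3 A B) {q t : G} (hq : q ∈ A ⊓ B) (ht : t ∈ A ⊓ B)
    (h3 : q ^ 3 ∈ K A B) (hq1 : q ∉ K A B) (ht1 : t ∉ K A B) (ht2 : t * q⁻¹ ∉ K A B)
    (ht3 : t * q ∉ K A B) : t * q * t⁻¹ * q ∈ K A B := by
  obtain ⟨φ, hφ⟩ := h.hom
  exact hφ.inverts inf_le_left hq ht h3 hq1 ht1 ht2 ht3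

theorem K_le (A B : Subgroup G) : K A B ≤ A ⊓ B := core_le _ _
theorem K_le_left (A B : Subgroup G) : K A B ≤ A := (K_le A B).trans inf_le_left
theorem K_le_right (A B : Subgroup G) : K A B ≤ B := (K_le A B).trans inf_le_right
theorem le_Nm_K (A B : Subgroup G) : A ≤ Nm (K A B) := le_Nm_core _ _
theorem C_le_Nm_K (A B : Subgroup G) : A ⊓ B ≤ Nm (K A B) := inf_le_left.trans (le_Nm_core _ _)
theorem C_le_Nm_K' (A B : Subgroup G) : A ⊓ B ≤ Nm (K B A) := inf_le_right.trans (le_Nm_core _ _)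
theorem K_le' (A B : Subgroup G) : K B A ≤ A ⊓ B := by rw [inf_comm]; exact core_le _ _

/-- If `K_A = 1` then `|A|` is 12 or 24. -/
theorem P3.card_of_bot (h : P3 A B) (h0 : K A B = ⊥) : Nat.card A = 12 ∨ Nat.card A = 24 := by
  have := h.relIndex_A
  rwa [h0, Subgroup.relIndex_bot_left] at this

theorem P3.eq_bot_of_le (h : P3 A B) (h0 : K A B ≤ K B A) : K A B = ⊥ := by
  by_cases h1 : K B A ≤ K A B
  · refine h.U _ (K_le A B) (le_Nm_K A B) ?_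
    rw [le_antisymm h0 h1]
    exact le_Nm_K B A
  exfalso
  have h2 := h.three_dvd (K_le' A B) (C_le_Nm_K' A B) h1
  have h3 := card_mul_relIndex h0
  have h4 := card_mul_relIndex (K_le_left A B)
  have h5 := card_mul_relIndex (K_le_left B A)
  have h6 := h.relIndex_A
  have h7 := h.symm.relIndex_A
  rw [h.card_eq, ← h4, ← h3] at h5
  have h8 : 0 < Nat.card (K A B) := Nat.card_pos
  rw [mul_assoc] at h5
  have h9 := Nat.eq_of_mul_eq_mul_left h8 h5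
  obtain ⟨k, hk⟩ := h2
  rw [hk] at h9
  have hk0 : k ≠ 0 := by
    rintro rfl
    simp at h9
    omega
  have : 3 * k ≥ 3 := by omega
  rcases h6 with h6 | h6 <;> rcases h7 with h7 | h7 <;> rw [h6, h7] at h9 <;> omega

theorem P3.K_ne_bot (h : P3 A B) (h0 : K A B ≠ ⊥) : K B A ≠ ⊥ := by
  intro h1
  have h4 := card_mul_relIndex (K_le_left A B)
  have h6 := h.relIndex_A
  have h7 := h.symm.card_of_bot h1
  have h10 : ¬ K A B ≤ K B A := by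
    rw [h1, le_bot_iff]
    exact h0
  have h11 := h.symm.three_dvd (K_le' B A) (C_le_Nm_K' B A) h10
  rw [h1, Subgroup.relIndex_bot_left] at h11
  have h12 : 0 < Nat.card (K A B) := Nat.card_pos
  obtain ⟨k, hk⟩ := h11
  rw [h.card_eq] at h7
  rw [hk] at h4 h12
  rcases h6 with h6 | h6 <;> rcases h7 with h7 | h7 <;> rw [h6, h7] at h4 <;> omega

theorem P3.not_le (h : P3 A B) (h0 : K A B ≠ ⊥) : ¬ K A B ≤ K B A := fun h1 => h0 (h.eq_bot_of_le h1)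

theorem P3.not_le' (h : P3 A B) (h0 : K A B ≠ ⊥) : ¬ K B A ≤ K A B := h.symm.not_le (h.K_ne_bot h0)

/-- `K_A / L` has order 3 or 6 -/
theorem P3.relIndex_KK (h : P3 A B) (h0 : K A B ≠ ⊥) :
    (K B A).relIndex (K A B) = 3 ∨ (K B A).relIndex (K A B) = 6 :=
  h.symm.relIndex_N (K_le' B A) (C_le_Nm_K' B A) (h.not_le h0)

/-! ### normal 2-subgroups -/

theorem not_three_dvd_of_two {H : Subgroup G} {N : Subgroup G} (h2 : IsPGroup 2 N) : ¬ 3 ∣ H.relIndex N := by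
  intro h3
  have : Fact (Nat.Prime 2) := ⟨Nat.prime_two⟩
  obtain ⟨n, hn⟩ := IsPGroup.iff_card.1 h2
  have h4 := h3.trans (Subgroup.relIndex_dvd_card _ _)
  rw [hn] at h4
  have := Nat.Prime.dvd_of_dvd_pow Nat.prime_three h4
  omega

theorem P3.Op_two_C (h : P3 A B) : Op 2 (A ⊓ B) = ⊥ := by
  have key : ∀ {A B : Subgroup G}, P3 A B → Op 2 (A ⊓ B) = Op 2 (K A B) := by
    intro A B h
    have h1 : Op 2 (A ⊓ B) ≤ K A B :=
      h.le_K (Op_le _ _) (le_Nm_Op _ _) (not_three_dvd_of_two (isPGroup_Op 2 _))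
    refine le_antisymm (le_Op h1 ((K_le A B).trans (le_Nm_Op _ _)) (isPGroup_Op 2 _)) ?_
    exact le_Op ((Op_le _ _).trans (K_le A B)) ((C_le_Nm_K A B).trans (Nm_le_Nm_Op _ _)) (isPGroup_Op 2 _)
  refine h.U _ (Op_le _ _) ?_ ?_
  · rw [key h]
    exact (le_Nm_K A B).trans (Nm_le_Nm_Op _ _)
  · rw [inf_comm, key h.symm]
    exact (le_Nm_K B A).trans (Nm_le_Nm_Op _ _)

theorem P3.eq_bot_of_two (h : P3 A B) {X : Subgroup G} (hX : X ≤ A ⊓ B) (hC : A ⊓ B ≤ Nm X) (h2 : IsPGroup 2 X) :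
    X = ⊥ := by
  rw [← le_bot_iff, ← h.Op_two_C]
  exact le_Op hX hC h2

/-! ### the case `O_2(A) ≠ 1` -/

theorem P3.inf_K_bot (h : P3 A B) : Op 2 A ⊓ K A B = ⊥ := by
  refine h.eq_bot_of_two (inf_le_right.trans (K_le A B))
    (inf_le_Nm (inf_le_left.trans (le_Nm_Op _ _)) (C_le_Nm_K A B)) ?_
  exact (isPGroup_Op 2 A).to_le inf_le_left

theorem commute_of_inf_bot {X Y : Subgroup G} (h : X ⊓ Y = ⊥) (hX : X ≤ Nm Y) (hY : Y ≤ Nm X) :
    ∀ x ∈ X, ∀ y ∈ Y, x * y = y * x := by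
  intro x hx y hy
  have h1 : x * y * x⁻¹ * y⁻¹ ∈ X ⊓ Y := by
    refine ⟨?_, ?_⟩
    · have := le_Nm.1 hY y hy x⁻¹ (X.inv_mem hx)
      have h2 := X.mul_mem hx this
      simpa [mul_assoc] using h2
    · exact Y.mul_mem (le_Nm.1 hX x hx y hy) (Y.inv_mem hy)
  rw [h, Subgroup.mem_bot, mul_inv_eq_one, mul_inv_eq_iff_eq_mul] at h1
  exact h1

theorem P3.Op_conj (h : P3 A B) (p : ℕ) : Nat.card (Op p B) = Nat.card (Op p A) := by
  obtain ⟨g, hg⟩ := h.conj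
  rw [← hg, ← cj_Op, card_cj]

theorem P3.Op_ne_bot (h : P3 A B) {p : ℕ} (h0 : Op p A ≠ ⊥) : Op p B ≠ ⊥ := by
  intro h1
  apply h0
  rw [← Subgroup.card_eq_one, ← h.Op_conj, h1, Subgroup.card_bot]

theorem P3.commute_two (h : P3 A B) : ∀ x ∈ Op 2 A, ∀ y ∈ K A B, x * y = y * x :=
  commute_of_inf_bot h.inf_K_bot ((Op_le _ _).trans (le_Nm_K A B)) ((K_le_left A B).trans (le_Nm_Op _ _))

theorem P3.le_Nm_L (h : P3 A B) (h0 : Op 2 A ≠ ⊥) : A ≤ Nm (K A B ⊓ K B A) := by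
  have h1 : ¬ Op 2 A ≤ K A B := by
    intro h1
    apply h0
    rw [← h.inf_K_bot, inf_of_le_left h1]
  refine (h.sup_eq (Op_le 2 A) (le_Nm_Op 2 A) h1).symm.le.trans
    (sup_le ?_ (inf_le_Nm (C_le_Nm_K A B) (C_le_Nm_K' A B)))
  rw [le_Nm]
  intro v hv k hk
  rw [h.commute_two v hv k hk.1, mul_inv_cancel_right]
  exact hk

theorem P3.L_bot (h : P3 A B) (h0 : Op 2 A ≠ ⊥) : K A B ⊓ K B A = ⊥ := by
  refine h.U _ (inf_le_left.trans (K_le A B)) (h.le_Nm_L h0) ?_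
  rw [inf_comm]
  exact h.symm.le_Nm_L (h.Op_ne_bot h0)

/-- **Case I.** -/
theorem P3.card_caseI (h : P3 A B) (h0 : Op 2 A ≠ ⊥) (hK : K A B ≠ ⊥) :
    Nat.card A = 36 ∨ Nat.card A = 72 ∨ Nat.card A = 144 := by
  have h1 := h.relIndex_KK hK
  have h2 := h.relIndex_A
  rw [← Subgroup.inf_relIndex_right, inf_comm, h.L_bot h0, Subgroup.relIndex_bot_left] at h1
  rw [← card_mul_relIndex (K_le_left A B)]
  rcases h1 with h1 | h1 <;> rcases h2 with h2 | h2 <;> rw [h1, h2] <;> norm_num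

end

end Cfsg.Agent.H399
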