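import Cfsg.Agent.H399.LocalJ

/-!
# Primitive groups with a suborbit of length 4: reduction to the local analysis
-/

set_option autoImplicit false
set_option linter.unusedSectionVars false
set_option linter.unnecessarySeqFocus false

open Pointwise

namespace Cfsg.Agent.H399

variable {G : Type*} [Group G]

/-- Two point stabilisers `A`, `B` in a primitive group with `|A : A ∩ B| = 4`. -/
structure Pr (A B : Subgroup G) : Prop where
  max : IsCoatom A
  core : ∀ X : Subgroup G, (∀ x, X ≤ cj x A) → X = ⊥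
  conj : ∃ g, cj g A = B
  idx : (A ⊓ B).relIndex A = 4

theorem isCoatom_cj {A : Subgroup G} (h : IsCoatom A) (x : G) : IsCoatom (cj x A) := by
  constructor
  · intro h1
    apply h.1
    rw [eq_top_iff] at h1 ⊢
    intro y _
    have := h1 (Subgroup.mem_top (x * y * x⁻¹))
    exact conj_mem_cj.1 this
  · intro Y hY
    have h1 : A < cj x⁻¹ Y := by
      rw [lt_iff_le_not_ge] at hY ⊢
      refine ⟨?_, fun h2 => hY.2 ?_⟩
      · rw [← cj_le_cj (x := x), cj_cj_inv]
        exact hY.1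
      · rw [← cj_le_cj (x := x), cj_cj_inv] at h2
        exact h2
    have h2 := h.2 _ h1
    rw [eq_top_iff] at h2 ⊢
    intro y _
    have := h2 (Subgroup.mem_top (x⁻¹ * y * x))
    rw [← mem_cj, cj_cj_inv] at this
    exact this

section

variable [Finite G] {A B : Subgroup G}

theorem Pr.card_eq (h : Pr A B) : Nat.card B = Nat.card A := by
  obtain ⟨g, hg⟩ := h.conj
  rw [← hg, card_cj]

theorem Pr.symm (h : Pr A B) : Pr B A where
  max := by
    obtain ⟨g, hg⟩ := h.conj
    rw [← hg]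
    exact isCoatom_cj h.max g
  core := by
    intro X hX
    apply h.core
    obtain ⟨g, hg⟩ := h.conj
    intro x
    have := hX (x * g⁻¹)
    rwa [← hg, ← cj_mul, inv_mul_cancel_right] at this
  conj := by
    obtain ⟨g, hg⟩ := h.conj
    exact ⟨g⁻¹, by rw [← hg, cj_inv_cj]⟩
  idx := by
    have h1 := card_mul_relIndex (inf_le_left : A ⊓ B ≤ A)
    have h2 := card_mul_relIndex (inf_le_left : B ⊓ A ≤ B)
    rw [h.idx] at h1
    rw [h.card_eq, inf_comm, ← h1] at h2
    have h3 : 0 < Nat.card ↥(A ⊓ B) := Nat.card_pos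
    rw [inf_comm]
    exact Nat.eq_of_mul_eq_mul_left h3 h2

theorem Pr.eq_bot_of_normal (h : Pr A B) {X : Subgroup G} (hX : X ≤ A) (hN : ∀ x, cj x X = X) : X = ⊥ := by
  apply h.core
  intro x
  rw [← hN x, cj_le_cj]
  exact hX

theorem Pr.eq_bot_of_top (h : Pr A B) {X : Subgroup G} (hX : X ≤ A) (hN : Nm X = ⊤) : X = ⊥ :=
  h.eq_bot_of_normal hX fun x => cj_of_mem_Nm (by rw [hN]; exact Subgroup.mem_top x)

theorem Pr.top_of (h : Pr A B) {M : Subgroup G} (h1 : A ≤ M) (h2 : ¬ M ≤ A) : M = ⊤ :=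
  h.max.2 M (lt_of_le_not_ge h1 h2)

theorem Pr.Nm_eq (h : Pr A B) {X : Subgroup G} (hX : X ≤ A) (h0 : X ≠ ⊥) (hA : A ≤ Nm X) : Nm X = A := by
  by_contra hcon
  apply h0
  apply h.eq_bot_of_top hX
  apply h.top_of hA
  intro h1
  exact hcon (le_antisymm h1 hA)

theorem Pr.not_le (h : Pr A B) : ¬ A ≤ B := by
  intro h1
  have := h.idx
  rw [inf_of_le_left h1, Subgroup.relIndex_self] at this
  omega

theorem Pr.gen (h : Pr A B) : A ⊔ B = ⊤ := by
  apply h.top_of le_sup_left
  intro h1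
  exact h.symm.not_le (le_sup_right.trans h1)

theorem Pr.U (h : Pr A B) : ∀ X ≤ A ⊓ B, A ≤ Nm X → B ≤ Nm X → X = ⊥ := by
  intro X hX h1 h2
  apply h.eq_bot_of_top (hX.trans inf_le_left)
  rw [eq_top_iff, ← h.gen]
  exact sup_le h1 h2

theorem Pr.toMn (h : Pr A B) (h1 : H2 A B) : Mn A B where
  toH2 := h1
  N := fun _ hX h0 hA => h.Nm_eq hX h0 hA
  gen := h.gen
  core := h.core

/-! ### The case where the local action is a 2-group -/

theorem relIndex_core_dvd {A C : Subgroup G} (_hCA : C ≤ A) (h4 : C.relIndex A = 4) : (core A C).relIndex A ∣ 24 := by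
  classical
  set C' : Subgroup A := C.subgroupOf A with hC'
  have hcard : Nat.card (A ⧸ C') = 4 := h4
  have h1 : (core A C).subgroupOf A = (MulAction.toPermHom A (A ⧸ C')).ker := by
    rw [← Subgroup.normalCore_eq_ker]
    ext a
    rw [Subgroup.mem_subgroupOf, mem_core]
    constructor
    · intro h b
      have := h b b.2
      exact this
    · intro h b hb
      exact h ⟨b, hb⟩
  have h2 : (core A C).relIndex A = Nat.card (MulAction.toPermHom A (A ⧸ C')).range := by
    rw [Subgroup.relIndex, h1, Subgroup.index_ker]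
  rw [h2]
  have h3 : Nat.card (Equiv.Perm (A ⧸ C')) = 24 := by
    rw [Nat.card_perm, hcard]
    rfl
  rw [← h3]
  exact Subgroup.card_subgroup_dvd_card _

theorem odd_mem_core {A C : Subgroup G} (hCA : C ≤ A) (h4 : C.relIndex A = 4) (h3 : ¬ 3 ∣ (core A C).relIndex A)
    {x : G} (hx : x ∈ A) (ho : Odd (orderOf x)) : x ∈ core A C := by
  have h1 : (core A C).relIndex A ∣ 8 := by
    have h2 := relIndex_core_dvd hCA h4
    have h5 : ((core A C).relIndex A).Coprime 3 := ((Nat.Prime.coprime_iff_not_dvd Nat.prime_three).2 h3).symm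
    have : (core A C).relIndex A ∣ 8 * 3 := h2
    exact h5.dvd_of_dvd_mul_right this
  obtain ⟨k, hk⟩ := h1
  have h2 : x ^ 8 ∈ core A C := by
    rw [hk, pow_mul]
    exact Subgroup.pow_mem _ (pow_relIndex_mem (le_Nm_core A C) hx) _
  refine mem_of_pow_mem (m := orderOf x) (n := 8) ?_ (pow_orderOf_eq_one x) h2
  have : (orderOf x).Coprime (2 ^ 3) := (Nat.Coprime.pow_right 3 (Nat.coprime_two_right.2 ho))
  exact this

theorem eq_set_of_conj {A B : Subgroup G} (hc : ∃ g, cj g A = B) {P : G → Prop}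
    (hP : ∀ g x, P x → P (g * x * g⁻¹)) (h1 : ∀ x ∈ A, P x → x ∈ B) : ∀ x ∈ B, P x → x ∈ A := by
  obtain ⟨g, rfl⟩ := hc
  have hfin : Set.Finite {x | x ∈ cj g A ∧ P x} := Set.toFinite _
  have hsub : {x | x ∈ A ∧ P x} ⊆ {x | x ∈ cj g A ∧ P x} := fun x hx => ⟨h1 x hx.1 hx.2, hx.2⟩
  have hcard : {x | x ∈ cj g A ∧ P x}.ncard = {x | x ∈ A ∧ P x}.ncard := by
    have h2 : {x | x ∈ cj g A ∧ P x} = (fun x => g * x * g⁻¹) '' {x | x ∈ A ∧ P x} := by
      ext y
      constructor
      · rintro ⟨hy, hy'⟩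
        refine ⟨g⁻¹ * y * g, ⟨mem_cj.1 hy, ?_⟩, by group⟩
        have := hP g⁻¹ y hy'
        rwa [inv_inv] at this
      · rintro ⟨x, ⟨hx, hx'⟩, rfl⟩
        exact ⟨conj_mem_cj.2 hx, hP g x hx'⟩
    rw [h2, Set.ncard_image_of_injective]
    intro x y hxy
    have : g * x * g⁻¹ = g * y * g⁻¹ := hxy
    exact mul_left_cancel (mul_right_cancel this)
  have heq := Set.eq_of_subset_of_ncard_le hsub hcard.le hfin
  intro x hx hPx
  have : x ∈ {x | x ∈ A ∧ P x} := by
    rw [heq]
    exact ⟨hx, hPx⟩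
  exact this.1

theorem odd_conj (g x : G) (h : Odd (orderOf x)) : Odd (orderOf (g * x * g⁻¹)) := by
  have : orderOf (g * x * g⁻¹) = orderOf x := by
    rw [← MulAut.conj_apply]
    exact orderOf_injective (MulAut.conj g).toMonoidHom (MulAut.conj g).injective x
  rwa [this]

theorem Pr.two_of_odd (h : Pr A B) (h1 : ∀ x ∈ A, Odd (orderOf x) → x ∈ B) (h2 : ∀ x ∈ B, Odd (orderOf x) → x ∈ A) :
    IsPGroup 2 A := by
  have h3 := pred_trivial h.U (P := fun x => Odd (orderOf x)) (fun g x hx => odd_conj g x hx) h1 h2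
  intro x
  have h4 := Nat.exists_eq_two_pow_mul_odd (n := orderOf x) (orderOf_pos x).ne'
  obtain ⟨k, m, hm, hk⟩ := h4
  refine ⟨k, ?_⟩
  have h5 : Odd (orderOf ((x : G) ^ 2 ^ k)) := by
    have h6 : orderOf ((x : G) ^ 2 ^ k) ∣ m := by
      rw [orderOf_dvd_iff_pow_eq_one, ← pow_mul, ← hk]
      exact congrArg Subtype.val (pow_orderOf_eq_one x)
    exact hm.of_dvd_nat h6
  have h6 := h3 _ (A.pow_mem x.2 (2 ^ k)) h5
  exact Subtype.ext h6

theorem Pr.isPGroup_two (h : Pr A B) (h3 : ¬ 3 ∣ (K A B).relIndex A) : IsPGroup 2 A := by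
  have h1 : ∀ x ∈ A, Odd (orderOf x) → x ∈ B := fun x hx ho =>
    (core_le A (A ⊓ B) (odd_mem_core inf_le_left h.idx h3 hx ho)).2
  exact h.two_of_odd h1 (eq_set_of_conj h.conj (fun g x hx => odd_conj g x hx) h1)

theorem Pr.isPGroup_two' (h : Pr A B) (h3 : ¬ 3 ∣ (K B A).relIndex B) : IsPGroup 2 A := by
  have h1 := h.symm.isPGroup_two h3
  obtain ⟨g, hg⟩ := h.conj
  rw [← hg] at h1
  exact isPGroup_cj_iff.1 h1

theorem Pr.cases (h : Pr A B) : IsPGroup 2 A ∨ P3 A B := by
  by_cases h1 : 3 ∣ (K A B).relIndex A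
  · by_cases h2 : 3 ∣ (K B A).relIndex B
    · exact Or.inr ⟨h.conj, h.idx, h.U, h1, h2⟩
    · exact Or.inl (h.isPGroup_two' h2)
  · exact Or.inl (h.isPGroup_two h1)

end

/-- A primitive group with a suborbit of length 4 gives the configuration. -/
theorem pr_of_primitive {G Ω : Type*} [Group G] [Finite G] [MulAction G Ω] [FaithfulSMul G Ω] [Finite Ω]
    (hprim : MulAction.IsPreprimitive G Ω) (a b : Ω)
    (h4 : Nat.card (MulAction.orbit (MulAction.stabilizer G a) b) = 4) :
    Pr (MulAction.stabilizer G a) (MulAction.stabilizer G b) := by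
  have hnt : Nontrivial Ω := by
    by_contra hcon
    rw [not_nontrivial_iff_subsingleton] at hcon
    have : Subsingleton (MulAction.orbit (MulAction.stabilizer G a) b) := inferInstance
    have h5 := Finite.card_le_one_iff_subsingleton.2 this
    omega
  have hconj : ∀ x : G, cj x (MulAction.stabilizer G a) = MulAction.stabilizer G (x • a) := by
    intro x
    rw [MulAction.stabilizer_smul_eq_stabilizer_map_conj]
    rfl
  constructor
  · exact (MulAction.isCoatom_stabilizer_iff_preprimitive G a).2 hprim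
  · intro X hX
    rw [eq_bot_iff]
    intro y hy
    rw [Subgroup.mem_bot]
    apply FaithfulSMul.eq_of_smul_eq_smul (M := G) (α := Ω)
    intro c
    obtain ⟨x, rfl⟩ := MulAction.exists_smul_eq G a c
    have := hX x hy
    rw [hconj, MulAction.mem_stabilizer_iff] at this
    rw [this, one_smul]
  · obtain ⟨g, hg⟩ := MulAction.exists_smul_eq G a b
    exact ⟨g, by rw [hconj, hg]⟩
  · rw [inf_comm, Subgroup.inf_relIndex_right, ← h4]
    have h5 := MulAction.index_stabilizer (MulAction.stabilizer G a) b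
    have h6 : MulAction.stabilizer (MulAction.stabilizer G a) b =
        (MulAction.stabilizer G b).subgroupOf (MulAction.stabilizer G a) := by
      ext x
      rfl
    rw [h6] at h5
    rw [Subgroup.relIndex, h5]
    rfl

end Cfsg.Agent.H399
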