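import Cfsg.Agent.H399.Setup
import Cfsg.Agent.Lib.NormalAbelian

/-!
# In the residual cases `G` is simple
-/

set_option autoImplicit false
set_option linter.unusedSectionVars false
set_option linter.unnecessarySeqFocus false

open Pointwise

namespace Cfsg.Agent.H399

variable {G : Type*} [Group G]

/-- a nontrivial normal subgroup of a 3-group meets `Ω₁(Z)` -/
theorem inf_OZ_ne [Finite G] {S X : Subgroup G} (hS : IsPGroup 3 S) (hX : X ≤ S) (hN : S ≤ Nm X) (h0 : X ≠ ⊥) :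
    X ⊓ OZ S ≠ ⊥ := by
  have : Fact (Nat.Prime 3) := ⟨Nat.prime_three⟩
  have hnil : Group.IsNilpotent S := hS.isNilpotent
  have h1 : (X.subgroupOf S).Normal := (Subgroup.normal_subgroupOf_iff_le_normalizer hX).2 hN
  have h2 : X.subgroupOf S ≠ ⊥ := by
    intro h
    rw [Subgroup.subgroupOf_eq_bot, disjoint_iff, inf_of_le_left hX] at h
    exact h0 h
  have h3 := Lib.NormalAbelian.normal_inf_center_ne_bot (X.subgroupOf S) h2
  have h4 : IsPGroup 3 (X.subgroupOf S ⊓ Subgroup.center S : Subgroup S) := hS.to_subgroup _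
  obtain ⟨m, hm⟩ := IsPGroup.iff_card.1 h4
  have hm0 : m ≠ 0 := by
    rintro rfl
    rw [pow_zero, Subgroup.card_eq_one] at hm
    exact h3 hm
  obtain ⟨x, hx⟩ := exists_prime_orderOf_dvd_card' (G := (X.subgroupOf S ⊓ Subgroup.center S : Subgroup S)) 3 (by
    rw [hm]
    exact dvd_pow_self _ hm0)
  intro h5
  have h6 : ((x : S) : G) ∈ X ⊓ OZ S := by
    refine ⟨x.2.1, x.1.2, ?_, fun y hy => ?_⟩
    · have h7 : x ^ 3 = 1 := by
        rw [← hx]
        exact pow_orderOf_eq_one x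
      exact congrArg (fun z : (X.subgroupOf S ⊓ Subgroup.center S : Subgroup S) => ((z : S) : G)) h7
    · have h7 := Subgroup.mem_center_iff.1 x.2.2 ⟨y, hy⟩
      exact (congrArg Subtype.val h7).symm
  rw [h5, Subgroup.mem_bot] at h6
  have h8 : x = 1 := Subtype.ext (Subtype.ext h6)
  rw [h8, orderOf_one] at hx
  norm_num at hx

section

variable [Finite G] {A B : Subgroup G}

theorem cj_normal {N : Subgroup G} (hN : N.Normal) (x : G) : cj x N = N :=
  cj_of_mem_Nm (by rw [Nm, Subgroup.normalizer_eq_top]; exact Subgroup.mem_top x)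

theorem Pr.inf_ne_bot (h : Pr A B) (hK : K A B ≠ ⊥) {N : Subgroup G} (hN : N.Normal) (hN1 : N ≠ ⊥) : A ⊓ N ≠ ⊥ := by
  intro h0
  have hNA : ¬ N ≤ A := fun h1 => hN1 (by rw [← h0, inf_of_le_right h1])
  have htop : A ⊔ N = ⊤ := h.top_of le_sup_left fun h1 => hNA (le_sup_right.trans h1)
  have hB0 : B ⊓ N = ⊥ := by
    obtain ⟨g, rfl⟩ := h.conj
    rw [← cj_normal hN g, ← cj_inf, h0, cj_bot]
  have hBN : B ≤ Nm (K A B) := by
    rw [le_Nm]
    intro b hb k hk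
    have hbt : b ∈ A ⊔ N := by rw [htop]; exact Subgroup.mem_top b
    have hAN : A ≤ Nm N := by
      rw [Nm, Subgroup.normalizer_eq_top]
      exact le_top
    rw [mul_mem_sup_iff hAN] at hbt
    obtain ⟨a, ha, n, hn, rfl⟩ := hbt
    have hak : a * k * a⁻¹ ∈ K A B := Nm_conj (le_Nm_K A B ha) hk
    have h1 : (a * n) * k * (a * n)⁻¹ * (a * k * a⁻¹)⁻¹ ∈ B ⊓ N := by
      refine ⟨B.mul_mem (B.mul_mem (B.mul_mem hb (K_le_right A B hk)) (B.inv_mem hb))
        (B.inv_mem (K_le_right A B hak)), ?_⟩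
      have e : (a * n) * k * (a * n)⁻¹ * (a * k * a⁻¹)⁻¹ = a * (n * (k * n⁻¹ * k⁻¹)) * a⁻¹ := by group
      rw [e]
      exact hN.conj_mem _ (N.mul_mem hn (hN.conj_mem _ (N.inv_mem hn) k)) a
    rw [hB0, Subgroup.mem_bot, mul_inv_eq_one] at h1
    rw [h1]
    exact hak
  exact hK (h.U _ (K_le A B) (le_Nm_K A B) hBN)

theorem Mn.toPr (h : Mn A B) (hmax : IsCoatom A) : Pr A B where
  max := hmax
  core := h.core
  conj := h.conj
  idx := h.idx

theorem le_Nm_normal {N A : Subgroup G} (hN : N.Normal) : A ≤ Nm N := by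
  rw [Nm, Subgroup.normalizer_eq_top]
  exact le_top

theorem Mn.inf_Z_ne (h : Mn A B) (hmax : IsCoatom A) {N : Subgroup G} (hN : N.Normal) (hN1 : N ≠ ⊥) :
    N ⊓ ZZ A B ≠ ⊥ := by
  have h1 := (h.toPr hmax).inf_ne_bot h.K_ne hN hN1
  have hD : A ≤ Nm (A ⊓ N) := inf_le_Nm (self_le_Nm A) (le_Nm_normal hN)
  have h2 : (A ⊓ N) ⊓ Op 3 A ≠ ⊥ := by
    intro h0
    apply h1
    have h3 := commute_of_inf_bot h0 (inf_le_left.trans (le_Nm_Op 3 A)) ((Op_le 3 A).trans hD)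
    rw [eq_bot_iff, ← h0]
    refine le_inf le_rfl ?_
    intro x hx
    exact h.cent_le h.two hx.1 fun y hy => (h3 x hx y hy).symm
  have h3 : A ≤ Nm ((A ⊓ N) ⊓ Op 3 A) := inf_le_Nm hD (le_Nm_Op 3 A)
  have h4 := inf_OZ_ne h.S_three (X := (A ⊓ N) ⊓ Op 3 A) (inf_le_right.trans le_sup_left) (h.S_le_A.trans h3) h2
  intro h5
  apply h4
  rw [eq_bot_iff, ← h5]
  exact inf_le_inf (inf_le_left.trans inf_le_right) le_rfl

theorem Mn.top_of_Q (h : Mn A B) {N : Subgroup G} (hN : N.Normal) (hQ : Op 3 A ≤ N) : N = ⊤ := by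
  obtain ⟨g, hg⟩ := h.conj
  have hQB : Op 3 B ≤ N := by
    rw [← hg, ← cj_Op, cj_le_iff, cj_normal hN]
    exact hQ
  have hS : SS A B ≤ N := sup_le hQ hQB
  have hM : MM A ≤ N := by
    rw [MM_eq h.isSyl]
    exact ncl_le hS (le_Nm_normal hN)
  have hMB : MM B ≤ N := by
    rw [← hg, ← cj_MM, cj_le_iff, cj_normal hN]
    exact hM
  have hC : A ⊓ B ≤ N := by
    rw [← h.K_sup]
    exact sup_le (h.K_le_MM.trans hM) (h.symm.K_le_MM.trans hMB)
  have hA : A ≤ N := by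
    rw [← h.MM_sup]
    exact sup_le hM hC
  have hB : B ≤ N := by
    rw [← hg, cj_le_iff, cj_normal hN]
    exact hA
  rw [eq_top_iff, ← h.gen]
  exact sup_le hA hB

theorem Mn.simple_one (h : Mn A B) (hmax : IsCoatom A) (h1 : Nat.card (YY A) = 1) (hb : ¬ VV A ≤ Op 3 B) :
    IsSimpleGroup G := by
  have hnt : Nontrivial G := by
    obtain ⟨a, ha, haC⟩ := h.exists_not
    refine ⟨a, 1, ?_⟩
    rintro rfl
    exact haC (Subgroup.one_mem _)
  refine ⟨fun N hN => ?_⟩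
  by_cases hN1 : N = ⊥
  · exact Or.inl hN1
  right
  apply h.top_of_Q hN
  have h2 := h.inf_Z_ne hmax hN hN1
  have h3 : N ⊓ ZZ A B = ZZ A B := by
    refine Subgroup.eq_of_le_of_card_ge inf_le_right ?_
    have h4 : Nat.card (N ⊓ ZZ A B : Subgroup G) ∣ 3 := by
      rw [← h.b1_cardZ h1]
      exact Subgroup.card_dvd_of_le inf_le_right
    rw [h.b1_cardZ h1]
    rcases (Nat.dvd_prime Nat.prime_three).1 h4 with h5 | h5
    · exact absurd (Subgroup.card_eq_one.1 h5) h2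
    · exact h5.ge
  rw [h.b1_Q_eq h1 hb, h.VV_eq]
  refine ncl_le ?_ (le_Nm_normal hN)
  rw [← h3]
  exact inf_le_left

theorem B2.simple (h : B2 A B) (hmax : IsCoatom A) : IsSimpleGroup G := by
  have hnt : Nontrivial G := by
    obtain ⟨a, ha, haC⟩ := h.exists_not
    refine ⟨a, 1, ?_⟩
    rintro rfl
    exact haC (Subgroup.one_mem _)
  refine ⟨fun N hN => ?_⟩
  by_cases hN1 : N = ⊥
  · exact Or.inl hN1
  right
  apply h.top_of_Q hN
  have h2 := h.inf_Z_ne hmax hN hN1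
  obtain ⟨r, hr, hr1⟩ : ∃ r ∈ N ⊓ ZZ A B, r ≠ 1 := by
    by_contra hcon
    push Not at hcon
    apply h2
    rw [eq_bot_iff]
    intro x hx
    rw [Subgroup.mem_bot]
    exact hcon x hx
  obtain ⟨k, hk, hkQ⟩ := h.exists_KQ
  have hEZ : EA (ZZ A B) := h.EA_V.mono h.Z_le_V
  have hrZ := hr.2
  have hrN := hr.1
  have hrZ : r ∈ ZZ A B := hrZ
  have hrN : r ∈ N := hrN
  rw [← h.YY_sup h.cardY, mul_mem_sup_iff (hEZ.le_Nm h.YY_le_Z h.YY_le_Z')] at hrZ
  obtain ⟨y, hy, y', hy', rfl⟩ := hrZ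
  have h4 : k * (y * y') * k⁻¹ ∈ N := hN.conj_mem _ hrN k
  have e1 : k * (y * y') * k⁻¹ = y * y'⁻¹ := by
    have e2 : k * y * k⁻¹ = y := by rw [h.cent_Y hk hy, mul_inv_cancel_right]
    have e3 : k * y' * k⁻¹ = y'⁻¹ := (h.YY_le_RR hy').2 k hk hkQ
    calc k * (y * y') * k⁻¹ = (k * y * k⁻¹) * (k * y' * k⁻¹) := by group
      _ = y * y'⁻¹ := by rw [e2, e3]
  rw [e1] at h4
  have hyy : y * y' = y' * y := hEZ.comm y (h.YY_le_Z hy) y' (h.YY_le_Z' hy')
  have h6 : y' * y' ∈ N := by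
    have := N.mul_mem (N.inv_mem h4) hrN
    have e : (y * y'⁻¹)⁻¹ * (y * y') = y' * y' := by group
    rwa [e] at this
  have h8 : y' ∈ N := sq_mem (h.YY_le_Z' hy').2.1 h6
  have h7 : y ∈ N := by
    have := N.mul_mem hrN (N.inv_mem h8)
    rwa [mul_inv_cancel_right] at this
  obtain ⟨g, hg, hg', -⟩ := h.swap
  have hYA : YY A ≤ N := by
    by_cases hy1 : y = 1
    · have hy'1 : y' ≠ 1 := by
        rintro rfl
        apply hr1
        rw [hy1, mul_one]
      have h9 : YY B ≤ N := by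
        rw [← eq_of_card_three (h.toMn.symm_card_YY h.cardY) hy' hy'1, Subgroup.zpowers_le]
        exact h8
      rw [← hg', ← cj_YY, cj_le_iff, cj_normal hN]
      exact h9
    · rw [← eq_of_card_three h.cardY hy hy1, Subgroup.zpowers_le]
      exact h7
  have hYB : YY B ≤ N := by
    rw [← hg, ← cj_YY, cj_le_iff, cj_normal hN]
    exact hYA
  have hZ : ZZ A B ≤ N := by
    rw [← h.YY_sup h.cardY]
    exact sup_le hYA hYB
  have hVB : VV B ≤ N := by
    rw [h.symm.VV_eq, ZZ_comm]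
    exact ncl_le hZ (le_Nm_normal hN)
  rw [← h.W_eq_Q]
  exact ncl_le hVB (le_Nm_normal hN)

end

end Cfsg.Agent.H399
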